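import Cfsg.Agent.N2.Sp2.MdSuz_m3
import Cfsg.Agent.N2.Sp.GLy
import Cfsg.Agent.TAB.J4.RkD_m3
import Cfsg.Agent.Prune
set_option linter.all false

-- part: N2/Sp3/Lyv
section
set_option linter.all false
open scoped Cfsg.Agent.FastGrp

/-!
# N2 (S3519), the row of Ly: the exact sieve (helper23; generated with notes/N2/sp45)
-/

set_option autoImplicit false

namespace Cfsg.Agent.N2.Sp3.Ly

open Cfsg Cfsg.Agent.N2.Sp Cfsg.Agent.N2.Sp.Ly Cfsg.Agent.N2.Sp1

/-- the types in the order of the search -/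
def O2 : Sp.Out :=
  [(1, 1, 6118280), (4, 6318, 6118280), (14, 1109508, 6118280), (5, 1, 6118280), (6, 1109508, 6118280), (7, 30,
    6118280), (3, 10, 6118280), (2, 1, 6118280)]

/-- the numbers of the elements of the types `2A 3A 3B 5A 6A` -/
def SL : List (ℕ × ℕ × ℕ × ℕ × ℕ) :=
  [(27, 8, 0, 0, 0), (15, 0, 0, 24, 0), (0, 35, 0, 9, 0), (0, 5, 30, 9, 0), (0, 0, 35, 9, 0), (15, 32, 0, 0, 0),
    (15, 0, 32, 0, 0), (25, 0, 0, 24, 0), (27, 26, 0, 0, 0), (15, 20, 0, 24, 0), (63, 8, 0, 0, 0), (0, 50, 0, 24,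
    0), (0, 0, 50, 24, 0), (15, 0, 0, 64, 0), (0, 40, 40, 0, 0), (0, 37, 43, 0, 0), (0, 34, 46, 0, 0), (0, 31, 49,
    0, 0), (0, 28, 52, 0, 0), (0, 25, 55, 0, 0), (0, 22, 58, 0, 0), (0, 19, 61, 0, 0), (0, 16, 64, 0, 0), (0, 13,
    67, 0, 0), (0, 10, 70, 0, 0), (0, 7, 73, 0, 0), (0, 4, 76, 0, 0), (0, 1, 79, 0, 0), (75, 0, 0, 24, 0), (27, 80,
    0, 0, 0), (27, 28, 52, 0, 0), (27, 24, 56, 0, 0), (27, 20, 60, 0, 0), (27, 16, 64, 0, 0), (27, 12, 68, 0, 0),
    (27, 8, 72, 0, 0), (27, 4, 76, 0, 0), (27, 0, 80, 0, 0), (15, 80, 0, 24, 0), (15, 0, 80, 24, 0), (15, 5, 0, 24,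
    75), (0, 0, 0, 124, 0), (0, 80, 0, 54, 0), (0, 20, 60, 54, 0), (0, 15, 65, 54, 0), (0, 10, 70, 54, 0), (0, 5,
    75, 54, 0), (0, 0, 80, 54, 0), (15, 35, 0, 0, 93), (15, 26, 0, 0, 102), (15, 17, 0, 0, 111), (15, 8, 0, 0, 120),
    (63, 80, 0, 0, 0), (63, 16, 64, 0, 0), (63, 0, 80, 0, 0), (75, 50, 0, 24, 0), (81, 16, 64, 0, 0), (81, 10, 70,
    0, 0), (81, 4, 76, 0, 0), (63, 26, 0, 0, 126), (135, 80, 0, 0, 0), (135, 0, 80, 0, 0), (0, 125, 0, 99, 0), (0,
    25, 100, 99, 0), (0, 0, 125, 99, 0), (15, 80, 0, 144, 0), (0, 130, 112, 0, 0), (0, 121, 121, 0, 0), (0, 112,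
    130, 0, 0), (0, 103, 139, 0, 0), (0, 94, 148, 0, 0), (0, 85, 157, 0, 0), (0, 76, 166, 0, 0), (0, 67, 175, 0, 0),
    (0, 58, 184, 0, 0), (0, 49, 193, 0, 0), (0, 40, 202, 0, 0), (0, 31, 211, 0, 0), (0, 22, 220, 0, 0), (0, 13, 229,
    0, 0), (0, 4, 238, 0, 0), (135, 80, 0, 54, 0), (75, 100, 100, 24, 0), (75, 0, 200, 24, 0), (75, 50, 0, 24, 150),
    (15, 35, 0, 144, 165), (135, 80, 0, 144, 0), (0, 125, 0, 249, 0), (63, 60, 128, 0, 180), (63, 44, 144, 0, 180),
    (63, 28, 160, 0, 180), (63, 12, 176, 0, 180), (63, 33, 128, 0, 207), (63, 17, 144, 0, 207), (63, 1, 160, 0,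
    207), (63, 134, 0, 0, 234), (63, 6, 128, 0, 234), (63, 107, 0, 0, 261), (63, 80, 0, 0, 288), (63, 53, 0, 0,
    315), (63, 26, 0, 0, 342), (207, 26, 0, 0, 198), (351, 80, 0, 0, 0), (243, 94, 148, 0, 0), (243, 76, 166, 0, 0),
    (243, 58, 184, 0, 0), (243, 40, 202, 0, 0), (243, 22, 220, 0, 0), (135, 80, 0, 324, 0), (175, 125, 0, 24, 275),
    (175, 50, 0, 24, 350), (135, 82, 160, 0, 270), (135, 58, 184, 0, 270), (135, 34, 208, 0, 270), (135, 10, 232, 0,
    270), (135, 1, 160, 0, 351), (0, 150, 200, 324, 0), (0, 125, 225, 324, 0), (0, 100, 250, 324, 0), (0, 75, 275,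
    324, 0), (0, 50, 300, 324, 0), (15, 65, 240, 144, 255), (15, 20, 240, 144, 300), (15, 125, 0, 144, 435), (15,
    80, 0, 144, 480), (15, 35, 0, 144, 525), (255, 35, 0, 144, 285), (495, 80, 0, 144, 0), (0, 112, 616, 0, 0), (0,
    85, 643, 0, 0), (0, 58, 670, 0, 0), (0, 31, 697, 0, 0), (0, 4, 724, 0, 0), (75, 125, 0, 324, 375), (243, 112,
    616, 0, 0), (243, 76, 652, 0, 0), (243, 40, 688, 0, 0), (243, 22, 220, 0, 486), (0, 175, 310, 729, 0), (0, 130,
    355, 729, 0), (351, 118, 448, 0, 378), (351, 70, 496, 0, 378), (351, 22, 544, 0, 378), (351, 85, 400, 0, 459),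
    (351, 37, 448, 0, 459), (351, 100, 304, 0, 540), (351, 52, 352, 0, 540), (351, 4, 400, 0, 540), (351, 67, 256,
    0, 621), (351, 19, 304, 0, 621), (225, 50, 300, 324, 450), (243, 112, 616, 0, 486), (243, 58, 670, 0, 486),
    (243, 4, 724, 0, 486), (729, 112, 616, 0, 0), (135, 145, 340, 324, 675), (135, 85, 400, 324, 675), (135, 25,
    460, 324, 675), (567, 112, 616, 0, 648), (567, 40, 688, 0, 648), (567, 85, 400, 0, 891), (567, 13, 472, 0, 891),
    (0, 100, 1600, 324, 0), (675, 125, 900, 324, 675), (243, 85, 1372, 0, 1215), (243, 112, 616, 0, 1944), (243, 4,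
    724, 0, 1944), (1215, 112, 616, 0, 972), (375, 125, 0, 624, 1875), (1215, 94, 1120, 0, 1458), (1215, 40, 688, 0,
    1944), (675, 100, 1600, 324, 1350), (1215, 58, 2128, 0, 2430), (1375, 125, 0, 624, 3875), (675, 25, 3700, 324,
    3375), (675, 100, 1600, 324, 5400), (1215, 58, 2128, 0, 8262), (3375, 250, 46000, 24624, 87750)]

/-- the vector -/
def mk (s : ℕ × ℕ × ℕ × ℕ × ℕ) : List ℕ := [1, s.1, s.2.1, s.2.2.1, 0, s.2.2.2.1, 0, s.2.2.2.2]

/-- the solutions -/
def SOL : List (List ℕ) := SL.map mk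

section Short

open Cfsg.Agent.FP3 Cfsg.Agent.TAB.Eng Cfsg.Agent.TAB.Use Cfsg.Agent.SB.SporL Cfsg.Agent.TH.Spor
open Cfsg.Agent.SM.Sp (cond_ff val)

variable {K : Type} [Group K] [Finite K] {T : TD K D} {A : Subgroup K}

omit [Finite K] in
theorem val_short {k : ℕ} (h : ∀ a ∈ A, T.ty a < k) (w : List ℤ) : val T A (w.take k) = val T A w := by
  refine Finset.sum_congr rfl fun t _ => ?_
  by_cases h1 : num T A t = 0
  · rw [h1, Nat.cast_zero, zero_mul, zero_mul]
  · obtain ⟨a, ha, rfl⟩ := num_ne h1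
    rw [nth_eq, nth_eq, List.getD_eq_getElem?_getD, List.getD_eq_getElem?_getD, List.getElem?_take, if_pos (h a ha)]

/-- the check with the first `k` types and four inequalities -/
noncomputable def shrt (k : ℕ) (κ : List (List ℤ) → List (List ℤ) → Bool) : Bool :=
  Sp.frcW (mapL (fun i => (ntd (rowsP R) [] i).take k) [2, 27, 31, 29]) fun WP =>
    Sp.frcW (mapL (fun r => r.2.take k) R.rel) fun WR => κ WP WR

/-- the check for a list of orders -/
noncomputable def chkShort (CL : List Ct) : Bool :=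
  cond (okIdx R) (frcL nu fun ν' => frcV SOL fun S => shrt 8 fun WP WR => shrt 15 fun WP' WR' =>
    allL (fun c => cond (Nat.blt c.1 1109508) (oneB D ν' O2 WP WR S c) (oneB D ν' O2 WP' WR' S c)) CL) false

theorem oneB_short (H : Sp.Hy T R nu) (hb : ¬ Good A) {U : ℕ} (hO : Res T A O2 U) (h1 : okIdx R = true) {k : ℕ}
    (hk : ∀ a ∈ A, T.ty a < k) {f : ℕ} {ds : List ℕ} {C : List (List (ℕ × ℕ))}
    (h : oneB D nu O2 (mapL (fun i => (ntd (rowsP R) [] i).take k) [2, 27, 31, 29]) (mapL (fun r => r.2.take k) R.rel) SOL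
      (Nat.card A, f, ds, C) = true) : ∃ v ∈ SOL, Vec T A v := by
  obtain ⟨h4, h5⟩ := cond_ff h
  rw [flt_eq, flt_eq] at h5
  have hf : ∀ a ∈ A, f ≤ fx A a := fun a ha => H.le_fx hb le_rfl (Nat.le_of_ble_eq_true h4) ha
  have h6 : Sup T A ((mapL Prod.fst O2).filter fun t => anyL (fun e => Nat.beq e.1 t && Nat.ble e.2.1 (Nat.card A) &&
      Nat.ble (Nat.card A) e.2.2) O2 && Nat.beq (Nat.mod (Nat.card A) (D.ord t)) 0 &&
      Nat.ble (thr D nu f (Nat.card A) t) (Nat.card A)) := fun a ha => (hO.2 a ha).imp id fun ⟨e, h6, h7, h8, h9⟩ => by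
    refine List.mem_filter.2 ⟨mapL_eq _ O2 ▸ List.mem_map.2 ⟨e, h6, h7.symm⟩, ?_⟩
    rw [anyL_of h6 (by rw [h7, Nat.beq_refl, Nat.ble_eq_true_of_le h8, Nat.ble_eq_true_of_le h9]; rfl), ← T.ord,
      show Nat.mod (Nat.card A) (orderOf a) = 0 from Nat.mod_eq_zero_of_dvd (A.orderOf_dvd_natCard ha),
      Nat.ble_eq_true_of_le ((thr_le H (hf a ha)).trans (num_le A _))]
    rfl
  refine one_spec (H.num0 A) (fun w hw => ?_) (fun w hw => ?_) (fun a ha => (h6 a ha).imp id fun h7 =>
    List.mem_filter.2 ⟨h7, allL_of fun d _ => ?_⟩) (fun t _ => or_iff_not_imp_left.2 fun h7 => ?_) h5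
  · rw [mapL_eq] at hw
    obtain ⟨i, -, rfl⟩ := List.mem_map.1 hw
    rw [val_short hk]
    rcases ntd_mem (rowsP R) [] i with e | e
    · rw [e]
      exact (Finset.sum_eq_zero fun t _ => mul_zero _).ge
    · exact H.pos (pos_nil A) _ e
  · rw [mapL_eq] at hw
    obtain ⟨r, hr, rfl⟩ := List.mem_map.1 hw
    show _ ∣ val T A _
    rw [val_short hk]
    exact dv_rel H.tab h1 A _ (mapL_eq _ R.rel ▸ List.mem_map_of_mem hr)
  · rw [frc_eq, ← T.pow]
    rcases h6 _ (A.pow_mem ha d) with h8 | h8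
    · rw [h8]
      rfl
    · rw [mem_of h8, Bool.or_true]
  · obtain ⟨a, ha, rfl⟩ := num_ne h7
    exact thr_le H (hf a ha)

theorem bad_short (H : Sp.Hy T R nu) (hb : ¬ Good A) {U : ℕ} (hO : Res T A O2 U) {CL : List Ct} (h : chkShort CL = true)
    (hm : Nat.card A ∈ CL.map Prod.fst) : ∃ v ∈ SOL, Vec T A v := by
  obtain ⟨h1, h2⟩ := cond_ff h
  simp only [frcL_eq, frcV_eq, shrt, Sp.frcW_eq] at h2
  obtain ⟨⟨m, f, ds, C⟩, h3, rfl : m = _⟩ := List.mem_map.1 hm
  have h4 := allL_spec h2 _ h3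
  have h5 : ∀ e ∈ O2, e.1 < 15 ∧ (e.2.1 < 1109508 → e.1 < 8) := by decide +kernel
  cases e : Nat.blt (Nat.card A) 1109508 with
  | true =>
    rw [show Nat.blt (Nat.card A, f, ds, C).1 1109508 = true from e, cond_true] at h4
    exact oneB_short H hb hO h1 (fun a ha => (hO.2 a ha).elim (fun h => h ▸ by decide) fun ⟨x, h6, h7, h8, _⟩ =>
      h7 ▸ (h5 x h6).2 (h8.trans_lt (Nat.blt_eq ▸ e))) h4
  | false =>
    rw [show Nat.blt (Nat.card A, f, ds, C).1 1109508 = false from e, cond_false] at h4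
    exact oneB_short H hb hO h1 (fun a ha => (hO.2 a ha).elim (fun h => h ▸ by decide) fun ⟨x, h6, h7, _⟩ =>
      h7 ▸ (h5 x h6).1) h4

end Short

end Cfsg.Agent.N2.Sp3.Ly
end

-- part: N2/Sp/GMcL
section
set_option linter.all false

/-!
# N2 (S3519), sporadic rows: McL (helper16; generated by notes/N2/sp16/emit.py.txt)

Types which are left, with order, letter in the order of the table, and bound for the fixed points: 1 = 2a (40320), 2
      = 3a (29160), 3 = 3b (972), 4 = 4a (96), 5 = 5a (750), 7 = 6a (360).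
-/

set_option autoImplicit false
set_option Elab.async false

namespace Cfsg.Agent.N2.Sp.McL

open Cfsg Cfsg.Agent.FP3 Cfsg.Agent.TAB.Eng Cfsg.Agent.TAB.Use

/-- the data -/
abbrev D : Dat := TAB.McL.D

/-- the table -/
noncomputable abbrev R : Rows := TAB.McL.RR

/-- the densities -/
def nu : List ℕ :=
  [1, 22275, 30800, 924000, 9355500, 1197504, 35925120, 2494800, 24948000, 128304000, 112266000, 66528000, 29937600,
      163296000, 74844000, 128304000, 59875200, 59875200]

/-- type, lower and upper bound for the order -/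
def O : Out :=
  [(1, 1, 6291), (2, 1, 6291), (3, 3, 6291), (4, 1016, 6291), (5, 3, 5469), (7, 20, 6291)]

/-- the types -/
def S : List ℕ := [1, 2, 3, 4, 5, 7]

/-- the certificates -/
def L : List (ℕ × ℕ × List St) := [
  (33955689, 3, [.fk 13 [(5520974290, 3), (987821380, 6), (933694181, 8), (10000000000, 9), (4106901218, 12),
      (8738159675, 13), (4492557510, 14), (8146143437, 15), (7060216509, 16), (7253044655, 17)] 0 17043624 [(44, 1)]
      [(2175, 16, 3)],
    .fk 9 [(5296803653, 5), (10000000000, 6), (9589041096, 7), (6027397260, 8), (4931506849, 11), (867579909, 12),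
      (2146118721, 16), (1872146119, 17)] 0 7528910 [(53, 1)] [],
    .pw 15 2,
    .fk 10 [(4313725490, 2), (392156863, 5), (392156863, 6), (3267973856, 10), (9542483660, 11), (392156863, 12),
      (196078431, 13), (10000000000, 14), (4836601307, 15), (4444444444, 16), (718954248, 17)] 0 13470843 [(41, 1)]
      [(16, 17, 2)],
    .fk 0 [(84400, 8), (13547147, 11), (6942374, 12), (80016880, 14), (66300932, 15), (53175786, 16), (100000000,
      17)] 0 166276 [] [(280, 7, 2), (3527, 7, 3), (22, 16, 3), (1, 17, 2), (2, 17, 3)]]),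
  (29526685, 3, [.fk 13 [(5520974290, 3), (987821380, 6), (933694181, 8), (10000000000, 9), (4106901218, 12),
      (8738159675, 13), (4492557510, 14), (8146143437, 15), (7060216509, 16), (7253044655, 17)] 0 19600169 [(44, 1)]
      [(2175, 16, 3)],
    .fk 9 [(5296803653, 5), (10000000000, 6), (9589041096, 7), (6027397260, 8), (4931506849, 11), (867579909, 12),
      (2146118721, 16), (1872146119, 17)] 0 8658246 [(53, 1)] [],
    .pw 15 2,
    .fk 10 [(4313725490, 2), (392156863, 5), (392156863, 6), (3267973856, 10), (9542483660, 11), (392156863, 12),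
      (196078431, 13), (10000000000, 14), (4836601307, 15), (4444444444, 16), (718954248, 17)] 0 15491470 [(41, 1)]
      [(16, 17, 2)],
    .fk 0 [(84400, 8), (13547147, 11), (6942374, 12), (80016880, 14), (66300932, 15), (53175786, 16), (100000000,
      17)] 0 191217 [] [(280, 7, 2), (3527, 7, 3), (22, 16, 3), (1, 17, 2), (2, 17, 3)]]),
  (25675377, 4, [.fk 13 [(7703765429, 3), (4918493828, 6), (3891463986, 9), (3124837248, 12), (10000000000, 13),
      (297901151, 14), (2374355502, 16)] 0 4416453 [(59, 1)] [(1931, 16, 3)],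
    .fk 9 [(4961325967, 5), (10000000000, 6), (9944751381, 7), (6298342541, 8), (4729281768, 11), (1878453039, 12),
      (834254144, 13), (1906077348, 16)] 0 8366250 [(55, 1)] [(2768, 12, 2)],
    .pw 15 2,
    .fk 10 [(3644388398, 2), (762925599, 6), (8587641866, 11), (1765447667, 12), (56746532, 13), (10000000000, 14),
      (3940731400, 15), (2704918033, 16)] 0 14321797 [(45, 1)] [(3185, 12, 2)],
    .fk 0 [(84400, 8), (13547147, 11), (6942374, 12), (80016880, 14), (66300932, 15), (53175786, 16), (100000000,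
      17)] 0 219900 [] [(280, 7, 2), (3527, 7, 3), (22, 16, 3), (1, 17, 2), (2, 17, 3)]]),
  (22326413, 4, [.fk 13 [(7703765429, 3), (4918493828, 6), (3891463986, 9), (3124837248, 12), (10000000000, 13),
      (297901151, 14), (2374355502, 16)] 0 5078921 [(59, 1)] [(1931, 16, 3)],
    .fk 9 [(4961325967, 5), (10000000000, 6), (9944751381, 7), (6298342541, 8), (4729281768, 11), (1878453039, 12),
      (834254144, 13), (1906077348, 16)] 0 9621189 [(55, 1)] [(2768, 12, 2)],
    .pw 15 2,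
    .fk 10 [(3644388398, 2), (762925599, 6), (8587641866, 11), (1765447667, 12), (56746532, 13), (10000000000, 14),
      (3940731400, 15), (2704918033, 16)] 0 16470067 [(45, 1)] [(3185, 12, 2)],
    .fk 0 [(84400, 8), (13547147, 11), (6942374, 12), (80016880, 14), (66300932, 15), (53175786, 16), (100000000,
      17)] 0 252885 [] [(280, 7, 2), (3527, 7, 3), (22, 16, 3), (1, 17, 2), (2, 17, 3)]]),
  (19414271, 4, [.fk 13 [(7703765429, 3), (4918493828, 6), (3891463986, 9), (3124837248, 12), (10000000000, 13),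
      (297901151, 14), (2374355502, 16)] 0 5840760 [(59, 1)] [(1931, 16, 3)],
    .fk 9 [(4961325967, 5), (10000000000, 6), (9944751381, 7), (6298342541, 8), (4729281768, 11), (1878453039, 12),
      (834254144, 13), (1906077348, 16)] 0 11064368 [(55, 1)] [(2768, 12, 2)],
    .pw 15 2,
    .fk 10 [(3644388398, 2), (762925599, 6), (8587641866, 11), (1765447667, 12), (56746532, 13), (10000000000, 14),
      (3940731400, 15), (2704918033, 16)] 0 18940579 [(45, 1)] [(3185, 12, 2)],
    .fk 0 [(84400, 8), (13547147, 11), (6942374, 12), (80016880, 14), (66300932, 15), (53175786, 16), (100000000,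
      17)] 0 290818 [] [(280, 7, 2), (3527, 7, 3), (22, 16, 3), (1, 17, 2), (2, 17, 3)]]),
  (16881973, 4, [.fk 13 [(7703765429, 3), (4918493828, 6), (3891463986, 9), (3124837248, 12), (10000000000, 13),
      (297901151, 14), (2374355502, 16)] 0 6716875 [(59, 1)] [(1931, 16, 3)],
    .fk 9 [(4961325967, 5), (10000000000, 6), (9944751381, 7), (6298342541, 8), (4729281768, 11), (1878453039, 12),
      (834254144, 13), (1906077348, 16)] 0 12724024 [(55, 1)] [(2768, 12, 2)],
    .pw 15 2,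
    .fk 10 [(3644388398, 2), (762925599, 6), (8587641866, 11), (1765447667, 12), (56746532, 13), (10000000000, 14),
      (3940731400, 15), (2704918033, 16)] 0 21781668 [(45, 1)] [(3185, 12, 2)],
    .fk 0 [(84400, 8), (13547147, 11), (6942374, 12), (80016880, 14), (66300932, 15), (53175786, 16), (100000000,
      17)] 0 334440 [] [(280, 7, 2), (3527, 7, 3), (22, 16, 3), (1, 17, 2), (2, 17, 3)]]),
  (14679975, 4, [.fk 13 [(7703765429, 3), (4918493828, 6), (3891463986, 9), (3124837248, 12), (10000000000, 13),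
      (297901151, 14), (2374355502, 16)] 0 7724406 [(59, 1)] [(1931, 16, 3)],
    .fk 9 [(4961325967, 5), (10000000000, 6), (9944751381, 7), (6298342541, 8), (4729281768, 11), (1878453039, 12),
      (834254144, 13), (1906077348, 16)] 0 14632629 [(55, 1)] [(2768, 12, 2)],
    .pw 15 2,
    .fk 10 [(3644388398, 2), (762925599, 6), (8587641866, 11), (1765447667, 12), (56746532, 13), (10000000000, 14),
      (3940731400, 15), (2704918033, 16)] 0 25048921 [(45, 1)] [(3185, 12, 2)],
    .fk 0 [(84400, 8), (13547147, 11), (6942374, 12), (80016880, 14), (66300932, 15), (53175786, 16), (100000000,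
      17)] 0 384607 [] [(280, 7, 2), (3527, 7, 3), (22, 16, 3), (1, 17, 2), (2, 17, 3)]]),
  (12765194, 4, [.fk 13 [(7703765429, 3), (4918493828, 6), (3891463986, 9), (3124837248, 12), (10000000000, 13),
      (297901151, 14), (2374355502, 16)] 0 8883069 [(59, 1)] [(1931, 16, 3)],
    .fk 9 [(4961325967, 5), (10000000000, 6), (9944751381, 7), (6298342541, 8), (4729281768, 11), (1878453039, 12),
      (834254144, 13), (1906077348, 16)] 0 16827526 [(55, 1)] [(2768, 12, 2)],
    .pw 15 2,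
    .fk 10 [(3644388398, 2), (762925599, 6), (8587641866, 11), (1765447667, 12), (56746532, 13), (10000000000, 14),
      (3940731400, 15), (2704918033, 16)] 0 28806262 [(45, 1)] [(3185, 12, 2)],
    .fk 0 [(84400, 8), (13547147, 11), (6942374, 12), (80016880, 14), (66300932, 15), (53175786, 16), (100000000,
      17)] 0 442298 [] [(280, 7, 2), (3527, 7, 3), (22, 16, 3), (1, 17, 2), (2, 17, 3)]]),
  (11100167, 5, [.fk 13 [(100000000, 3), (37500000, 6), (68750000, 13), (20312500, 16)] 0 61296 [(1, 1)] [],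
    .fk 9 [(1317786990, 5), (10000000000, 6), (7903678409, 7), (4286383862, 8), (2826342348, 12), (3608742231, 13),
      (1424888759, 16)] 0 12131553 [(47, 1)] [(74941, 4, 2), (3564, 12, 2)],
    .pw 15 2,
    .fk 10 [(70958260, 2), (411523, 5), (35890653, 6), (100000000, 11), (100000000, 14), (20958260, 15), (24691358,
      16)] 0 319172 [(1, 1)] [(27, 12, 2), (1, 17, 2)],
    .fk 0 [(84400, 8), (13547147, 11), (6942374, 12), (80016880, 14), (66300932, 15), (53175786, 16), (100000000,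
      17)] 0 508642 [] [(280, 7, 2), (3527, 7, 3), (22, 16, 3), (1, 17, 2), (2, 17, 3)]]),
  (9652318, 5, [.fk 13 [(100000000, 3), (37500000, 6), (68750000, 13), (20312500, 16)] 0 70491 [(1, 1)] [],
    .fk 9 [(1317786990, 5), (10000000000, 6), (7903678409, 7), (4286383862, 8), (2826342348, 12), (3608742231, 13),
      (1424888759, 16)] 0 13951287 [(47, 1)] [(74941, 4, 2), (3564, 12, 2)],
    .pw 15 2,
    .fk 10 [(70958260, 2), (411523, 5), (35890653, 6), (100000000, 11), (100000000, 14), (20958260, 15), (24691358,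
      16)] 0 367047 [(1, 1)] [(27, 12, 2), (1, 17, 2)],
    .fk 0 [(84400, 8), (13547147, 11), (6942374, 12), (80016880, 14), (66300932, 15), (53175786, 16), (100000000,
      17)] 0 584939 [] [(280, 7, 2), (3527, 7, 3), (22, 16, 3), (1, 17, 2), (2, 17, 3)]]),
  (8393319, 5, [.fk 13 [(100000000, 3), (37500000, 6), (68750000, 13), (20312500, 16)] 0 81064 [(1, 1)] [],
    .fk 9 [(1317786990, 5), (10000000000, 6), (7903678409, 7), (4286383862, 8), (2826342348, 12), (3608742231, 13),
      (1424888759, 16)] 0 16043982 [(47, 1)] [(74941, 4, 2), (3564, 12, 2)],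
    .pw 15 2,
    .fk 10 [(70958260, 2), (411523, 5), (35890653, 6), (100000000, 11), (100000000, 14), (20958260, 15), (24691358,
      16)] 0 422104 [(1, 1)] [(27, 12, 2), (1, 17, 2)],
    .fk 0 [(84400, 8), (13547147, 11), (6942374, 12), (80016880, 14), (66300932, 15), (53175786, 16), (100000000,
      17)] 0 672680 [] [(280, 7, 2), (3527, 7, 3), (22, 16, 3), (1, 17, 2), (2, 17, 3)]]),
  (7298537, 5, [.fk 13 [(100000000, 3), (37500000, 6), (68750000, 13), (20312500, 16)] 0 93224 [(1, 1)] [],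
    .fk 9 [(1317786990, 5), (10000000000, 6), (7903678409, 7), (4286383862, 8), (2826342348, 12), (3608742231, 13),
      (1424888759, 16)] 0 18450583 [(47, 1)] [(74941, 4, 2), (3564, 12, 2)],
    .pw 15 2,
    .fk 10 [(70958260, 2), (411523, 5), (35890653, 6), (100000000, 11), (100000000, 14), (20958260, 15), (24691358,
      16)] 0 485420 [(1, 1)] [(27, 12, 2), (1, 17, 2)],
    .fk 0 [(84400, 8), (13547147, 11), (6942374, 12), (80016880, 14), (66300932, 15), (53175786, 16), (100000000,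
      17)] 0 773582 [] [(280, 7, 2), (3527, 7, 3), (22, 16, 3), (1, 17, 2), (2, 17, 3)]]),
  (7185025, 5, [.fk 13 [(100000000, 3), (37500000, 6), (68750000, 13), (20312500, 16)] 0 94697 [(1, 1)] [],
    .fk 9 [(1317786990, 5), (10000000000, 6), (7903678409, 7), (4286383862, 8), (2826342348, 12), (3608742231, 13),
      (1424888759, 16)] 0 18742073 [(47, 1)] [(74941, 4, 2), (3564, 12, 2)],
    .pw 15 2,
    .fk 10 [(70958260, 2), (411523, 5), (35890653, 6), (100000000, 11), (100000000, 14), (20958260, 15), (24691358,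
      16)] 0 493089 [(1, 1)] [(27, 12, 2), (1, 17, 2)],
    .fk 0 [(84400, 8), (13547147, 11), (6942374, 12), (80016880, 14), (66300932, 15), (53175786, 16), (100000000,
      17)] 0 785803 [] [(280, 7, 2), (3527, 7, 3), (22, 16, 3), (1, 17, 2), (2, 17, 3)]]),
  (3298580, 6, [.fk 0 [(6868, 2), (75144, 4), (130088, 5), (128472, 6), (176144, 7), (172912, 8), (174124, 9),
      (204424, 10), (353500, 11), (27472, 12), (27472, 13), (294516, 14), (303000, 15), (361984, 16), (382588, 17)] 0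
      10000 [] []]),
  (2868329, 7, [.fk 9 [(1000000, 5)] 0 0 [(4, 1)] [],
    .pw 15 2,
    .fk 10 [(7368421053, 1), (10000000000, 2), (526315789, 12)] 0 1109760 [(122, 1), (108, 2)] [],
    .fk 14 [(7154213037, 4), (1415512151, 8), (5009652510, 16), (10000000000, 17)] 0 113614514 [(45, 1), (21, 3)]
      [(93686, 7, 2)],
    .fk 0 [(18414775, 8), (50867427, 11), (26754735, 12), (100000000, 14), (65565816, 15), (53509469, 16), (67133514,
      17)] 0 2006215 [] [(232, 7, 2), (2703, 7, 3), (10, 12, 2), (18, 16, 3), (1, 17, 2)]]),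
  (2618449, 7, [.fk 9 [(1000000, 5)] 0 0 [(4, 1)] [],
    .pw 15 2,
    .fk 10 [(7368421053, 1), (10000000000, 2), (526315789, 12)] 0 1215665 [(122, 1), (108, 2)] [],
    .fk 14 [(7154213037, 4), (1415512151, 8), (5009652510, 16), (10000000000, 17)] 0 124456809 [(45, 1), (21, 3)]
      [(93686, 7, 2)],
    .fk 0 [(18414775, 8), (50867427, 11), (26754735, 12), (100000000, 14), (65565816, 15), (53509469, 16), (67133514,
      17)] 0 2197669 [] [(232, 7, 2), (2703, 7, 3), (10, 12, 2), (18, 16, 3), (1, 17, 2)]]),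
  (214753, 8, [.fk 0 [(2104, 4), (6313, 5), (12204, 8), (9679, 9), (15150, 10), (19779, 11), (2104, 12), (2104, 13),
      (25671, 14), (19569, 15), (23567, 16), (25671, 17)] 0 10000 [] []]),
  (57590, 17, [.fk 0 [(135, 5), (269, 9), (135, 10), (606, 11), (707, 14), (673, 15), (539, 16), (774, 17)] 0 1000 []
      []]),
  (57481, 25, [.fk 0 [(9849479, 5), (27830272, 9), (60515359, 11), (7042477, 12), (75918905, 14), (70354848, 15),
      (51005517, 16), (76678094, 17)] 0 100000000 [] [(33, 12, 2)]]),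
  (17690, 26, [.fk 0 [(2, 3), (3, 13), (3, 15), (3, 16), (3, 17)] 0 10 [] []]),
  (6292, 38, [.fk 0 [(97, 6), (388, 8), (745, 12), (2347, 13), (1780, 15), (1319, 16)] 0 10000 [] []]),
  (5470, 53, [.fk 5 [(5488095555, 6), (1169523125, 12), (6860119444, 13), (1079643107, 16)] 0 10000000000 [(84, 1)]
      [(40447, 4, 2)]]),
  (4755, 55, []),
  (4133, 58, []),
  (3593, 61, []),
  (1016, 63, []),
  (20, 97, []),
  (3, 362, []),
  (1, 766, [.fk 3 [] 10000000000 0 [(22, 1)] []])]

theorem okz : okZ D = true := by decide +kernel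

theorem ok : chk D R nu [] (List.range' 1 (D.n - 1)) O 6291 0 39049043 L = true :=
  chk_of (by decide +kernel)

variable {K : Type} [Group K] [Finite K] {T : TD K D} {A : Subgroup K}

theorem res (H : Hy T R nu) (hb : ¬ Good A) (hA : A ≠ ⊤) : Res T A O 6291 :=
  H.res hb (pos_nil A) (sup_all A) Nat.card_pos
    ((H.card_le (md := 22) (by decide +kernel) hA).trans (by decide +kernel)) ok

end Cfsg.Agent.N2.Sp.McL
end
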