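import Cfsg.Agent.N2.Sp3.Lyv_m3
import Cfsg.Agent.Prune
set_option linter.all false
prune_inst 0x7f00000000000000000000000000000000000000000000000000000000000000000000000000000000000000000000000000000000000000000000000000000000000000000000000000000000000000003fffffffffffffffffffffffffffbeffbdffffffff
private noncomputable def lq26ded7207b {T : Sort _} (f :
    type_of% (@_root_.List.cons.{0}) →
    type_of% (@_root_.Prod.mk.{0, 0}) →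
    type_of% (@_root_.List.nil.{0}) →
    type_of% (@_root_.List.cons.{0} (Prod Nat (Prod Nat (Prod (List Nat) (List (List (Prod Nat Nat))))))) → T) : T :=
  f (@_root_.List.cons.{0}) (@_root_.Prod.mk.{0, 0}) (@_root_.List.nil.{0}) (@_root_.List.cons.{0} (Prod Nat (Prod Nat (Prod (List Nat) (List (List (Prod Nat Nat)))))))

/-!
# N2 (S3519), the row of Ly: the exact sieve, part 0 (helper23; generated with notes/N2/sp45)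
-/

set_option autoImplicit false
set_option maxRecDepth 100000

namespace Cfsg.Agent.N2.Sp3.Ly

open Cfsg Cfsg.Agent.N2.Sp Cfsg.Agent.N2.Sp.Ly Cfsg.Agent.N2.Sp1

/-- the certificates -/
noncomputable def CL0 : List Ct := (beta% delta% lq26ded7207b fun a b c _ =>
 (a (b 30<|b 119943<|b (a 30<|c) (a c<|a (a (b 27 0)<|a (b 21 5)<|a (b 1 7)<|a (b 7 21)<|a (b 12 30)<|a (b 1 39)<|c)<|a (a (b 21 0)<|a (b 3 5)<|a (b 24 7)<|a (b 9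
 21)<|a (b 29 30)<|c)<|a (a (b 21 0)<|a (b 23 5)<|a (b 20 7)<|a (b 1 21)<|c)<|a (a (b 3 0)<|a (b 29 5)<|c)<|a (a (b 1 39)<|c)<|c))<|c))

/-- the other certificates -/
noncomputable def CLa : List Ct := (beta% delta% lq26ded7207b fun a b c d =>
 (let e:=(let e:=(let e:=(let e:=(d (b 2700000<|b 2677<|b (a 2700000<|c) (a c<|a (a (b 2060433 0)<|a (b 1679399 1)<|a (b 265543 2)<|a (b 730467 3)<|a (b 1798791 4)<|a (b 1535351 5)<|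
 a (b 1866342 6)<|a (b 2110416 7)<|a (b 8873 8)<|c)<|a (a (b 2266032 0)<|a (b 468956 1)<|a (b 1416773 2)<|a (b 2002478 3)<|a (b 1323942 4)<|
 a (b 1426331 5)<|a (b 49177 6)<|a (b 67837 7)<|c)<|a (a (b 1256745 0)<|a (b 871483 1)<|a (b 438287 2)<|a (b 1962135 3)<|a (b 916393 4)<|
 a (b 1013691 5)<|a (b 2607633 6)<|c)<|a (a (b 2526960 0)<|a (b 1940905 1)<|a (b 378872 2)<|a (b 1893651 3)<|a (b 2139345 4)<|a (b 2468238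
 5)<|c)<|a (a (b 410418 0)<|a (b 1381236 1)<|a (b 1811703 2)<|a (b 528231 3)<|a (b 803020 4)<|a (b 1 5)<|c)<|a (a (b 342674 0)<|a (b 643929 1)<|
 a (b 2046331 2)<|a (b 143409 3)<|c)<|a (a (b 1736649 0)<|a (b 366564 1)<|a (b 2699967 2)<|a (b 2699999 3)<|c)<|a (a (b 1 39)<|c)<|c))<|
 d (b 3375000<|b 2485<|b c (a (a (b 53384 0)<|a (b 1498248 1)<|a (b 3270476 2)<|a (b 1546836 3)<|a (b 214802 4)<|a (b 508884 5)<|a (b 759723 6)<|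
 a (b 637412 7)<|a (b 16051 8)<|c)<|a c<|a c<|a c<|a c<|a c<|a c<|a c<|a c<|c))<|
 d (b 3888000<|b 2371<|b c (a (a (b 2691578 0)<|a (b 1002948 1)<|a (b 1681691 2)<|a (b 538842 3)<|a (b 3599744 4)<|a (b 3051780 5)<|a (b 3404668
 6)<|a (b 2572200 7)<|a (b 2320196 8)<|a (b 1 9)<|c)<|a c<|a c<|a c<|a c<|a c<|a c<|a c<|a c<|c))<|
 d (b 4500000<|b 2258<|b c (a (a (b 2360076 0)<|a (b 228622 1)<|a (b 1795714 2)<|a (b 614004 3)<|a (b 2960328 4)<|a (b 4035826 5)<|a (b 539897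
 6)<|a (b 2164868 7)<|a (b 277514 8)<|c)<|a c<|a c<|a c<|a c<|a c<|a c<|a c<|a c<|c))<|
 d (b 5400000<|b 2125<|b (a 5400000<|c) (a c<|a (a (b 4861689 0)<|a (b 652731 1)<|a (b 1624277 2)<|a (b 2915691 3)<|a (b 4372659 4)<|a (b 1346607
 5)<|a (b 3843449 6)<|a (b 3261524 7)<|a (b 17407 8)<|c)<|a (a (b 3908144 0)<|a (b 2780096 1)<|a (b 2305013 2)<|a (b 1818446 3)<|a (b 303782
 4)<|a (b 1344959 5)<|a (b 3519533 6)<|a (b 5036317 7)<|c)<|a (a (b 2943853 0)<|a (b 5120333 1)<|a (b 1312867 2)<|a (b 1572947 3)<|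
 a (b 3173933 4)<|a (b 5184013 5)<|a (b 32027 6)<|c)<|a (a (b 1091232 0)<|a (b 3650839 1)<|a (b 3507668 2)<|a (b 1374499 3)<|a (b 3532369 4)<|
 a (b 52364 5)<|c)<|a (a (b 243099 0)<|a (b 1650463 1)<|a (b 4518260 2)<|a (b 1252402 3)<|a (b 2585097 4)<|c)<|a (a (b 1417736 0)<|a (b 2698923 1)<|
 a (b 4177699 2)<|a (b 5178185 3)<|a (b 5399998 4)<|c)<|a (a (b 4511545 0)<|a (b 88875 1)<|a (b 5399996 2)<|c)<|a (a (b 1 39)<|c)<|c))<|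
 d (b 5832000<|b 2071<|b (a 5832000<|c) (a c<|a (a (b 2745221 0)<|a (b 1823285 1)<|a (b 3674775 2)<|a (b 4379919 3)<|a (b 5799155 4)<|a (b 5144189
 5)<|a (b 1908978 6)<|a (b 5417000 7)<|a (b 5758605 8)<|c)<|a (a (b 1475031 0)<|a (b 243717 1)<|a (b 2965100 2)<|a (b 2407139 3)<|a (b 983931
 4)<|a (b 402648 5)<|a (b 615506 6)<|a (b 3165521 7)<|a (b 5831997 8)<|c)<|a (a (b 5143518 0)<|a (b 3384996 1)<|a (b 3220644 2)<|a (b 2118222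
 3)<|a (b 4091488 4)<|a (b 3364508 5)<|a (b 3328992 6)<|a (b 5831999 8)<|c)<|a (a (b 5180415 0)<|a (b 2945740 1)<|a (b 3614327 2)<|
 a (b 3270116 3)<|a (b 5181080 4)<|a (b 41113 5)<|c)<|a (a (b 4560519 0)<|a (b 5280128 1)<|a (b 5461180 2)<|a (b 3544687 3)<|a (b 5255112 4)<|c)<|
 a (a (b 3189716 0)<|a (b 2097233 1)<|a (b 860987 2)<|a (b 5828075 3)<|c)<|a (a (b 5352231 0)<|a (b 47993 1)<|a (b 5831998 2)<|c)<|a (a (b 1 39)<|c)<|c))<|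
 d (b 6000000<|b 2051<|b c (a (a (b 4675228 0)<|a (b 4675866 1)<|a (b 5792142 2)<|a (b 5397012 3)<|a (b 1990984 4)<|a (b 4127478 5)<|a (b 597191
 6)<|a (b 704604 7)<|a (b 75042 8)<|c)<|a c<|a c<|a c<|a c<|a c<|a c<|a c<|a c<|c))<|c);
 (d (b 1749600<|b 3093<|b c (a (a (b 55146 0)<|a (b 1334888 1)<|a (b 246035 2)<|a (b 640602 3)<|a (b 138840 4)<|a (b 168296 5)<|a (b 281576 6)<|
 a (b 769544 7)<|a (b 1274864 8)<|a (b 1 9)<|c)<|a c<|a c<|a c<|a c<|a c<|a c<|a c<|a c<|c))<|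
 d (b 1822500<|b 3052<|b (a 2<|a 455625<|a 1822500<|c) (a c<|a (a (b 852349 0)<|a (b 739461 1)<|a (b 1007852 2)<|a (b 749811 3)<|a (b 958363 4)<|
 a (b 137157 5)<|a (b 1533560 6)<|a (b 361320 7)<|a (b 281252 8)<|a (b 15187 9)<|a (b 1 39)<|c)<|a (a (b 1371261 0)<|a (b 1013257 1)<|a (b 823640
 2)<|a (b 721829 3)<|a (b 1231881 4)<|a (b 366868 5)<|a (b 470211 6)<|a (b 404841 7)<|a (b 1822497 8)<|c)<|a (a (b 448947 0)<|a (b 313771 1)<|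
 a (b 930059 2)<|a (b 1392353 3)<|a (b 1427969 4)<|a (b 60851 5)<|a (b 1130955 6)<|a (b 1 8)<|c)<|a (a (b 1387830 0)<|a (b 562670 1)<|
 a (b 1185532 2)<|a (b 178981 3)<|a (b 803135 4)<|a (b 1818323 5)<|c)<|a (a (b 713532 0)<|a (b 936134 1)<|a (b 888343 2)<|a (b 560836 3)<|
 a (b 1746483 4)<|c)<|a (a (b 4 0)<|a (b 1822499 40)<|c)<|a (a (b 1672731 0)<|a (b 14993 1)<|a (b 1822498 2)<|c)<|a (a (b 1 41)<|c)<|c))<|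
 d (b 2025000<|b 2946<|b (a 253125<|a 2025000<|c) (a c<|a (a (b 434675 0)<|a (b 142566 1)<|a (b 749182 2)<|a (b 596805 3)<|a (b 220607 4)<|
 a (b 1425666 5)<|a (b 1455814 6)<|a (b 1987476 7)<|a (b 1886707 8)<|a (b 2024999 9)<|c)<|a (a (b 119178 0)<|a (b 1828576 1)<|a (b 1055693 2)<|
 a (b 1892972 3)<|a (b 1413912 4)<|a (b 735355 5)<|a (b 389400 6)<|a (b 12177 7)<|c)<|a (a (b 14526 0)<|a (b 1404602 1)<|a (b 586282 2)<|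
 a (b 1043794 3)<|a (b 1034140 4)<|a (b 119668 5)<|a (b 369612 6)<|a (b 66822 7)<|a (b 2024999 8)<|c)<|a (a (b 971061 0)<|a (b 1027477 1)<|
 a (b 1728515 2)<|a (b 1478510 3)<|a (b 1627262 4)<|a (b 2018146 5)<|c)<|a (a (b 481116 0)<|a (b 575567 1)<|a (b 361627 2)<|a (b 1635193 3)<|
 a (b 47986 4)<|c)<|a (a (b 8 0)<|a (b 2024999 39)<|c)<|a (a (b 83260 0)<|a (b 2016670 1)<|a (b 1 2)<|c)<|a (a (b 1 40)<|c)<|c))<|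
 d (b 2250000<|b 2845<|b c (a (a (b 526326 0)<|a (b 1627997 1)<|a (b 1389464 2)<|a (b 1337754 3)<|a (b 1681578 4)<|a (b 1445201 5)<|a (b 48022
 6)<|a (b 1794868 7)<|a (b 35014 8)<|c)<|a c<|a c<|a c<|a c<|a c<|a c<|a c<|a c<|c))<|
 d (b 2430000<|b 2773<|b (a 151875<|a 2430000<|c) (a c<|a (a (b 1823559 0)<|a (b 2300789 1)<|a (b 1182958 2)<|a (b 1421841 3)<|a (b 1069959 4)<|
 a (b 2233625 5)<|a (b 602087 6)<|a (b 1795388 7)<|a (b 1730533 8)<|a (b 2429999 9)<|c)<|a (a (b 433332 0)<|a (b 1417042 1)<|a (b 988653 2)<|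
 a (b 1110566 3)<|a (b 633888 4)<|a (b 1646192 5)<|a (b 710909 6)<|a (b 2210753 7)<|a (b 381196 8)<|a (b 1 11)<|c)<|a (a (b 1265314 0)<|
 a (b 667576 1)<|a (b 1529424 2)<|a (b 1829946 3)<|a (b 241508 4)<|a (b 928632 5)<|a (b 849600 6)<|a (b 169720 7)<|a (b 2429999 8)<|c)<|
 a (a (b 1924285 0)<|a (b 361160 1)<|a (b 1572704 2)<|a (b 1183436 3)<|a (b 716988 4)<|a (b 1071416 5)<|a (b 1 7)<|c)<|a (a (b 1114095 0)<|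
 a (b 1786865 1)<|a (b 710056 2)<|a (b 2085760 3)<|a (b 2156579 4)<|c)<|a (a (b 16 0)<|a (b 2429999 39)<|c)<|a (a (b 2230231 0)<|a (b 19993 1)<|
 a (b 2429998 2)<|c)<|a (a (b 1 40)<|c)<|c))<|
 d (b 2592000<|b 2714<|b c (a (a (b 618550 0)<|a (b 910942 1)<|a (b 1074329 2)<|a (b 2359950 3)<|a (b 1910440 4)<|a (b 2026522 5)<|a (b 266907
 6)<|a (b 1068196 7)<|a (b 188294 8)<|a (b 1 9)<|c)<|a c<|a c<|a c<|a c<|a c<|a c<|a c<|a c<|c))<|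
 e));
 (let e:=(d (b 777600<|b 4053<|b c (a (a (b 308764 0)<|a (b 499236 1)<|a (b 44011 2)<|a (b 418844 3)<|a (b 477792 4)<|a (b 664436 5)<|a (b 251416 6)<|
 a (b 735656 7)<|a (b 1 9)<|c)<|a c<|a c<|a c<|a c<|a c<|a c<|c))<|
 d (b 874800<|b 3897<|b c (a (a (b 189624 0)<|a (b 395056 1)<|a (b 165631 2)<|a (b 96944 3)<|a (b 597692 4)<|a (b 314976 5)<|a (b 671316 6)<|
 a (b 656616 7)<|a (b 1 9)<|c)<|a c<|a c<|a c<|a c<|a c<|a c<|c))<|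
 d (b 972000<|b 3763<|b (a 972000<|c) (a c<|a (a (b 773405 0)<|a (b 907605 1)<|a (b 242679 2)<|a (b 497007 3)<|a (b 672335 4)<|a (b 610701 5)<|
 a (b 12850 6)<|c)<|a (a (b 406649 0)<|a (b 794789 1)<|a (b 680144 2)<|a (b 95789 3)<|a (b 727247 4)<|a (b 273296 5)<|a (b 967856 6)<|a (b 1 7)<|c)<|
 a (a (b 61572 0)<|a (b 34739 1)<|a (b 402658 2)<|a (b 371131 3)<|a (b 916763 4)<|c)<|a (a (b 281636 0)<|a (b 117023 1)<|a (b 207797 2)<|a (b 3485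
 3)<|c)<|a (a (b 892231 0)<|a (b 7993 1)<|a (b 971998 2)<|c)<|a (a (b 1 39)<|c)<|c))<|
 d (b 1012500<|b 3712<|b c (a (a (b 213260 0)<|a (b 92323 1)<|a (b 328233 2)<|a (b 794994 3)<|a (b 453995 4)<|a (b 973675 5)<|a (b 977183 6)<|
 a (b 4 7)<|c)<|a c<|a c<|a c<|a c<|a c<|a c<|c))<|
 d (b 1265625<|b 3446<|b c (a (a (b 434767 0)<|a (b 1232618 1)<|a (b 899244 2)<|a (b 113223 3)<|a (b 494896 4)<|a (b 2 5)<|c)<|a c<|a c<|a c<|a c<|c))<|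
 d (b 1440000<|b 3301<|b c (a (a (b 751450 0)<|a (b 84132 1)<|a (b 1209499 2)<|a (b 1095930 3)<|a (b 1171360 4)<|a (b 594852 5)<|a (b 235852 6)<|
 a (b 993896 7)<|a (b 615204 8)<|a (b 1 9)<|c)<|a c<|a c<|a c<|a c<|a c<|a c<|a c<|a c<|c))<|
 e);
 (d (b 437400<|b 4910<|b c (a (a (b 94554 0)<|a (b 101506 1)<|a (b 418531 2)<|a (b 134114 3)<|a (b 137492 4)<|a (b 295146 5)<|a (b 333156 6)<|
 a (b 431016 7)<|a (b 1 9)<|c)<|a c<|a c<|a c<|a c<|a c<|a c<|c))<|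
 d (b 500000<|b 4696<|b c (a (a (b 221519 0)<|a (b 352296 1)<|a (b 365572 2)<|a (b 499223 3)<|c)<|a c<|a c<|a c<|c))<|
 d (b 559872<|b 4522<|b c (a (a (b 139210 0)<|a (b 415598 1)<|a (b 384730 2)<|a (b 23542 3)<|a (b 402644 4)<|a (b 220794 5)<|a (b 559871 6)<|c)<|
 a c<|a c<|a c<|a c<|a c<|c))<|
 d (b 583200<|b 4461<|b (a 583200<|c) (a c<|a (a (b 233312 0)<|a (b 581835 1)<|a (b 425619 2)<|a (b 29130 3)<|a (b 489275 4)<|a (b 5099 5)<|a (b 1306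
 6)<|c)<|a (a (b 190810 0)<|a (b 276809 1)<|a (b 533558 2)<|a (b 403250 3)<|a (b 486277 4)<|a (b 566316 5)<|a (b 513804 6)<|a (b 1 7)<|c)<|
 a (a (b 176463 0)<|a (b 332331 1)<|a (b 140124 2)<|a (b 518274 3)<|a (b 521285 4)<|c)<|a (a (b 122939 0)<|a (b 181109 1)<|a (b 75851 2)<|
 a (b 582854 3)<|c)<|a (a (b 535431 0)<|a (b 4793 1)<|a (b 583198 2)<|c)<|a (a (b 1 39)<|c)<|c))<|
 d (b 607500<|b 4401<|b (a 2<|a 151875<|a 607500<|c) (a c<|a (a (b 394160 0)<|a (b 256032 1)<|a (b 321304 2)<|a (b 541712 3)<|a (b 547324 4)<|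
 a (b 139248 5)<|a (b 26688 6)<|a (b 37412 7)<|a (b 25312 9)<|a (b 1 39)<|c)<|a (a (b 291577 0)<|a (b 539744 1)<|a (b 102512 2)<|a (b 201605 3)<|
 a (b 490177 4)<|a (b 149775 5)<|a (b 1 7)<|c)<|a (a (b 271605 0)<|a (b 92735 1)<|a (b 590416 2)<|a (b 221740 3)<|a (b 598649 4)<|c)<|a (a (b 4 0)<|
 a (b 607499 40)<|c)<|a (a (b 557731 0)<|a (b 4993 1)<|a (b 607498 2)<|c)<|a (a (b 1 41)<|c)<|c))<|
 d (b 699840<|b 4198<|b c (a (a (b 99061 0)<|a (b 208476 1)<|a (b 632191 2)<|a (b 107717 3)<|a (b 153912 4)<|a (b 646284 5)<|a (b 690472 6)<|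
 a (b 273296 7)<|a (b 1 9)<|c)<|a c<|a c<|a c<|a c<|a c<|a c<|c))<|
 e)));
 (let e:=(let e:=(d (b 243000<|b 5973<|b (a 30375<|a 243000<|c) (a c<|a (a (b 107522 0)<|a (b 181260 1)<|a (b 114069 2)<|a (b 72720 3)<|a (b 185525 4)<|a (b 227964 5)<|
 a (b 1411 6)<|c)<|a (a (b 160627 0)<|a (b 211919 1)<|a (b 80552 2)<|a (b 109175 3)<|a (b 163027 4)<|a (b 232410 5)<|a (b 1 7)<|c)<|a (a (b 155505 0)<|
 a (b 207035 1)<|a (b 23191 2)<|a (b 181690 3)<|a (b 241574 4)<|c)<|a (a (b 8 0)<|a (b 242999 39)<|c)<|a (a (b 223231 0)<|a (b 1993 1)<|a (b 242998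
 2)<|c)<|a (a (b 1 40)<|c)<|c))<|
 d (b 273375<|b 5743<|b c (a (a (b 244776 0)<|a (b 252518 1)<|a (b 172477 2)<|a (b 271210 3)<|c)<|a c<|a c<|a c<|c))<|
 d (b 300000<|b 5568<|b c (a (a (b 154765 0)<|a (b 97494 1)<|a (b 207774 2)<|a (b 81397 3)<|a (b 51560 4)<|a (b 267690 5)<|a (b 206429 6)<|a (b 12
 7)<|c)<|a c<|a c<|a c<|a c<|a c<|a c<|c))<|
 d (b 324000<|b 5427<|b (a 324000<|c) (a c<|a (a (b 270292 0)<|a (b 44839 1)<|a (b 252903 2)<|a (b 4542 3)<|a (b 312835 4)<|a (b 224799 5)<|a (b 285240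
 6)<|a (b 323992 7)<|c)<|a (a (b 191361 0)<|a (b 187709 1)<|a (b 94046 2)<|a (b 303593 3)<|a (b 46917 4)<|a (b 224232 5)<|a (b 273382 6)<|a (b 1
 7)<|c)<|a (a (b 277146 0)<|a (b 299427 1)<|a (b 229782 2)<|a (b 6633 3)<|a (b 61871 4)<|c)<|a (a (b 225623 0)<|a (b 178417 1)<|a (b 272463 2)<|
 a (b 2886 3)<|c)<|a (a (b 13260 0)<|a (b 322670 1)<|a (b 1 2)<|c)<|a (a (b 1 39)<|c)<|c))<|
 d (b 364500<|b 5218<|b (a 2<|a 91125<|a 364500<|c) (a c<|a (a (b 226423 0)<|a (b 212835 1)<|a (b 147387 2)<|a (b 174453 3)<|a (b 237415 4)<|a (b 177875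
 5)<|a (b 30314 6)<|a (b 1 39)<|c)<|a (a (b 95287 0)<|a (b 213629 1)<|a (b 210035 2)<|a (b 294089 3)<|a (b 19072 4)<|a (b 206712 5)<|a (b 1 7)<|c)<|
 a (a (b 236943 0)<|a (b 240891 1)<|a (b 215229 2)<|a (b 338364 3)<|a (b 5720 4)<|c)<|a (a (b 4 0)<|a (b 364499 40)<|c)<|a (a (b 334731 0)<|a (b 2993
 1)<|a (b 364498 2)<|c)<|a (a (b 1 41)<|c)<|c))<|
 d (b 375000<|b 5169<|b c (a (a (b 290952 0)<|a (b 1305 1)<|a (b 138840 2)<|a (b 140528 3)<|a (b 204140 4)<|a (b 321953 5)<|a (b 21741 6)<|c)<|a c<|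
 a c<|a c<|a c<|a c<|a c<|c))<|
 e);
 (d (b 162000<|b 6837<|b (a 10125<|a 162000<|c) (a c<|a (a (b 22352 0)<|a (b 91335 1)<|a (b 89919 2)<|a (b 87090 3)<|a (b 38375 4)<|a (b 87959 5)<|
 a (b 160426 6)<|c)<|a (a (b 32309 0)<|a (b 16709 1)<|a (b 110105 2)<|a (b 125087 3)<|a (b 48812 4)<|a (b 158640 5)<|a (b 155501 6)<|a (b 1 7)<|c)<|
 a (a (b 112236 0)<|a (b 121507 1)<|a (b 4622 2)<|a (b 36203 3)<|a (b 13151 4)<|c)<|a (a (b 16 0)<|a (b 161999 39)<|c)<|a (a (b 26289 0)<|a (b 159347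
 1)<|a (b 4 2)<|c)<|a (a (b 1 40)<|c)<|c))<|
 d (b 168750<|b 6745<|b c (a (a (b 44877 0)<|a (b 93679 1)<|a (b 12908 2)<|a (b 11919 3)<|a (b 79984 4)<|a (b 163869 5)<|c)<|a c<|a c<|a c<|a c<|
 a c<|c))<|
 d (b 182250<|b 6574<|b (a 91125<|a 182250<|c) (a c<|a (a (b 175669 0)<|a (b 1157 1)<|a (b 43688 2)<|a (b 15755 3)<|a (b 32215 4)<|a (b 72480 5)<|
 a (b 14964 6)<|a (b 1 7)<|c)<|a (a (b 28833 0)<|a (b 11821 1)<|a (b 79244 2)<|a (b 55334 3)<|a (b 178475 4)<|c)<|a (a (b 2 0)<|a (b 182249 39)<|c)<|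
 a (a (b 167481 0)<|a (b 1493 1)<|a (b 182248 2)<|c)<|a (a (b 1 40)<|c)<|c))<|
 d (b 187500<|b 6512<|b c (a (a (b 182113 0)<|a (b 12045 1)<|a (b 34710 2)<|a (b 175757 3)<|a (b 160410 4)<|a (b 123457 5)<|a (b 1529 6)<|c)<|a c<|
 a c<|a c<|a c<|a c<|a c<|c))<|
 d (b 233280<|b 6055<|b (a 233280<|c) (a c<|a (a (b 15452 0)<|a (b 93105 1)<|a (b 54399 2)<|a (b 206910 3)<|a (b 48095 4)<|a (b 190929 5)<|a (b 232396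
 6)<|c)<|a (a (b 49846 0)<|a (b 131009 1)<|a (b 63020 2)<|a (b 135410 3)<|a (b 170947 4)<|a (b 96228 5)<|a (b 226962 6)<|a (b 1 7)<|c)<|a (a (b 160989
 0)<|a (b 195163 1)<|a (b 165560 2)<|a (b 230552 3)<|a (b 195377 4)<|c)<|a (a (b 120416 0)<|a (b 85713 1)<|a (b 70027 2)<|a (b 231895 3)<|c)<|
 a (a (b 214311 0)<|a (b 1913 1)<|a (b 233278 2)<|c)<|a (a (b 1 39)<|c)<|c))<|
 d (b 240000<|b 5998<|b c (a (a (b 179008 0)<|a (b 133956 1)<|a (b 179851 2)<|a (b 170240 3)<|a (b 197472 4)<|a (b 161652 5)<|a (b 82528 6)<|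
 a (b 157736 7)<|a (b 1 9)<|c)<|a c<|a c<|a c<|a c<|a c<|a c<|c))<|
 e));
 (let e:=(d (b 90000<|b 8317<|b (a 5625<|a 90000<|c) (a c<|a (a (b 20897 0)<|a (b 40260 1)<|a (b 87069 2)<|a (b 36095 3)<|a (b 30025 4)<|a (b 39964 5)<|a (b 89911
 6)<|c)<|a (a (b 47482 0)<|a (b 35549 1)<|a (b 74126 2)<|a (b 43042 3)<|a (b 53037 4)<|a (b 40816 5)<|a (b 1 7)<|c)<|a (a (b 33288 0)<|a (b 73386 1)<|
 a (b 80700 2)<|a (b 39607 3)<|a (b 30735 4)<|a (b 89999 5)<|c)<|a (a (b 16 0)<|a (b 89999 39)<|c)<|a (a (b 43180 0)<|a (b 4770 1)<|a (b 89987 2)<|c)<|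
 a (a (b 1 40)<|c)<|c))<|
 d (b 91125<|b 8282<|b (a 91125<|c) (a c<|a (a (b 87865 0)<|a (b 46922 1)<|a (b 708 2)<|a (b 61404 3)<|c)<|a (a (b 83856 0)<|a (b 743 1)<|a (b 91123 2)<|c)<|
 a (a (b 1 39)<|c)<|c))<|
 d (b 96000<|b 8140<|b c (a (a (b 4173 0)<|a (b 89280 1)<|a (b 63055 2)<|a (b 80077 3)<|a (b 93232 4)<|a (b 89792 5)<|a (b 62912 6)<|a (b 85088 7)<|
 a (b 1 9)<|c)<|a c<|a c<|a c<|a c<|a c<|a c<|c))<|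
 d (b 112500<|b 7721<|b c (a (a (b 17805 0)<|a (b 33594 1)<|a (b 5199 2)<|a (b 76707 3)<|a (b 104985 4)<|a (b 47750 5)<|a (b 65124 6)<|a (b 12 7)<|c)<|
 a c<|a c<|a c<|a c<|a c<|a c<|c))<|
 d (b 120000<|b 7556<|b (a 120000<|c) (a c<|a (a (b 64065 0)<|a (b 61005 1)<|a (b 24879 2)<|a (b 87747 3)<|a (b 80535 4)<|a (b 11941 5)<|a (b 116130
 6)<|c)<|a (a (b 36484 0)<|a (b 100349 1)<|a (b 71732 2)<|a (b 45968 3)<|a (b 73867 4)<|a (b 6768 5)<|a (b 116706 6)<|a (b 1 7)<|c)<|a (a (b 36861 0)<|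
 a (b 108507 1)<|a (b 79872 2)<|a (b 16328 3)<|a (b 11401 4)<|c)<|a (a (b 99896 0)<|a (b 28393 1)<|a (b 10227 2)<|a (b 215 3)<|c)<|a (a (b 75551 0)<|
 a (b 16673 1)<|a (b 119966 2)<|c)<|a (a (b 1 39)<|c)<|c))<|
 d (b 144000<|b 7111<|b c (a (a (b 86476 0)<|a (b 89364 1)<|a (b 132859 2)<|a (b 88716 3)<|a (b 110752 4)<|a (b 140164 5)<|a (b 84640 6)<|
 a (b 82760 7)<|a (b 1 9)<|c)<|a c<|a c<|a c<|a c<|a c<|a c<|c))<|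
 e);
 (d (b 48000<|b 10255<|b c (a (a (b 14044 0)<|a (b 396 1)<|a (b 10171 2)<|a (b 32444 3)<|a (b 34992 4)<|a (b 32156 5)<|a (b 30016 6)<|a (b 47336 7)<|
 a (b 1 9)<|c)<|a c<|a c<|a c<|a c<|a c<|a c<|c))<|
 d (b 56250<|b 9727<|b c (a (a (b 3381 0)<|a (b 37287 1)<|a (b 38724 2)<|a (b 42007 3)<|a (b 21202 4)<|a (b 54107 5)<|c)<|a c<|a c<|a c<|a c<|a c<|c))<|
 d (b 69984<|b 9044<|b c (a (a (b 42892 0)<|a (b 25790 1)<|a (b 13714 2)<|a (b 26440 3)<|a (b 52820 4)<|a (b 15914 5)<|a (b 69983 6)<|c)<|a c<|a c<|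
 a c<|a c<|a c<|c))<|
 d (b 72900<|b 8922<|b (a 2<|a 18225<|a 72900<|c) (a c<|a (a (b 64221 0)<|a (b 16231 1)<|a (b 48618 2)<|a (b 7473 3)<|a (b 66840 4)<|a (b 21367 5)<|
 a (b 25834 6)<|a (b 12148 7)<|a (b 1 39)<|c)<|a (a (b 11092 0)<|a (b 9209 1)<|a (b 51314 2)<|a (b 69596 3)<|a (b 457 4)<|a (b 67588 5)<|a (b 1 7)<|c)<|
 a (a (b 13017 0)<|a (b 22079 1)<|a (b 18778 2)<|a (b 70816 3)<|a (b 70403 4)<|c)<|a (a (b 4 0)<|a (b 72899 40)<|c)<|a (a (b 67131 0)<|a (b 593 1)<|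
 a (b 72898 2)<|c)<|a (a (b 1 41)<|c)<|c))<|
 d (b 77760<|b 8732<|b (a 77760<|c) (a c<|a (a (b 21455 0)<|a (b 59805 1)<|a (b 73119 2)<|a (b 19377 3)<|a (b 49175 4)<|a (b 44421 5)<|a (b 41470 6)<|c)<|
 a (a (b 76153 0)<|a (b 69269 1)<|a (b 61040 2)<|a (b 72653 3)<|a (b 59887 4)<|a (b 21696 5)<|a (b 37008 6)<|a (b 1 7)<|c)<|a (a (b 33852 0)<|
 a (b 42179 1)<|a (b 25228 2)<|a (b 23671 3)<|a (b 10553 4)<|c)<|a (a (b 18866 0)<|a (b 23353 1)<|a (b 30267 2)<|a (b 77265 3)<|c)<|a (a (b 71591 0)<|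
 a (b 633 1)<|a (b 77758 2)<|c)<|a (a (b 1 39)<|c)<|c))<|
 d (b 86400<|b 8431<|b c (a (a (b 38796 0)<|a (b 15340 1)<|a (b 24955 2)<|a (b 44844 3)<|a (b 32592 4)<|a (b 31164 5)<|a (b 24336 6)<|a (b 61608
 7)<|a (b 1 9)<|c)<|a c<|a c<|a c<|a c<|a c<|a c<|c))<|
 e))));
 (let e:=(let e:=(let e:=(d (b 21870<|b 13327<|b c (a (a (b 5847 0)<|a (b 12979 1)<|a (b 9893 2)<|a (b 7379 3)<|a (b 4539 4)<|a (b 8819 5)<|c)<|a c<|a c<|a c<|a c<|a c<|c))<|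
 d (b 23328<|b 13044<|b (a 23328<|c) (a c<|a (a (b 2910 0)<|a (b 7451 1)<|a (b 17863 2)<|a (b 18112 3)<|a (b 8131 4)<|a (b 195 5)<|c)<|a (a (b 21843 0)<|
 a (b 6441 1)<|a (b 17184 2)<|a (b 1356 3)<|a (b 21331 4)<|c)<|a (a (b 21308 0)<|a (b 435 1)<|a (b 5041 2)<|a (b 193 3)<|c)<|a (a (b 21639 0)<|a (b 185
 1)<|a (b 23326 2)<|c)<|a (a (b 1 39)<|c)<|c))<|
 d (b 24000<|b 12921<|b (a 24000<|c) (a c<|a (a (b 7446 0)<|a (b 1545 1)<|a (b 12399 2)<|a (b 4056 3)<|a (b 19455 4)<|a (b 16025 5)<|a (b 23928 6)<|c)<|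
 a (a (b 16797 0)<|a (b 16469 1)<|a (b 11852 2)<|a (b 4505 3)<|a (b 2427 4)<|a (b 20640 5)<|a (b 23860 6)<|a (b 1 7)<|c)<|a (a (b 23640 0)<|a (b 13155
 1)<|a (b 17076 2)<|a (b 9795 3)<|a (b 14369 4)<|c)<|a (a (b 14321 0)<|a (b 22993 1)<|a (b 5127 2)<|a (b 240 3)<|c)<|a (a (b 817 0)<|a (b 21331 1)<|
 a (b 28 2)<|c)<|a (a (b 1 39)<|c)<|c))<|
 d (b 31104<|b 11851<|b (a 128<|c) (a (a (b 13851 0)<|a (b 2187 1)<|a (b 5832 2)<|a (b 8262 3)<|a (b 729 4)<|a (b 31103 39)<|c)<|a c<|a c<|a c<|a c<|a c<|c))<|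
 d (b 34992<|b 11395<|b c (a (a (b 16972 0)<|a (b 17852 1)<|a (b 20842 2)<|a (b 14776 3)<|a (b 33488 4)<|a (b 11792 5)<|a (b 34991 6)<|c)<|a c<|a c<|
 a c<|a c<|a c<|c))<|
 d (b 36000<|b 11287<|b (a 36000<|c) (a c<|a (a (b 28445 0)<|a (b 34455 1)<|a (b 29979 2)<|a (b 24567 3)<|a (b 12635 4)<|a (b 10511 5)<|a (b 35920 6)<|c)<|
 a (a (b 33918 0)<|a (b 5069 1)<|a (b 22550 2)<|a (b 28758 3)<|a (b 32917 4)<|a (b 16976 5)<|a (b 35848 6)<|a (b 1 7)<|c)<|a (a (b 29787 0)<|a (b 9819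
 1)<|a (b 30498 2)<|a (b 30826 3)<|a (b 33543 4)<|c)<|a (a (b 33788 0)<|a (b 8647 1)<|a (b 21933 2)<|a (b 35181 3)<|c)<|a (a (b 22209 0)<|a (b 1447
 1)<|a (b 35990 2)<|c)<|a (a (b 1 39)<|c)<|c))<|
 d (b 45000<|b 10478<|b (a 5625<|a 45000<|c) (a c<|a (a (b 4904 0)<|a (b 31515 1)<|a (b 39009 2)<|a (b 20518 3)<|a (b 36765 4)<|a (b 22187 5)<|a (b 44842
 6)<|c)<|a (a (b 10820 0)<|a (b 22949 1)<|a (b 42950 2)<|a (b 18516 3)<|a (b 18957 4)<|a (b 1944 5)<|a (b 42464 6)<|a (b 1 7)<|c)<|a (a (b 18759 0)<|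
 a (b 32883 1)<|a (b 33495 2)<|a (b 10832 3)<|a (b 42742 4)<|c)<|a (a (b 8 0)<|a (b 44999 39)<|c)<|a (a (b 7011 0)<|a (b 44273 1)<|a (b 4 2)<|c)<|a (a (b 1
 40)<|c)<|c))<|
 e);
 (d (b 11250<|b 16633<|b (a 5625<|a 11250<|c) (a c<|a (a (b 637 0)<|a (b 3260 1)<|a (b 5654 2)<|a (b 10479 3)<|a (b 7823 4)<|a (b 2829 5)<|a (b 561 6)<|
 a (b 1 7)<|c)<|a (a (b 3915 0)<|a (b 11205 1)<|a (b 351 2)<|a (b 10620 3)<|a (b 44 4)<|c)<|a (a (b 2 0)<|a (b 11249 39)<|c)<|a (a (b 2540 0)<|a (b 10950 1)<|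
 a (b 7 2)<|c)<|a (a (b 1 40)<|c)<|c))<|
 d (b 12500<|b 16059<|b c (a (a (b 9019 0)<|a (b 5421 1)<|a (b 6197 2)<|a (b 11723 3)<|c)<|a c<|a c<|a c<|c))<|
 d (b 15000<|b 15112<|b (a 1875<|a 15000<|c) (a c<|a (a (b 914 0)<|a (b 540 1)<|a (b 5709 2)<|a (b 4408 3)<|a (b 12465 4)<|a (b 14452 5)<|a (b 14797 6)<|c)<|
 a (a (b 1477 0)<|a (b 2894 1)<|a (b 1007 2)<|a (b 5315 3)<|a (b 7102 4)<|a (b 14305 5)<|a (b 1 7)<|c)<|a (a (b 5565 0)<|a (b 4755 1)<|a (b 13251 2)<|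
 a (b 6070 3)<|a (b 594 4)<|c)<|a (a (b 8 0)<|a (b 14999 39)<|c)<|a (a (b 3614 0)<|a (b 14592 1)<|a (b 7 2)<|c)<|a (a (b 1 40)<|c)<|c))<|
 d (b 16200<|b 14730<|b (a 2025<|a 16200<|c) (a c<|a (a (b 5930 0)<|a (b 15930 1)<|a (b 3729 2)<|a (b 432 3)<|a (b 10385 4)<|a (b 12426 5)<|a (b 25 6)<|c)<|
 a (a (b 1057 0)<|a (b 2624 1)<|a (b 11801 2)<|a (b 11867 3)<|a (b 9712 4)<|a (b 15291 5)<|a (b 1 7)<|c)<|a (a (b 5721 0)<|a (b 7027 1)<|a (b 10157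
 2)<|a (b 5558 3)<|a (b 3296 4)<|c)<|a (a (b 8 0)<|a (b 16199 39)<|c)<|a (a (b 2289 0)<|a (b 15947 1)<|a (b 4 2)<|c)<|a (a (b 1 40)<|c)<|c))<|
 d (b 17496<|b 14356<|b c (a (a (b 7450 0)<|a (b 4712 1)<|a (b 88 2)<|a (b 754 3)<|a (b 8426 4)<|a (b 17028 5)<|a (b 17495 6)<|c)<|a c<|a c<|a c<|a c<|
 a c<|c))<|
 d (b 20250<|b 13674<|b (a 10125<|a 20250<|c) (a c<|a (a (b 16908 0)<|a (b 14959 1)<|a (b 16126 2)<|a (b 5218 3)<|a (b 2781 4)<|a (b 6990 5)<|a (b 443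
 6)<|a (b 20249 7)<|c)<|a (a (b 13146 0)<|a (b 19927 1)<|a (b 13907 2)<|a (b 5633 3)<|a (b 14246 4)<|c)<|a (a (b 2 0)<|a (b 20249 39)<|c)<|a (a (b 760 0)<|
 a (b 20170 1)<|a (b 1 2)<|c)<|a (a (b 1 40)<|c)<|c))<|
 e));
 (let e:=(d (b 6400<|b 20074<|b c (a (a (b 3170 0)<|a (b 3953 1)<|a (b 938 2)<|a (b 3864 3)<|a (b 6399 4)<|c)<|a c<|a c<|a c<|c))<|
 d (b 6750<|b 19721<|b (a 3375<|a 6750<|c) (a c<|a (a (b 2221 0)<|a (b 1232 1)<|a (b 1043 2)<|a (b 3863 3)<|a (b 5350 4)<|a (b 5013 5)<|a (b 6450 6)<|a (b 1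
 7)<|c)<|a (a (b 558 0)<|a (b 1956 1)<|a (b 2841 2)<|a (b 6585 3)<|a (b 350 4)<|a (b 3 5)<|c)<|a (a (b 2 0)<|a (b 6749 39)<|c)<|a (a (b 5787 0)<|a (b 5958 1)<|
 a (b 33 2)<|a (b 6749 3)<|c)<|a (a (b 1 40)<|c)<|c))<|
 d (b 7500<|b 19040<|b (a 2<|a 1875<|a 7500<|c) (a c<|a (a (b 3864 0)<|a (b 6900 1)<|a (b 3732 2)<|a (b 3852 3)<|a (b 660 4)<|a (b 5424 5)<|a (b 4092 6)<|
 a (b 1 39)<|c)<|a (a (b 6457 0)<|a (b 5024 1)<|a (b 6731 2)<|a (b 7 3)<|a (b 1362 4)<|a (b 311 5)<|a (b 1 7)<|c)<|a (a (b 2697 0)<|a (b 7239 1)<|a (b 3408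
 2)<|a (b 5256 3)<|a (b 1013 4)<|c)<|a (a (b 4 0)<|a (b 7499 40)<|c)<|a (a (b 1080 0)<|a (b 850 1)<|a (b 7469 2)<|c)<|a (a (b 1 41)<|c)<|c))<|
 d (b 8640<|b 18163<|b (a 8640<|c) (a c<|a (a (b 6983 0)<|a (b 3645 1)<|a (b 4719 2)<|a (b 7689 3)<|a (b 1415 4)<|a (b 2853 5)<|a (b 8494 6)<|c)<|a (a (b 2587
 0)<|a (b 5009 1)<|a (b 4412 2)<|a (b 3095 3)<|a (b 1867 4)<|a (b 7020 5)<|a (b 7020 6)<|a (b 1 7)<|c)<|a (a (b 7290 0)<|a (b 3475 1)<|a (b 356 2)<|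
 a (b 7765 3)<|a (b 2329 4)<|c)<|a (a (b 146 0)<|a (b 5673 1)<|a (b 907 2)<|a (b 65 3)<|c)<|a (a (b 8414 0)<|a (b 32 1)<|a (b 8639 2)<|c)<|a (a (b 1 39)<|c)<|c))<|
 d (b 9600<|b 17536<|b c (a (a (b 312 0)<|a (b 8940 1)<|a (b 3835 2)<|a (b 1048 3)<|a (b 7312 4)<|a (b 8988 5)<|a (b 8024 6)<|a (b 488 7)<|a (b 1 9)<|c)<|
 a c<|a c<|a c<|a c<|a c<|a c<|c))<|
 d (b 10125<|b 17228<|b (a 10125<|c) (a c<|a (a (b 7657 0)<|a (b 7903 1)<|a (b 5392 2)<|a (b 3724 3)<|c)<|a (a (b 10086 0)<|a (b 10124 28)<|c)<|a (a (b 1 39)<|c)<|c))<|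
 e);
 (d (b 3375<|b 24846<|b (a 3375<|c) (a c<|a (a (b 2212 0)<|a (b 2018 1)<|a (b 2502 2)<|a (b 774 3)<|c)<|a (a (b 3336 0)<|a (b 3374 28)<|c)<|a (a (b 1 39)<|c)<|c))<|
 d (b 3750<|b 23989<|b (a 1875<|a 3750<|c) (a c<|a (a (b 366 0)<|a (b 3405 1)<|a (b 829 2)<|a (b 1150 3)<|a (b 1938 4)<|a (b 2350 5)<|a (b 2953 6)<|a (b 1
 7)<|c)<|a (a (b 867 0)<|a (b 1779 1)<|a (b 3078 2)<|a (b 2166 3)<|a (b 2903 4)<|c)<|a (a (b 2 0)<|a (b 3749 39)<|c)<|a (a (b 56 0)<|a (b 3738 1)<|a (b 1 2)<|c)<|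
 a (a (b 1 40)<|c)<|c))<|
 d (b 3840<|b 23800<|b c (a (a (b 3819 0)<|a (b 3538 1)<|a (b 686 2)<|a (b 2343 3)<|a (b 778 4)<|a (b 3818 5)<|c)<|a c<|a c<|a c<|a c<|a c<|c))<|
 d (b 4800<|b 22094<|b c (a (a (b 519 0)<|a (b 1738 1)<|a (b 3926 2)<|a (b 4243 3)<|a (b 98 4)<|a (b 4418 5)<|c)<|a c<|a c<|a c<|a c<|a c<|c))<|
 d (b 5625<|b 20956<|b (a 5625<|c) (a c<|a (a (b 4582 0)<|a (b 3428 1)<|a (b 3492 2)<|a (b 1599 3)<|c)<|a (a (b 4334 0)<|a (b 197 1)<|a (b 5615 2)<|c)<|a (a (b 1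
 39)<|c)<|c))<|
 d (b 6000<|b 20510<|b (a 375<|a 6000<|c) (a c<|a (a (b 5470 0)<|a (b 4627 1)<|a (b 5932 2)<|a (b 3978 3)<|a (b 849 4)<|a (b 5600 5)<|a (b 472 6)<|a (b 5999
 7)<|c)<|a (a (b 1167 0)<|a (b 2379 1)<|a (b 1128 2)<|a (b 5066 3)<|a (b 1753 4)<|c)<|a (a (b 16 0)<|a (b 5999 39)<|c)<|a (a (b 585 0)<|a (b 5915 1)<|a (b 4
 2)<|c)<|a (a (b 1 40)<|c)<|c))<|
 e)));
 (let e:=(let e:=(d (b 1800<|b 30638<|b (a 225<|a 1800<|c) (a c<|a (a (b 1614 0)<|a (b 987 1)<|a (b 1037 2)<|a (b 1444 3)<|a (b 704 4)<|a (b 816 5)<|a (b 74 6)<|a (b 1799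
 7)<|c)<|a (a (b 1254 0)<|a (b 723 1)<|a (b 315 2)<|a (b 167 3)<|a (b 1582 4)<|c)<|a (a (b 8 0)<|a (b 1799 39)<|c)<|a (a (b 1782 0)<|a (b 1796 1)<|a (b 1 2)<|c)<|
 a (a (b 1 40)<|c)<|c))<|
 d (b 1944<|b 29862<|b (a 243<|a 1944<|c) (a c<|a (a (b 309 0)<|a (b 1451 1)<|a (b 679 2)<|a (b 1558 3)<|a (b 1846 4)<|c)<|a (a (b 8 0)<|a (b 1943 39)<|c)<|a (a (b 71
 0)<|a (b 9 1)<|a (b 1942 2)<|c)<|a (a (b 1 40)<|c)<|c))<|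
 d (b 2160<|b 28832<|b (a 135<|a 2160<|c) (a c<|a (a (b 2046 0)<|a (b 771 1)<|a (b 1805 2)<|a (b 1308 3)<|a (b 1048 4)<|a (b 1480 5)<|a (b 194 6)<|a (b 2159
 7)<|c)<|a (a (b 1623 0)<|a (b 342 1)<|a (b 451 2)<|a (b 892 3)<|a (b 612 4)<|a (b 543 6)<|a (b 2159 11)<|c)<|a (a (b 16 0)<|a (b 2159 39)<|c)<|a (a (b 3 0)<|
 a (b 2149 1)<|a (b 2 2)<|c)<|a (a (b 1 40)<|c)<|c))<|
 d (b 2187<|b 28712<|b c (a (a (b 2084 0)<|a (b 2137 1)<|a (b 9 2)<|c)<|a c<|a c<|c))<|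
 d (b 2880<|b 26195<|b c (a (a (b 1911 0)<|a (b 1722 1)<|a (b 774 2)<|a (b 227 3)<|a (b 2642 4)<|a (b 2802 5)<|c)<|a c<|a c<|a c<|a c<|a c<|c))<|
 d (b 2916<|b 26087<|b (a 729<|a 2916<|c) (a c<|a (a (b 2565 0)<|a (b 1239 1)<|a (b 1488 2)<|a (b 528 3)<|a (b 2653 4)<|c)<|a (a (b 4 0)<|a (b 2915 39)<|c)<|
 a (a (b 2907 0)<|a (b 17 1)<|a (b 2914 2)<|c)<|a (a (b 1 40)<|c)<|c))<|
 e);
 (d (b 675<|b 42486<|b (a 675<|c) (a c<|a (a (b 429 0)<|a (b 474 1)<|a (b 486 2)<|a (b 544 3)<|c)<|a (a (b 39 0)<|a (b 674 30)<|c)<|a (a (b 1 39)<|c)<|c))<|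
 d (b 720<|b 41582<|b (a 45<|a 720<|c) (a c<|a (a (b 546 0)<|a (b 147 1)<|a (b 632 2)<|a (b 182 3)<|a (b 549 4)<|a (b 64 5)<|a (b 680 6)<|a (b 719 7)<|c)<|
 a (a (b 699 0)<|a (b 443 1)<|a (b 520 2)<|a (b 102 3)<|a (b 697 4)<|c)<|a (a (b 16 0)<|a (b 719 39)<|c)<|a (a (b 645 0)<|a (b 715 1)<|a (b 2 2)<|c)<|a (a (b 1
 40)<|c)<|c))<|
 d (b 810<|b 39981<|b (a 405<|a 810<|c) (a c<|a (a (b 421 0)<|a (b 299 1)<|a (b 797 2)<|a (b 71 3)<|a (b 112 4)<|a (b 6 5)<|a (b 87 6)<|a (b 1 7)<|c)<|a (a (b 471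
 0)<|a (b 587 1)<|a (b 157 2)<|a (b 748 3)<|a (b 146 4)<|c)<|a (a (b 2 0)<|a (b 809 39)<|c)<|a (a (b 699 0)<|a (b 797 1)<|a (b 4 2)<|c)<|a (a (b 1 40)<|c)<|c))<|
 d (b 864<|b 39130<|b c (a (a (b 516 0)<|a (b 421 1)<|a (b 227 2)<|a (b 834 3)<|a (b 79 4)<|a (b 1 5)<|c)<|a c<|a c<|a c<|a c<|c))<|
 d (b 1250<|b 34598<|b (a 1250<|c) (a c<|a (a (b 1160 0)<|a (b 269 1)<|a (b 454 2)<|a (b 1249 3)<|c)<|a (a (b 1 39)<|c)<|c))<|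
 d (b 1440<|b 33004<|b c (a (a (b 1008 0)<|a (b 253 1)<|a (b 731 2)<|a (b 854 3)<|a (b 693 4)<|a (b 709 5)<|a (b 1437 6)<|c)<|a c<|a c<|a c<|a c<|a c<|c))<|
 e));
 (let e:=(d (b 270<|b 57663<|b (a 135<|a 270<|c) (a c<|a (a (b 108 0)<|a (b 18 1)<|a (b 246 2)<|a (b 244 3)<|a (b 261 4)<|a (b 165 5)<|a (b 120 6)<|a (b 15 7)<|a (b 1
 8)<|c)<|a (a (b 114 0)<|a (b 3 1)<|a (b 255 2)<|a (b 37 3)<|a (b 12 4)<|c)<|a (a (b 2 0)<|a (b 269 39)<|c)<|a (a (b 27 0)<|a (b 269 26)<|c)<|a (a (b 1 40)<|c)<|c))<|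
 d (b 288<|b 56435<|b c (a (a (b 168 0)<|a (b 79 1)<|a (b 221 2)<|a (b 170 3)<|a (b 249 4)<|a (b 3 5)<|c)<|a c<|a c<|a c<|a c<|c))<|
 d (b 324<|b 54263<|b (a 81<|a 324<|c) (a c<|a (a (b 15 0)<|a (b 271 1)<|a (b 272 2)<|a (b 74 3)<|a (b 13 4)<|c)<|a (a (b 4 0)<|a (b 323 39)<|c)<|a (a (b 67 0)<|a (b 323
 20)<|c)<|a (a (b 1 40)<|c)<|c))<|
 d (b 375<|b 51682<|b (a 375<|c) (a c<|a (a (b 214 0)<|a (b 211 1)<|a (b 178 2)<|a (b 233 3)<|a (b 1 4)<|c)<|a (a (b 290 0)<|a (b 374 36)<|c)<|a (a (b 1 39)<|c)<|c))<|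
 d (b 400<|b 50582<|b (a 400<|c) (a c<|a (a (b 259 0)<|a (b 1 1)<|a (b 392 2)<|c)<|a (a (b 1 39)<|c)<|c))<|
 d (b 576<|b 44793<|b c (a (a (b 462 0)<|a (b 281 1)<|a (b 355 2)<|a (b 172 3)<|a (b 255 4)<|a (b 5 5)<|c)<|a c<|a c<|a c<|a c<|c))<|
 e);
 (a (b 32<|b 117390<|b c (a (a (b 14 0)<|a (b 31 1)<|c)<|a c<|c))<|
 a (b 50<|b 101164<|b (a 50<|c) (a c<|a (a (b 29 0)<|a (b 49 1)<|a (b 4 3)<|c)<|a (a (b 1 39)<|c)<|c))<|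
 a (b 60<|b 95199<|b (a 15<|a 60<|c) (a c<|a (a (b 9 0)<|a (b 21 1)<|a (b 15 2)<|a (b 24 3)<|a (b 24 4)<|a (b 21 9)<|a (b 57 14)<|a (b 54 24)<|a (b 1 32)<|c)<|
 a (a (b 39 0)<|a (b 3 1)<|a (b 45 2)<|a (b 52 3)<|a (b 12 4)<|c)<|a (a (b 4 0)<|a (b 59 39)<|c)<|a (a (b 3 0)<|a (b 59 24)<|c)<|a (a (b 1 40)<|c)<|c))<|
 a (b 120<|b 75559<|b (a 15<|a 120<|c) (a c<|a (a (b 91 0)<|a (b 1 1)<|a (b 55 2)<|a (b 93 3)<|a (b 18 4)<|a (b 30 5)<|a (b 4 6)<|a (b 119 7)<|c)<|a (a (b 90 0)<|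
 a (b 35 1)<|a (b 61 2)<|a (b 15 3)<|a (b 4 4)<|c)<|a (a (b 8 0)<|a (b 119 39)<|c)<|a (a (b 70 0)<|a (b 119 2)<|c)<|a (a (b 1 40)<|c)<|c))<|
 a (b 125<|b 74538<|b (a 125<|c) (a c<|a (a (b 1 39)<|c)<|c))<|
 a (b 128<|b 73951<|b c (a (a (b 110 0)<|a (b 127 1)<|c)<|a c<|c))<|
 e))))))

theorem ok0 : chkB D R nu O2 SOL CL0 = true := by decide +kernel

theorem okLa : chkShort CLa = true := by decide +kernel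

end Cfsg.Agent.N2.Sp3.Ly
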