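import Cfsg.Agent.N2.Sp3.Lyv_m3
import Cfsg.Agent.Prune
set_option linter.all false
prune_inst 0x7f00000000000000000000000000000000000000000000000000000000000000000000000000000000000000000000000000000000000000000000000000000000000000000000000000000000000000003fffffffffffffffffffffffffffbeffbdffffffff
open scoped Cfsg.Agent.FastGrp
private noncomputable def lq26f914a2e2 {T : Sort _} (f :
    type_of% (@_root_.List.cons.{0}) →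
    type_of% (@_root_.Prod.mk.{0, 0}) →
    type_of% (@_root_.List.nil.{0}) →
    type_of% (@_root_.List.cons.{0} (Prod Nat (Prod Nat (Prod (List Nat) (List (List (Prod Nat Nat))))))) → T) : T :=
  f (@_root_.List.cons.{0}) (@_root_.Prod.mk.{0, 0}) (@_root_.List.nil.{0}) (@_root_.List.cons.{0} (Prod Nat (Prod Nat (Prod (List Nat) (List (List (Prod Nat Nat)))))))

/-!
# N2 (S3519), the row of Ly: the exact sieve, part 1 (helper23; generated with notes/N2/sp45)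
-/

set_option autoImplicit false
set_option maxRecDepth 100000

namespace Cfsg.Agent.N2.Sp3.Ly

open Cfsg Cfsg.Agent.N2.Sp Cfsg.Agent.N2.Sp.Ly Cfsg.Agent.N2.Sp1

/-- the certificates -/
noncomputable def CL1 : List Ct := (beta% delta% lq26f914a2e2 fun a b c d =>
 (let e:=(let e:=(let e:=(let e:=(d (b 2332800<|b 2811<|b c (a (a (b 746698 0)<|a (b 2246140 1)<|a (b 1585187 2)<|a (b 1242186 3)<|a (b 360160 4)<|a (b 1663564 5)<|a (b 833184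
 6)<|a (b 1670200 7)<|a (b 2307164 8)<|a (b 1 9)<|c)<|a c<|a c<|a c<|a c<|a c<|a c<|a c<|a c<|c))<|
 d (b 2733750<|b 2666<|b c (a (a (b 2597750 0)<|a (b 383114 1)<|a (b 1201196 2)<|a (b 2537810 3)<|a (b 521030 4)<|a (b 1825340 5)<|a (b 828935
 6)<|a (b 2270980 7)<|a (b 2733747 8)<|c)<|a c<|a c<|a c<|a c<|a c<|a c<|a c<|c))<|
 d (b 3499200<|b 2455<|b c (a (a (b 2625002 0)<|a (b 3458916 1)<|a (b 112307 2)<|a (b 705738 3)<|a (b 2126576 4)<|a (b 3493044 5)<|a (b 1898776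
 6)<|a (b 3223992 7)<|a (b 1415012 8)<|a (b 1 9)<|c)<|a c<|a c<|a c<|a c<|a c<|a c<|a c<|a c<|c))<|
 d (b 4000000<|b 2348<|b c (a (a (b 1826558 0)<|a (b 238653 1)<|a (b 3977940 2)<|a (b 189554 3)<|a (b 837508 4)<|a (b 3844455 5)<|c)<|a c<|a c<|
 a c<|a c<|a c<|c))<|
 d (b 4556250<|b 2249<|b (a 2278125<|a 4556250<|c) (a c<|a (a (b 2010165 0)<|a (b 3688039 1)<|a (b 558432 2)<|a (b 2196705 3)<|a (b 1358133 4)<|
 a (b 3324502 5)<|a (b 3650914 6)<|a (b 4547353 7)<|c)<|a (a (b 686286 0)<|a (b 3506410 1)<|a (b 4531430 2)<|a (b 4122644 3)<|a (b 88072 4)<|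
 a (b 2351898 5)<|a (b 3239700 6)<|a (b 4556249 8)<|c)<|a (a (b 1848936 0)<|a (b 3312602 1)<|a (b 2600890 2)<|a (b 2338135 3)<|a (b 1982387
 4)<|a (b 4545521 5)<|c)<|a (a (b 1631514 0)<|a (b 1320068 1)<|a (b 317425 2)<|a (b 3322 3)<|a (b 3895777 4)<|c)<|a (a (b 2 0)<|a (b 4556249 39)<|c)<|
 a (a (b 4181481 0)<|a (b 37493 1)<|a (b 4556248 2)<|c)<|a (a (b 1 40)<|c)<|c))<|
 d (b 4665600<|b 2231<|b c (a (a (b 677514 0)<|a (b 3310028 1)<|a (b 4556099 2)<|a (b 3243402 3)<|a (b 2200416 4)<|a (b 2835932 5)<|a (b 447104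
 6)<|a (b 2329208 7)<|a (b 3586172 8)<|a (b 1 9)<|c)<|a c<|a c<|a c<|a c<|a c<|a c<|a c<|a c<|c))<|
 d (b 6075000<|b 2043<|b (a 759375<|a 6075000<|c) (a c<|a (a (b 922749 0)<|a (b 4599301 1)<|a (b 5373117 2)<|a (b 4431 3)<|a (b 3564339 4)<|
 a (b 4906417 5)<|a (b 3639019 6)<|a (b 4470604 7)<|a (b 47997 8)<|c)<|a (a (b 4946586 0)<|a (b 2325482 1)<|a (b 5272115 2)<|a (b 4093304 3)<|
 a (b 3783006 4)<|a (b 2343293 5)<|a (b 2349286 6)<|a (b 4232641 7)<|a (b 6074997 8)<|c)<|a (a (b 2103388 0)<|a (b 4259016 1)<|a (b 5066484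
 2)<|a (b 5537832 3)<|a (b 1666958 4)<|a (b 5345768 5)<|a (b 2533847 6)<|a (b 6074999 8)<|c)<|a (a (b 1940586 0)<|a (b 4227652 1)<|
 a (b 2452340 2)<|a (b 3916985 3)<|a (b 6064187 4)<|a (b 15721 5)<|c)<|a (a (b 3328707 0)<|a (b 5815109 1)<|a (b 2742268 2)<|a (b 156736 3)<|
 a (b 2405083 4)<|c)<|a (a (b 8 0)<|a (b 6074999 39)<|c)<|a (a (b 5575231 0)<|a (b 49993 1)<|a (b 6074998 2)<|c)<|a (a (b 1 40)<|c)<|c))<|c);
 (d (b 1350000<|b 3373<|b (a 84375<|a 1350000<|c) (a c<|a (a (b 478287 0)<|a (b 218862 1)<|a (b 1193849 2)<|a (b 621933 3)<|a (b 663753 4)<|a (b 955830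
 5)<|a (b 1314905 6)<|a (b 293288 7)<|a (b 1348879 8)<|c)<|a (a (b 112354 0)<|a (b 220421 1)<|a (b 1122713 2)<|a (b 503636 3)<|a (b 192232 4)<|
 a (b 291824 5)<|a (b 401013 6)<|a (b 480217 7)<|c)<|a (a (b 741069 0)<|a (b 829848 1)<|a (b 924872 2)<|a (b 1123521 3)<|a (b 1007443 4)<|
 a (b 787727 5)<|a (b 627305 6)<|a (b 5 7)<|c)<|a (a (b 102281 0)<|a (b 370188 1)<|a (b 953319 2)<|a (b 1215450 3)<|a (b 1130218 4)<|a (b 246513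
 5)<|a (b 1 6)<|c)<|a (a (b 413055 0)<|a (b 591385 1)<|a (b 67016 2)<|a (b 1048840 3)<|a (b 211899 4)<|c)<|a (a (b 16 0)<|a (b 1349999 39)<|c)<|
 a (a (b 1294574 0)<|a (b 5552 1)<|a (b 1349999 2)<|c)<|a (a (b 1 40)<|c)<|c))<|
 d (b 1458000<|b 3287<|b (a 91125<|a 1458000<|c) (a c<|a (a (b 501719 0)<|a (b 988976 1)<|a (b 739227 2)<|a (b 1266981 3)<|a (b 453029 4)<|
 a (b 1455332 5)<|a (b 225564 6)<|a (b 1399364 7)<|a (b 1445517 8)<|c)<|a (a (b 253492 0)<|a (b 643750 1)<|a (b 331559 2)<|a (b 1178642 3)<|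
 a (b 1418308 4)<|a (b 1141681 5)<|a (b 218266 6)<|a (b 1229333 7)<|a (b 1106837 8)<|a (b 1 10)<|c)<|a (a (b 524456 0)<|a (b 789564 1)<|
 a (b 791478 2)<|a (b 679764 3)<|a (b 368394 4)<|a (b 1064684 5)<|a (b 1089754 6)<|a (b 13176 7)<|a (b 1457999 8)<|c)<|a (a (b 1142518 0)<|
 a (b 414911 1)<|a (b 463613 2)<|a (b 768803 3)<|a (b 525549 4)<|a (b 1140215 5)<|a (b 1 7)<|c)<|a (a (b 891777 0)<|a (b 1239449 1)<|a (b 324838
 2)<|a (b 217846 3)<|a (b 153773 4)<|c)<|a (a (b 16 0)<|a (b 1457999 39)<|c)<|a (a (b 1338231 0)<|a (b 11993 1)<|a (b 1457998 2)<|c)<|a (a (b 1 40)<|c)<|c))<|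
 d (b 1500000<|b 3256<|b c (a (a (b 788372 0)<|a (b 545834 1)<|a (b 1058258 2)<|a (b 557388 3)<|a (b 854816 4)<|a (b 778622 5)<|a (b 782009 6)<|
 a (b 390196 7)<|a (b 7858 8)<|c)<|a c<|a c<|a c<|a c<|a c<|a c<|a c<|a c<|c))<|
 d (b 1800000<|b 3064<|b (a 1800000<|c) (a c<|a (a (b 682837 0)<|a (b 1233837 1)<|a (b 1225299 2)<|a (b 292383 3)<|a (b 891403 4)<|a (b 1747005 5)<|
 a (b 985880 6)<|a (b 1712688 7)<|a (b 1798329 8)<|c)<|a (a (b 570506 0)<|a (b 306236 1)<|a (b 1633253 2)<|a (b 1479164 3)<|a (b 819872 4)<|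
 a (b 1592087 5)<|a (b 1091264 6)<|a (b 1282297 7)<|c)<|a (a (b 580125 0)<|a (b 328233 1)<|a (b 1783587 2)<|a (b 537955 3)<|a (b 1715293 4)<|
 a (b 784361 5)<|a (b 1751223 6)<|c)<|a (a (b 853680 0)<|a (b 969495 1)<|a (b 691332 2)<|a (b 1458131 3)<|a (b 847585 4)<|a (b 12748 5)<|c)<|
 a (a (b 1054671 0)<|a (b 176727 1)<|a (b 30432 2)<|a (b 387958 3)<|a (b 1312421 4)<|c)<|a (a (b 1380659 0)<|a (b 1501249 1)<|a (b 343311 2)<|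
 a (b 39314 3)<|c)<|a (a (b 73982 0)<|a (b 1792596 1)<|a (b 1 2)<|c)<|a (a (b 1 39)<|c)<|c))<|
 d (b 1944000<|b 2987<|b (a 1944000<|c) (a c<|a (a (b 264525 0)<|a (b 1245793 1)<|a (b 839691 2)<|a (b 114375 3)<|a (b 1044627 4)<|a (b 106033 5)<|
 a (b 1319476 6)<|a (b 1436272 7)<|a (b 5841 8)<|c)<|a (a (b 655119 0)<|a (b 1562117 1)<|a (b 1292900 2)<|a (b 360491 3)<|a (b 1904691 4)<|
 a (b 1416920 5)<|a (b 1003690 6)<|a (b 858961 7)<|a (b 1943997 8)<|c)<|a (a (b 1108206 0)<|a (b 928356 1)<|a (b 419844 2)<|a (b 1594494 3)<|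
 a (b 1877488 4)<|a (b 690140 5)<|a (b 1235736 6)<|a (b 1943999 8)<|c)<|a (a (b 1849524 0)<|a (b 122263 1)<|a (b 1433984 2)<|a (b 1577807 3)<|
 a (b 541733 4)<|a (b 1937740 5)<|c)<|a (a (b 343983 0)<|a (b 1584746 1)<|a (b 1530844 2)<|a (b 1905409 3)<|a (b 31950 4)<|c)<|a (a (b 807884 0)<|
 a (b 171449 1)<|a (b 246611 2)<|a (b 7739 3)<|c)<|a (a (b 1784231 0)<|a (b 15993 1)<|a (b 1943998 2)<|c)<|a (a (b 1 39)<|c)<|c))<|
 d (b 2000000<|b 2959<|b c (a (a (b 386558 0)<|a (b 1518653 1)<|a (b 977940 2)<|a (b 289554 3)<|a (b 827508 4)<|a (b 1914455 5)<|c)<|a c<|a c<|a c<|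
 a c<|a c<|c))<|
 e));
 (let e:=(d (b 800000<|b 4015<|b c (a (a (b 507173 0)<|a (b 192432 1)<|a (b 463524 2)<|a (b 799741 3)<|c)<|a c<|a c<|a c<|c))<|
 d (b 810000<|b 3999<|b (a 50625<|a 810000<|c) (a c<|a (a (b 732422 0)<|a (b 365010 1)<|a (b 315069 2)<|a (b 326820 3)<|a (b 478025 4)<|a (b 401314
 5)<|a (b 802111 6)<|c)<|a (a (b 43042 0)<|a (b 394034 1)<|a (b 268229 2)<|a (b 547916 3)<|a (b 508132 4)<|a (b 40773 5)<|a (b 1 7)<|c)<|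
 a (a (b 319947 0)<|a (b 43594 1)<|a (b 3659 2)<|a (b 307064 3)<|a (b 695288 4)<|a (b 809999 5)<|c)<|a (a (b 16 0)<|a (b 809999 39)<|c)<|a (a (b 33260
 0)<|a (b 806670 1)<|a (b 1 2)<|c)<|a (a (b 1 40)<|c)<|c))<|
 d (b 900000<|b 3861<|b c (a (a (b 475812 0)<|a (b 191724 1)<|a (b 251514 2)<|a (b 213380 3)<|a (b 256100 4)<|a (b 887848 5)<|a (b 650805 6)<|
 a (b 12 7)<|c)<|a c<|a c<|a c<|a c<|a c<|a c<|c))<|
 d (b 1080000<|b 3633<|b (a 1080000<|c) (a c<|a (a (b 712886 0)<|a (b 1023645 1)<|a (b 944199 2)<|a (b 546216 3)<|a (b 1049255 4)<|a (b 1000685 5)<|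
 a (b 1060948 6)<|c)<|a (a (b 1044879 0)<|a (b 403709 1)<|a (b 419540 2)<|a (b 847547 3)<|a (b 495987 4)<|a (b 666360 5)<|a (b 1027336 6)<|a (b 1
 7)<|c)<|a (a (b 875622 0)<|a (b 352339 1)<|a (b 838208 2)<|a (b 196281 3)<|a (b 1067613 4)<|c)<|a (a (b 786143 0)<|a (b 463657 1)<|a (b 1052823
 2)<|a (b 225846 3)<|c)<|a (a (b 1079968 0)<|a (b 11 1)<|a (b 1079999 3)<|c)<|a (a (b 1 39)<|c)<|c))<|
 d (b 1093500<|b 3618<|b c (a (a (b 493822 0)<|a (b 1038966 1)<|a (b 1079731 2)<|a (b 976286 3)<|a (b 574452 4)<|a (b 50798 5)<|a (b 930790 6)<|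
 a (b 669236 7)<|a (b 1 9)<|c)<|a c<|a c<|a c<|a c<|a c<|a c<|c))<|
 d (b 1296000<|b 3419<|b c (a (a (b 989562 0)<|a (b 88436 1)<|a (b 183587 2)<|a (b 1191258 3)<|a (b 872016 4)<|a (b 430244 5)<|a (b 845936 6)<|
 a (b 533912 7)<|a (b 87932 8)<|a (b 1 9)<|c)<|a c<|a c<|a c<|a c<|a c<|a c<|a c<|a c<|c))<|
 e);
 (d (b 405000<|b 5038<|b (a 50625<|a 405000<|c) (a c<|a (a (b 167811 0)<|a (b 207347 1)<|a (b 65541 2)<|a (b 217437 3)<|a (b 286335 4)<|a (b 135975 5)<|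
 a (b 264245 6)<|a (b 404996 7)<|c)<|a (a (b 360874 0)<|a (b 24015 1)<|a (b 283092 2)<|a (b 378688 3)<|a (b 9414 4)<|a (b 243534 5)<|a (b 367237
 7)<|a (b 1 9)<|c)<|a (a (b 331569 0)<|a (b 205458 1)<|a (b 55056 2)<|a (b 137520 3)<|a (b 279287 4)<|a (b 404999 5)<|c)<|a (a (b 8 0)<|a (b 404999
 39)<|c)<|a (a (b 66289 0)<|a (b 398347 1)<|a (b 4 2)<|c)<|a (a (b 1 40)<|c)<|c))<|
 d (b 450000<|b 4864<|b c (a (a (b 211803 0)<|a (b 27789 1)<|a (b 98484 2)<|a (b 70479 3)<|a (b 212970 4)<|a (b 190097 5)<|a (b 444858 6)<|a (b 12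
 7)<|c)<|a c<|a c<|a c<|a c<|a c<|a c<|c))<|
 d (b 506250<|b 4677<|b c (a (a (b 130251 0)<|a (b 267152 1)<|a (b 62704 2)<|a (b 448147 3)<|a (b 458742 4)<|a (b 486622 5)<|c)<|a c<|a c<|a c<|a c<|
 a c<|c))<|
 d (b 562500<|b 4515<|b c (a (a (b 425109 0)<|a (b 234810 1)<|a (b 530655 2)<|a (b 239551 3)<|a (b 167005 4)<|a (b 425026 5)<|a (b 22872 6)<|c)<|
 a c<|a c<|a c<|a c<|a c<|a c<|c))<|
 d (b 720000<|b 4159<|b c (a (a (b 278263 0)<|a (b 686232 1)<|a (b 513847 2)<|a (b 424183 3)<|a (b 436112 4)<|a (b 406392 5)<|a (b 168304 6)<|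
 a (b 400784 7)<|a (b 1 9)<|c)<|a c<|a c<|a c<|a c<|a c<|a c<|c))<|
 d (b 729000<|b 4141<|b (a 91125<|a 729000<|c) (a c<|a (a (b 84317 0)<|a (b 686685 1)<|a (b 33219 2)<|a (b 390975 3)<|a (b 481175 4)<|a (b 712469 5)<|
 a (b 716896 6)<|c)<|a (a (b 461452 0)<|a (b 146369 1)<|a (b 16862 2)<|a (b 533780 3)<|a (b 563677 4)<|a (b 265300 5)<|a (b 1 7)<|c)<|a (a (b 36165
 0)<|a (b 205955 1)<|a (b 629476 2)<|a (b 247120 3)<|a (b 722669 4)<|c)<|a (a (b 8 0)<|a (b 728999 39)<|c)<|a (a (b 669231 0)<|a (b 5993 1)<|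
 a (b 728998 2)<|c)<|a (a (b 1 40)<|c)<|c))<|
 e)));
 (let e:=(let e:=(d (b 270000<|b 5767<|b (a 16875<|a 270000<|c) (a c<|a (a (b 158657 0)<|a (b 226785 1)<|a (b 12519 2)<|a (b 203235 3)<|a (b 41975 4)<|a (b 266729 5)<|
 a (b 8866 6)<|c)<|a (a (b 146735 0)<|a (b 264569 1)<|a (b 58886 2)<|a (b 182759 3)<|a (b 241997 4)<|a (b 141108 5)<|a (b 71774 6)<|a (b 1 7)<|c)<|
 a (a (b 70422 0)<|a (b 119939 1)<|a (b 79258 2)<|a (b 59181 3)<|a (b 37963 4)<|c)<|a (a (b 16 0)<|a (b 269999 39)<|c)<|a (a (b 176649 0)<|a (b 36564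
 1)<|a (b 269967 2)<|a (b 269999 3)<|c)<|a (a (b 1 40)<|c)<|c))<|
 d (b 279936<|b 5698<|b c (a (a (b 63556 0)<|a (b 50774 1)<|a (b 187090 2)<|a (b 244672 3)<|a (b 231140 4)<|a (b 203586 5)<|a (b 279935 6)<|c)<|a c<|
 a c<|a c<|a c<|a c<|c))<|
 d (b 303750<|b 5545<|b (a 151875<|a 303750<|c) (a c<|a (a (b 271780 0)<|a (b 28518 1)<|a (b 207580 2)<|a (b 232798 3)<|a (b 112111 4)<|a (b 193023
 5)<|a (b 33663 6)<|a (b 1 7)<|c)<|a (a (b 62091 0)<|a (b 173517 1)<|a (b 97977 2)<|a (b 46368 3)<|a (b 302936 4)<|c)<|a (a (b 2 0)<|a (b 303749 39)<|c)<|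
 a (a (b 278981 0)<|a (b 2493 1)<|a (b 303748 2)<|c)<|a (a (b 1 40)<|c)<|c))<|
 d (b 311040<|b 5501<|b c (a (a (b 194646 0)<|a (b 82396 1)<|a (b 243571 2)<|a (b 225302 3)<|a (b 193952 4)<|a (b 85644 5)<|a (b 277512 6)<|
 a (b 30936 7)<|a (b 1 9)<|c)<|a c<|a c<|a c<|a c<|a c<|a c<|c))<|
 d (b 360000<|b 5239<|b (a 360000<|c) (a c<|a (a (b 131552 0)<|a (b 26085 1)<|a (b 140919 2)<|a (b 323890 3)<|a (b 78375 4)<|a (b 193509 5)<|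
 a (b 335776 6)<|c)<|a (a (b 123086 0)<|a (b 325229 1)<|a (b 19832 2)<|a (b 184626 3)<|a (b 199407 4)<|a (b 64336 5)<|a (b 358922 6)<|a (b 1 7)<|c)<|
 a (a (b 353091 0)<|a (b 264267 1)<|a (b 105852 2)<|a (b 28118 3)<|a (b 3061 4)<|c)<|a (a (b 205769 0)<|a (b 266569 1)<|a (b 19791 2)<|a (b 355344
 3)<|c)<|a (a (b 345296 0)<|a (b 1478 1)<|a (b 359999 2)<|c)<|a (a (b 1 39)<|c)<|c))<|
 d (b 400000<|b 5059<|b c (a (a (b 321519 0)<|a (b 77296 1)<|a (b 90572 2)<|a (b 399223 3)<|c)<|a c<|a c<|a c<|c))<|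
 e);
 (d (b 129600<|b 7365<|b (a 129600<|c) (a c<|a (a (b 56588 0)<|a (b 50025 1)<|a (b 18639 2)<|a (b 23694 3)<|a (b 80495 4)<|a (b 58313 5)<|a (b 964 6)<|c)<|
 a (a (b 81002 0)<|a (b 66269 1)<|a (b 123212 2)<|a (b 26630 3)<|a (b 30227 4)<|a (b 8800 5)<|a (b 126950 6)<|a (b 1 7)<|c)<|a (a (b 47649 0)<|
 a (b 86363 1)<|a (b 118060 2)<|a (b 128452 3)<|a (b 10397 4)<|c)<|a (a (b 99863 0)<|a (b 34097 1)<|a (b 75983 2)<|a (b 806 3)<|c)<|a (a (b 5260 0)<|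
 a (b 129070 1)<|a (b 1 2)<|c)<|a (a (b 1 39)<|c)<|c))<|
 d (b 150000<|b 7015<|b c (a (a (b 36330 0)<|a (b 3969 1)<|a (b 51324 2)<|a (b 129182 3)<|a (b 148610 4)<|a (b 97725 5)<|a (b 25824 6)<|a (b 12
 7)<|c)<|a c<|a c<|a c<|a c<|a c<|a c<|c))<|
 d (b 151875<|b 6986<|b (a 151875<|c) (a c<|a (a (b 61444 0)<|a (b 100294 1)<|a (b 92566 2)<|a (b 131494 3)<|c)<|a (a (b 139606 0)<|a (b 1243 1)<|
 a (b 151873 2)<|c)<|a (a (b 1 39)<|c)<|c))<|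
 d (b 172800<|b 6692<|b c (a (a (b 67383 0)<|a (b 66472 1)<|a (b 104887 2)<|a (b 49783 3)<|a (b 168112 4)<|a (b 115272 5)<|a (b 39504 6)<|
 a (b 39504 7)<|a (b 1 9)<|c)<|a c<|a c<|a c<|a c<|a c<|a c<|c))<|
 d (b 200000<|b 6373<|b c (a (a (b 121519 0)<|a (b 27296 1)<|a (b 40572 2)<|a (b 199223 3)<|c)<|a c<|a c<|a c<|c))<|
 d (b 250000<|b 5917<|b c (a (a (b 210217 0)<|a (b 50328 1)<|a (b 230796 2)<|a (b 249889 3)<|c)<|a c<|a c<|a c<|c))<|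
 e));
 (let e:=(d (b 81000<|b 8614<|b (a 10125<|a 81000<|c) (a c<|a (a (b 46566 0)<|a (b 69495 1)<|a (b 35803 2)<|a (b 15692 3)<|a (b 43841 4)<|a (b 19752 5)<|
 a (b 22620 6)<|a (b 48060 7)<|a (b 80999 11)<|c)<|a (a (b 51502 0)<|a (b 7919 1)<|a (b 24452 2)<|a (b 40250 3)<|a (b 49027 4)<|a (b 19010 5)<|
 a (b 1 7)<|c)<|a (a (b 62349 0)<|a (b 79963 1)<|a (b 21335 2)<|a (b 18902 3)<|a (b 22022 4)<|c)<|a (a (b 8 0)<|a (b 80999 39)<|c)<|a (a (b 3260 0)<|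
 a (b 80670 1)<|a (b 1 2)<|c)<|a (a (b 1 40)<|c)<|c))<|
 d (b 87480<|b 8396<|b c (a (a (b 7487 0)<|a (b 39116 1)<|a (b 27961 2)<|a (b 72251 3)<|a (b 39562 4)<|a (b 36748 5)<|a (b 86990 6)<|a (b 19816 7)<|
 a (b 1 9)<|c)<|a c<|a c<|a c<|a c<|a c<|a c<|c))<|
 d (b 100000<|b 8030<|b c (a (a (b 21519 0)<|a (b 77296 1)<|a (b 90572 2)<|a (b 99223 3)<|c)<|a c<|a c<|a c<|c))<|
 d (b 108000<|b 7826<|b (a 108000<|c) (a c<|a (a (b 106721 0)<|a (b 101295 1)<|a (b 13899 2)<|a (b 33531 3)<|a (b 94955 4)<|a (b 54375 5)<|a (b 14128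
 6)<|c)<|a (a (b 23687 0)<|a (b 2429 1)<|a (b 48200 2)<|a (b 90059 3)<|a (b 27047 4)<|a (b 30872 5)<|a (b 41300 6)<|a (b 1 7)<|c)<|a (a (b 74730 0)<|
 a (b 45235 1)<|a (b 82916 2)<|a (b 31365 3)<|a (b 26649 4)<|c)<|a (a (b 64409 0)<|a (b 38249 1)<|a (b 3311 2)<|a (b 80064 3)<|c)<|a (a (b 107968 0)<|
 a (b 11 1)<|a (b 107999 3)<|c)<|a (a (b 1 39)<|c)<|c))<|
 d (b 121500<|b 7525<|b (a 2<|a 30375<|a 121500<|c) (a c<|a (a (b 48562 0)<|a (b 13542 1)<|a (b 8754 2)<|a (b 7830 3)<|a (b 91150 4)<|a (b 7686 5)<|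
 a (b 13268 6)<|a (b 60756 7)<|a (b 1 39)<|c)<|a (a (b 90427 0)<|a (b 49469 1)<|a (b 103817 2)<|a (b 81545 3)<|a (b 35002 4)<|a (b 76320 5)<|a (b 1
 7)<|c)<|a (a (b 64401 0)<|a (b 108487 1)<|a (b 112412 2)<|a (b 72248 3)<|a (b 117581 4)<|c)<|a (a (b 4 0)<|a (b 121499 40)<|c)<|a (a (b 111731 0)<|
 a (b 993 1)<|a (b 121498 2)<|c)<|a (a (b 1 41)<|c)<|c))<|
 d (b 125000<|b 7454<|b c (a (a (b 85217 0)<|a (b 50328 1)<|a (b 105796 2)<|a (b 124889 3)<|c)<|a c<|a c<|a c<|c))<|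
 e);
 (d (b 38880<|b 11002<|b (a 38880<|c) (a c<|a (a (b 16955 0)<|a (b 28665 1)<|a (b 11919 2)<|a (b 23517 3)<|a (b 21095 4)<|a (b 3681 5)<|a (b 36250 6)<|c)<|
 a (a (b 32146 0)<|a (b 37589 1)<|a (b 24374 2)<|a (b 22442 3)<|a (b 18517 4)<|a (b 4824 5)<|a (b 36312 6)<|a (b 1 7)<|c)<|a (a (b 32649 0)<|
 a (b 32923 1)<|a (b 36560 2)<|a (b 1652 3)<|a (b 3497 4)<|c)<|a (a (b 11192 0)<|a (b 21015 1)<|a (b 9805 2)<|a (b 313 3)<|c)<|a (a (b 35911 0)<|a (b 313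
 1)<|a (b 38878 2)<|c)<|a (a (b 1 39)<|c)<|c))<|
 d (b 48600<|b 10213<|b (a 6075<|a 48600<|c) (a c<|a (a (b 28139 0)<|a (b 21315 1)<|a (b 11709 2)<|a (b 18033 3)<|a (b 2465 4)<|a (b 33827 5)<|a (b 172
 6)<|c)<|a (a (b 24727 0)<|a (b 25769 1)<|a (b 22172 2)<|a (b 5435 3)<|a (b 34027 4)<|a (b 9940 5)<|a (b 1 7)<|c)<|a (a (b 6225 0)<|a (b 34675 1)<|
 a (b 22811 2)<|a (b 4850 3)<|a (b 914 4)<|c)<|a (a (b 8 0)<|a (b 48599 39)<|c)<|a (a (b 44831 0)<|a (b 393 1)<|a (b 48598 2)<|c)<|a (a (b 1 40)<|c)<|c))<|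
 d (b 50000<|b 10117<|b c (a (a (b 7173 0)<|a (b 29932 1)<|a (b 1024 2)<|a (b 49741 3)<|c)<|a c<|a c<|a c<|c))<|
 d (b 54000<|b 9861<|b (a 3375<|a 54000<|c) (a c<|a (a (b 49949 0)<|a (b 49815 1)<|a (b 24159 2)<|a (b 7023 3)<|a (b 19415 4)<|a (b 45567 5)<|a (b 952
 6)<|c)<|a (a (b 21307 0)<|a (b 36749 1)<|a (b 38336 2)<|a (b 40847 3)<|a (b 1687 4)<|a (b 38056 5)<|a (b 1 7)<|c)<|a (a (b 53658 0)<|a (b 28971 1)<|
 a (b 3069 2)<|a (b 50559 3)<|a (b 500 4)<|c)<|a (a (b 16 0)<|a (b 53999 39)<|c)<|a (a (b 45545 0)<|a (b 875 1)<|a (b 53996 2)<|c)<|a (a (b 1 40)<|c)<|c))<|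
 d (b 57600<|b 9651<|b c (a (a (b 46720 0)<|a (b 50580 1)<|a (b 1915 2)<|a (b 45120 3)<|a (b 47872 4)<|a (b 3300 5)<|a (b 56008 6)<|a (b 8648 7)<|
 a (b 1 9)<|c)<|a c<|a c<|a c<|a c<|a c<|a c<|c))<|
 d (b 75000<|b 8838<|b c (a (a (b 4473 0)<|a (b 33714 1)<|a (b 72384 2)<|a (b 11109 3)<|a (b 62370 4)<|a (b 58102 5)<|a (b 74343 6)<|a (b 12 7)<|c)<|
 a c<|a c<|a c<|a c<|a c<|a c<|c))<|
 e))));
 (let e:=(let e:=(let e:=(d (b 22500<|b 13202<|b (a 2<|a 5625<|a 22500<|c) (a c<|a (a (b 8005 0)<|a (b 13965 1)<|a (b 11202 2)<|a (b 13801 3)<|a (b 8030 4)<|a (b 21773 5)<|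
 a (b 15845 6)<|a (b 1 39)<|c)<|a (a (b 1927 0)<|a (b 18719 1)<|a (b 6467 2)<|a (b 16245 3)<|a (b 3752 4)<|a (b 1170 5)<|a (b 1 7)<|c)<|a (a (b 210 0)<|
 a (b 9495 1)<|a (b 5646 2)<|a (b 21905 3)<|a (b 20059 4)<|c)<|a (a (b 4 0)<|a (b 22499 40)<|c)<|a (a (b 16738 0)<|a (b 624 1)<|a (b 22493 2)<|c)<|a (a (b 1
 41)<|c)<|c))<|
 d (b 25000<|b 12746<|b c (a (a (b 21519 0)<|a (b 8546 1)<|a (b 21822 2)<|a (b 24223 3)<|c)<|a c<|a c<|a c<|c))<|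
 d (b 25920<|b 12594<|b (a 25920<|c) (a c<|a (a (b 15989 0)<|a (b 8625 1)<|a (b 1719 2)<|a (b 8583 3)<|a (b 11375 4)<|a (b 3497 5)<|a (b 982 6)<|c)<|
 a (a (b 6908 0)<|a (b 17429 1)<|a (b 16244 2)<|a (b 22280 3)<|a (b 587 4)<|a (b 23112 5)<|a (b 24698 6)<|a (b 1 7)<|c)<|a (a (b 13767 0)<|a (b 16459
 1)<|a (b 23648 2)<|a (b 14306 3)<|a (b 21233 4)<|c)<|a (a (b 10532 0)<|a (b 22045 1)<|a (b 11775 2)<|a (b 25743 3)<|c)<|a (a (b 3889 0)<|a (b 25507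
 1)<|a (b 4 2)<|c)<|a (a (b 1 39)<|c)<|c))<|
 d (b 29160<|b 12109<|b (a 3645<|a 29160<|c) (a c<|a (a (b 22859 0)<|a (b 9315 1)<|a (b 7779 2)<|a (b 6093 3)<|a (b 20555 4)<|a (b 24747 5)<|a (b 52 6)<|c)<|
 a (a (b 10237 0)<|a (b 3839 1)<|a (b 19604 2)<|a (b 24521 3)<|a (b 20287 4)<|a (b 2538 5)<|a (b 1 7)<|c)<|a (a (b 23589 0)<|a (b 26403 1)<|a (b 1065
 2)<|a (b 23922 3)<|a (b 212 4)<|c)<|a (a (b 8 0)<|a (b 29159 39)<|c)<|a (a (b 26991 0)<|a (b 233 1)<|a (b 29158 2)<|c)<|a (a (b 1 40)<|c)<|c))<|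
 d (b 31250<|b 11833<|b c (a (a (b 9962 0)<|a (b 31235 1)<|a (b 10403 2)<|c)<|a c<|a c<|c))<|
 d (b 36450<|b 11241<|b (a 18225<|a 36450<|c) (a c<|a (a (b 34684 0)<|a (b 4100 1)<|a (b 35264 2)<|a (b 6602 3)<|a (b 36373 4)<|a (b 2877 5)<|a (b 4047
 6)<|a (b 1 7)<|c)<|a (a (b 32019 0)<|a (b 14053 1)<|a (b 23930 2)<|a (b 32312 3)<|a (b 3137 4)<|c)<|a (a (b 2 0)<|a (b 36449 39)<|c)<|a (a (b 33681 0)<|
 a (b 293 1)<|a (b 36448 2)<|c)<|a (a (b 1 40)<|c)<|c))<|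
 d (b 37500<|b 11135<|b c (a (a (b 8587 0)<|a (b 28974 1)<|a (b 1389 2)<|a (b 21605 3)<|a (b 15975 4)<|a (b 21698 5)<|a (b 16130 6)<|a (b 12 7)<|c)<|
 a c<|a c<|a c<|a c<|a c<|a c<|c))<|
 e);
 (d (b 12000<|b 16279<|b (a 12000<|c) (a c<|a (a (b 2335 0)<|a (b 11055 1)<|a (b 7779 2)<|a (b 8777 3)<|a (b 435 4)<|a (b 8471 5)<|a (b 11540 6)<|c)<|
 a (a (b 5011 0)<|a (b 7499 1)<|a (b 368 2)<|a (b 11959 3)<|a (b 10647 4)<|a (b 9990 5)<|a (b 11562 6)<|a (b 1 7)<|c)<|a (a (b 5592 0)<|a (b 2979 1)<|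
 a (b 11928 2)<|a (b 6091 3)<|a (b 11853 4)<|c)<|a (a (b 311 0)<|a (b 3373 1)<|a (b 10947 2)<|a (b 10 3)<|c)<|a (a (b 5725 0)<|a (b 735 1)<|a (b 11984
 2)<|c)<|a (a (b 1 39)<|c)<|c))<|
 d (b 12150<|b 16212<|b (a 6075<|a 12150<|c) (a c<|a (a (b 2734 0)<|a (b 7769 1)<|a (b 2372 2)<|a (b 98 3)<|a (b 6637 4)<|a (b 9948 5)<|a (b 1176 6)<|a (b 1
 7)<|c)<|a (a (b 1527 0)<|a (b 10699 1)<|a (b 3938 2)<|a (b 8846 3)<|a (b 10823 4)<|c)<|a (a (b 2 0)<|a (b 12149 39)<|c)<|a (a (b 11381 0)<|a (b 93 1)<|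
 a (b 12148 2)<|c)<|a (a (b 1 40)<|c)<|c))<|
 d (b 15625<|b 14908<|b c (a (a (b 69 0)<|a (b 15624 1)<|c)<|a c<|c))<|
 d (b 18000<|b 14221<|b (a 1125<|a 18000<|c) (a c<|a (a (b 7847 0)<|a (b 885 1)<|a (b 9819 2)<|a (b 14145 3)<|a (b 6275 4)<|a (b 15389 5)<|a (b 17386
 6)<|c)<|a (a (b 3262 0)<|a (b 6479 1)<|a (b 440 2)<|a (b 17954 3)<|a (b 11647 4)<|a (b 17282 5)<|a (b 1 7)<|c)<|a (a (b 10221 0)<|a (b 4827 1)<|
 a (b 14232 2)<|a (b 11608 3)<|a (b 1521 4)<|c)<|a (a (b 16 0)<|a (b 17999 39)<|c)<|a (a (b 12895 0)<|a (b 565 1)<|a (b 17992 2)<|c)<|a (a (b 1 40)<|c)<|c))<|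
 d (b 18225<|b 14162<|b (a 18225<|c) (a c<|a (a (b 10150 0)<|a (b 9152 1)<|a (b 903 2)<|a (b 5754 3)<|c)<|a (a (b 16956 0)<|a (b 143 1)<|a (b 18223 2)<|c)<|
 a (a (b 1 39)<|c)<|c))<|
 d (b 18750<|b 14029<|b c (a (a (b 10143 0)<|a (b 18111 1)<|a (b 3672 2)<|a (b 13521 3)<|a (b 7356 4)<|a (b 18571 5)<|c)<|a c<|a c<|a c<|a c<|a c<|c))<|
 e));
 (let e:=(d (b 5832<|b 20705<|b (a 729<|a 5832<|c) (a c<|a (a (b 981 0)<|a (b 5217 1)<|a (b 2820 2)<|a (b 3408 3)<|a (b 2377 4)<|a (b 5830 5)<|c)<|a (a (b 8 0)<|a (b 5831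
 39)<|c)<|a (a (b 5583 0)<|a (b 41 1)<|a (b 5830 2)<|c)<|a (a (b 1 40)<|c)<|c))<|
 d (b 6912<|b 19565<|b (a 128<|c) (a (a (b 1350 0)<|a (b 1962 1)<|a (b 4032 2)<|a (b 702 4)<|a (b 6480 5)<|a (b 1 39)<|c)<|a c<|a c<|a c<|a c<|a c<|c))<|
 d (b 7290<|b 19221<|b (a 3645<|a 7290<|c) (a c<|a (a (b 1672 0)<|a (b 1072 1)<|a (b 6303 2)<|a (b 2142 3)<|a (b 6490 4)<|a (b 3627 5)<|a (b 153 6)<|a (b 1
 7)<|c)<|a (a (b 7041 0)<|a (b 1607 1)<|a (b 6562 2)<|a (b 3268 3)<|a (b 851 4)<|c)<|a (a (b 2 0)<|a (b 7289 39)<|c)<|a (a (b 6921 0)<|a (b 53 1)<|a (b 7288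
 2)<|c)<|a (a (b 1 40)<|c)<|c))<|
 d (b 10368<|b 17092<|b c (a (a (b 4764 0)<|a (b 6428 1)<|a (b 6845 2)<|a (b 7876 3)<|a (b 10312 4)<|a (b 3500 5)<|a (b 10367 9)<|c)<|a c<|a c<|a c<|
 a c<|a c<|c))<|
 d (b 10800<|b 16861<|b (a 675<|a 10800<|c) (a c<|a (a (b 8900 0)<|a (b 1755 1)<|a (b 8679 2)<|a (b 10662 3)<|a (b 8735 4)<|a (b 3531 5)<|a (b 10510 6)<|c)<|
 a (a (b 2902 0)<|a (b 2669 1)<|a (b 182 2)<|a (b 10190 3)<|a (b 277 4)<|a (b 6480 5)<|a (b 1 7)<|c)<|a (a (b 8439 0)<|a (b 5243 1)<|a (b 7150 2)<|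
 a (b 9822 3)<|a (b 8827 4)<|c)<|a (a (b 16 0)<|a (b 10799 39)<|c)<|a (a (b 10768 0)<|a (b 11 1)<|a (b 10799 3)<|c)<|a (a (b 1 40)<|c)<|c))<|
 d (b 11664<|b 16434<|b (a 729<|a 11664<|c) (a c<|a (a (b 957 0)<|a (b 5876 1)<|a (b 3895 2)<|a (b 8887 3)<|a (b 11629 4)<|a (b 11576 5)<|c)<|a (a (b 199 0)<|
 a (b 805 1)<|a (b 3506 2)<|a (b 7772 3)<|a (b 8491 4)<|a (b 11663 6)<|c)<|a (a (b 16 0)<|a (b 11663 39)<|c)<|a (a (b 10935 0)<|a (b 89 1)<|a (b 11662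
 2)<|c)<|a (a (b 1 40)<|c)<|c))<|
 e);
 (d (b 2304<|b 28218<|b c (a (a (b 1509 0)<|a (b 64 1)<|a (b 848 2)<|a (b 533 3)<|a (b 12 4)<|c)<|a c<|a c<|a c<|a c<|c))<|
 d (b 3000<|b 25841<|b (a 375<|a 3000<|c) (a c<|a (a (b 1488 0)<|a (b 2906 1)<|a (b 2805 2)<|a (b 2286 3)<|a (b 288 4)<|a (b 1383 5)<|a (b 35 6)<|a (b 2999
 7)<|c)<|a (a (b 225 0)<|a (b 2530 1)<|a (b 1787 2)<|a (b 558 3)<|a (b 1464 4)<|a (b 2999 5)<|c)<|a (a (b 8 0)<|a (b 2999 39)<|c)<|a (a (b 2783 0)<|a (b 89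
 1)<|a (b 2990 2)<|c)<|a (a (b 1 40)<|c)<|c))<|
 d (b 3125<|b 25492<|b c (a (a (b 69 0)<|a (b 3124 1)<|c)<|a c<|c))<|
 d (b 4000<|b 23478<|b c (a (a (b 2636 0)<|a (b 3955 1)<|a (b 3959 2)<|c)<|a c<|a c<|c))<|
 d (b 4050<|b 23381<|b (a 2025<|a 4050<|c) (a c<|a (a (b 61 0)<|a (b 109 1)<|a (b 1857 2)<|a (b 291 3)<|a (b 562 4)<|a (b 2916 5)<|a (b 27 6)<|a (b 1 7)<|c)<|
 a (a (b 3186 0)<|a (b 2757 1)<|a (b 2022 2)<|a (b 3603 3)<|a (b 3551 4)<|c)<|a (a (b 2 0)<|a (b 4049 39)<|c)<|a (a (b 289 0)<|a (b 3997 1)<|a (b 4 2)<|c)<|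
 a (a (b 1 40)<|c)<|c))<|
 d (b 5184<|b 21534<|b c (a (a (b 4122 0)<|a (b 3525 1)<|a (b 4503 2)<|a (b 192 3)<|a (b 4755 4)<|a (b 1 5)<|c)<|a c<|a c<|a c<|a c<|c))<|
 e)));
 (let e:=(let e:=(d (b 1200<|b 35072<|b (a 75<|a 1200<|c) (a c<|a (a (b 1184 0)<|a (b 289 1)<|a (b 98 2)<|a (b 364 3)<|a (b 373 4)<|a (b 1042 5)<|a (b 1 6)<|a (b 3 7)<|c)<|
 a (a (b 597 0)<|a (b 539 1)<|a (b 958 2)<|a (b 956 3)<|a (b 963 4)<|c)<|a (a (b 16 0)<|a (b 1199 39)<|c)<|a (a (b 1099 0)<|a (b 1197 1)<|a (b 2 2)<|c)<|a (a (b 1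
 40)<|c)<|c))<|
 d (b 1458<|b 32868<|b (a 729<|a 1458<|c) (a c<|a (a (b 921 0)<|a (b 977 1)<|a (b 1405 2)<|a (b 358 3)<|a (b 1216 4)<|c)<|a (a (b 2 0)<|a (b 1457 39)<|c)<|a (a (b 111
 0)<|a (b 5 1)<|a (b 1456 2)<|c)<|a (a (b 1 40)<|c)<|c))<|
 d (b 1600<|b 31865<|b c (a (a (b 236 0)<|a (b 1555 1)<|a (b 1559 2)<|c)<|a c<|a c<|c))<|
 d (b 1620<|b 31733<|b (a 405<|a 1620<|c) (a c<|a (a (b 879 0)<|a (b 323 1)<|a (b 669 2)<|a (b 393 3)<|a (b 360 4)<|a (b 120 5)<|a (b 80 6)<|a (b 1619 7)<|c)<|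
 a (a (b 1353 0)<|a (b 791 1)<|a (b 34 2)<|a (b 964 3)<|a (b 1295 4)<|c)<|a (a (b 4 0)<|a (b 1619 39)<|c)<|a (a (b 1509 0)<|a (b 1607 1)<|a (b 4 2)<|c)<|a (a (b 1
 40)<|c)<|c))<|
 d (b 1875<|b 30224<|b (a 1875<|c) (a c<|a (a (b 1690 0)<|a (b 1522 1)<|a (b 1483 2)<|a (b 1654 3)<|c)<|a (a (b 1611 0)<|a (b 1828 1)<|a (b 11 2)<|c)<|a (a (b 1
 39)<|c)<|c))<|
 d (b 2000<|b 29581<|b (a 2000<|c) (a c<|a (a (b 478 0)<|a (b 434 1)<|a (b 1121 2)<|a (b 1999 3)<|c)<|a (a (b 1 39)<|c)<|c))<|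
 e);
 (d (b 540<|b 45767<|b (a 135<|a 540<|c) (a c<|a (a (b 248 0)<|a (b 462 1)<|a (b 408 2)<|a (b 236 3)<|a (b 55 4)<|a (b 371 5)<|a (b 436 6)<|a (b 531 7)<|c)<|
 a (a (b 291 0)<|a (b 102 1)<|a (b 198 2)<|a (b 326 3)<|a (b 241 4)<|a (b 539 5)<|c)<|a (a (b 4 0)<|a (b 539 39)<|c)<|a (a (b 135 0)<|a (b 539 22)<|c)<|a (a (b 1
 40)<|c)<|c))<|
 d (b 600<|b 44188<|b (a 75<|a 600<|c) (a c<|a (a (b 514 0)<|a (b 559 1)<|a (b 55 2)<|a (b 244 3)<|a (b 234 4)<|a (b 396 5)<|a (b 514 6)<|a (b 599 7)<|a (b 1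
 8)<|c)<|a (a (b 469 0)<|a (b 358 1)<|a (b 72 2)<|a (b 452 3)<|a (b 80 4)<|a (b 118 5)<|a (b 1 7)<|c)<|a (a (b 8 0)<|a (b 599 39)<|c)<|a (a (b 499 0)<|a (b 597
 1)<|a (b 2 2)<|c)<|a (a (b 1 40)<|c)<|c))<|
 d (b 640<|b 43247<|b c (a (a (b 556 0)<|a (b 595 1)<|a (b 599 2)<|c)<|a c<|a c<|c))<|
 d (b 729<|b 41410<|b (a 729<|c) (a c<|a (a (b 111 0)<|a (b 5 1)<|a (b 727 2)<|c)<|a (a (b 1 39)<|c)<|c))<|
 d (b 900<|b 38601<|b (a 225<|a 900<|c) (a c<|a (a (b 234 0)<|a (b 877 1)<|a (b 667 2)<|a (b 884 3)<|a (b 94 4)<|a (b 306 5)<|a (b 374 6)<|a (b 899 7)<|c)<|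
 a (a (b 148 0)<|a (b 595 1)<|a (b 83 2)<|a (b 613 3)<|a (b 464 4)<|a (b 899 6)<|c)<|a (a (b 4 0)<|a (b 899 39)<|c)<|a (a (b 267 0)<|a (b 1 1)<|a (b 896 2)<|c)<|
 a (a (b 1 40)<|c)<|c))<|
 d (b 960<|b 37780<|b c (a (a (b 639 0)<|a (b 658 1)<|a (b 746 2)<|a (b 883 3)<|a (b 398 4)<|a (b 938 5)<|c)<|a c<|a c<|a c<|a c<|a c<|c))<|
 e));
 (let e:=(d (b 160<|b 68650<|b c (a (a (b 76 0)<|a (b 115 1)<|a (b 119 2)<|c)<|a c<|a c<|c))<|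
 d (b 162<|b 68367<|b (a 81<|a 162<|c) (a c<|a (a (b 33 0)<|a (b 3 1)<|a (b 99 2)<|a (b 36 3)<|a (b 1 35)<|c)<|a (a (b 2 0)<|a (b 161 39)<|c)<|a (a (b 32 0)<|a (b 161
 27)<|c)<|a (a (b 1 40)<|c)<|c))<|
 d (b 320<|b 54488<|b c (a (a (b 204 0)<|a (b 315 1)<|a (b 31 2)<|c)<|a c<|a c<|c))<|
 d (b 405<|b 50373<|b (a 405<|c) (a c<|a (a (b 178 0)<|a (b 371 1)<|a (b 189 2)<|a (b 9 3)<|c)<|a (a (b 366 0)<|a (b 404 28)<|c)<|a (a (b 1 39)<|c)<|c))<|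
 d (b 450<|b 48635<|b (a 225<|a 450<|c) (a c<|a (a (b 37 0)<|a (b 49 1)<|a (b 252 2)<|a (b 105 3)<|a (b 157 4)<|a (b 180 5)<|a (b 60 6)<|a (b 1 7)<|c)<|a (a (b 90
 0)<|a (b 205 1)<|a (b 26 2)<|a (b 445 3)<|a (b 19 4)<|c)<|a (a (b 2 0)<|a (b 449 39)<|c)<|a (a (b 267 0)<|a (b 1 1)<|a (b 446 2)<|c)<|a (a (b 1 40)<|c)<|c))<|
 d (b 500<|b 46956<|b (a 500<|c) (a c<|a (a (b 468 0)<|a (b 483 1)<|a (b 170 2)<|a (b 1 3)<|c)<|a (a (b 1 39)<|c)<|c))<|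
 e);
 (a (b 36<|b 112870<|b (a 36<|c) (a c<|a (a (b 32 0)<|a (b 3 1)<|a (b 20 2)<|a (b 29 4)<|a (b 35 7)<|c)<|a (a (b 4 1)<|a (b 32 39)<|c)<|a (a (b 1 1)<|a (b 35 39)<|c)<|a (a (b 1
 39)<|c)<|c))<|
 a (b 45<|b 104780<|b (a 45<|c) (a c<|a (a (b 29 6)<|a (b 43 11)<|a (b 1 30)<|c)<|a (a (b 1 6)<|a (b 44 39)<|c)<|a (a (b 1 39)<|c)<|c))<|
 a (b 64<|b 93173<|b c (a (a (b 46 0)<|a (b 63 1)<|c)<|a c<|c))<|
 a (b 80<|b 86494<|b (a 80<|c) (a c<|a (a (b 55 0)<|a (b 79 9)<|c)<|a (a (b 1 39)<|c)<|c))<|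
 a (b 90<|b 83164<|b (a 45<|a 90<|c) (a c<|a (a (b 59 0)<|a (b 72 1)<|a (b 63 2)<|a (b 9 3)<|a (b 45 5)<|a (b 81 12)<|a (b 1 16)<|c)<|a (a (b 6 0)<|a (b 87 1)<|a (b 81
 2)<|a (b 25 3)<|a (b 66 4)<|a (b 66 5)<|c)<|a (a (b 2 0)<|a (b 89 39)<|c)<|a (a (b 82 0)<|a (b 89 12)<|c)<|a (a (b 1 40)<|c)<|c))<|
 a (b 150<|b 70143<|b (a 75<|a 150<|c) (a c<|a (a (b 105 0)<|a (b 135 1)<|a (b 87 2)<|a (b 94 3)<|a (b 128 4)<|a (b 112 5)<|a (b 1 23)<|c)<|a (a (b 72 0)<|a (b 39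
 1)<|a (b 33 2)<|a (b 131 3)<|a (b 88 4)<|c)<|a (a (b 2 0)<|a (b 149 39)<|c)<|a (a (b 3 0)<|a (b 149 24)<|c)<|a (a (b 1 40)<|c)<|c))<|
 e))))))

private noncomputable def _root_.Cfsg.Agent.KOa82881b.k0 : (by first | exact type_of% @Cfsg.Agent.TAB.Eng.frc | exact Unit : Sort _) := by first | (refine @Subtype.val _ (fun g => @Cfsg.Agent.TAB.Eng.frc = @g) (@Subtype.mk _ _ (@(fun x0 x1 x2 => @Nat.rec.{1} @(fun x3 => @x0) (@x2 (nat_lit 0)) @(fun x3 x4 => @x2 (@Nat.succ @x3)) @x1)) ?_); rfl') | exact @Cfsg.Agent.TAB.Eng.frc | exact ()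
private theorem _root_.Cfsg.Agent.KOa82881b.e0 : (by first | exact @Cfsg.Agent.TAB.Eng.frc = @_root_.Cfsg.Agent.KOa82881b.k0 | exact True : Prop) := by first | (delta _root_.Cfsg.Agent.KOa82881b.k0; exact @Subtype.property _ (fun g => @Cfsg.Agent.TAB.Eng.frc = @g) _) | rfl | trivial
private noncomputable def _root_.Cfsg.Agent.KOa82881b.k1 : (by first | exact type_of% @Cfsg.Agent.TAB.Eng.frcL | exact Unit : Sort _) := by first | (refine @Subtype.val _ (fun g => @Cfsg.Agent.TAB.Eng.frcL = @g) (@Subtype.mk _ _ (@(fun x0 x1 => @List.rec.{1, 0} ℕ @(fun x2 => ((@List.{0} ℕ) → @x0) → @x0) @(fun x2 => @x2 []) @(fun x2 x3 x4 x5 => @Cfsg.Agent.KOa82881b.k0 _ @x2 @(fun x6 => @x4 @(fun x7 => @x5 (@x6 :: @x7)))) @x1)) ?_); rewrite [← Cfsg.Agent.KOa82881b.e0]; (try delta Cfsg.Agent.TAB.Eng.frcL); (try generalize @Cfsg.Agent.TAB.Eng.frc = g0); rfl')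 | exact @Cfsg.Agent.TAB.Eng.frcL | exact ()
private theorem _root_.Cfsg.Agent.KOa82881b.e1 : (by first | exact @Cfsg.Agent.TAB.Eng.frcL = @_root_.Cfsg.Agent.KOa82881b.k1 | exact True : Prop) := by first | (delta _root_.Cfsg.Agent.KOa82881b.k1; exact @Subtype.property _ (fun g => @Cfsg.Agent.TAB.Eng.frcL = @g) _) | rfl | trivial
private noncomputable def _root_.Cfsg.Agent.KOa82881b.k2 : (by first | exact type_of% @Cfsg.Agent.N2.Sp1.frcV | exact Unit : Sort _) := by first | (refine @Subtype.val _ (fun g => @Cfsg.Agent.N2.Sp1.frcV = @g) (@Subtype.mk _ _ (@(fun x0 => @List.rec.{1, 0} (@List.{0} ℕ) @(fun x1 => ((@List.{0} (@List.{0} ℕ)) → @Bool) → @Bool) @(fun x1 => @x1 []) @(fun x1 x2 x3 x4 => @Cfsg.Agent.KOa82881b.k1 _ @x1 @(fun x5 => @x3 @(fun x6 => @x4 (@x5 :: @x6)))) @x0)) ?_); rewrite [← Cfsg.Agent.KOa82881b.e1]; (try delta Cfsg.Agent.N2.Sp1.frcV);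 (try generalize @Cfsg.Agent.TAB.Eng.frcL = g0); rfl') | exact @Cfsg.Agent.N2.Sp1.frcV | exact ()
private theorem _root_.Cfsg.Agent.KOa82881b.e2 : (by first | exact @Cfsg.Agent.N2.Sp1.frcV = @_root_.Cfsg.Agent.KOa82881b.k2 | exact True : Prop) := by first | (delta _root_.Cfsg.Agent.KOa82881b.k2; exact @Subtype.property _ (fun g => @Cfsg.Agent.N2.Sp1.frcV = @g) _) | rfl | trivial
private noncomputable def _root_.Cfsg.Agent.KOa82881b.k3 : (by first | exact type_of% @Cfsg.Agent.TAB.Eng.frcZ | exact Unit : Sort _) := by first | (refine @Subtype.val _ (fun g => @Cfsg.Agent.TAB.Eng.frcZ = @g) (@Subtype.mk _ _ (@(fun x0 x1 x2 => @Int.rec.{1} @(fun x3 => @x0) @(fun x3 => @Cfsg.Agent.KOa82881b.k0 _ @x3 @(fun x4 => @x2 (@Int.ofNat @x4))) @(fun x3 => @Cfsg.Agent.KOa82881b.k0 _ @x3 @(fun x4 => @x2 (@Int.negSucc @x4))) @x1)) ?_); rewrite [← Cfsg.Agent.KOa82881b.e0];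 (try delta Cfsg.Agent.TAB.Eng.frcZ); (try generalize @Cfsg.Agent.TAB.Eng.frc = g0); rfl') | exact @Cfsg.Agent.TAB.Eng.frcZ | exact ()
private theorem _root_.Cfsg.Agent.KOa82881b.e3 : (by first | exact @Cfsg.Agent.TAB.Eng.frcZ = @_root_.Cfsg.Agent.KOa82881b.k3 | exact True : Prop) := by first | (delta _root_.Cfsg.Agent.KOa82881b.k3; exact @Subtype.property _ (fun g => @Cfsg.Agent.TAB.Eng.frcZ = @g) _) | rfl | trivial
private noncomputable def _root_.Cfsg.Agent.KOa82881b.k4 : (by first | exact type_of% @Cfsg.Agent.TAB.Eng.frcLZ | exact Unit : Sort _) := by first | (refine @Subtype.val _ (fun g => @Cfsg.Agent.TAB.Eng.frcLZ = @g) (@Subtype.mk _ _ (@(fun x0 x1 => @List.rec.{1, 0} ℤ @(fun x2 => ((@List.{0} ℤ) → @x0) → @x0) @(fun x2 => @x2 []) @(fun x2 x3 x4 x5 => @Cfsg.Agent.KOa82881b.k3 _ @x2 @(fun x6 => @x4 @(fun x7 => @x5 (@x6 :: @x7))))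 @x1)) ?_); rewrite [← Cfsg.Agent.KOa82881b.e3]; (try delta Cfsg.Agent.TAB.Eng.frcLZ); (try generalize @Cfsg.Agent.TAB.Eng.frcZ = g0); rfl') | exact @Cfsg.Agent.TAB.Eng.frcLZ | exact ()
private theorem _root_.Cfsg.Agent.KOa82881b.e4 : (by first | exact @Cfsg.Agent.TAB.Eng.frcLZ = @_root_.Cfsg.Agent.KOa82881b.k4 | exact True : Prop) := by first | (delta _root_.Cfsg.Agent.KOa82881b.k4; exact @Subtype.property _ (fun g => @Cfsg.Agent.TAB.Eng.frcLZ = @g) _) | rfl | trivial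
private noncomputable def _root_.Cfsg.Agent.KOa82881b.k5 : (by first | exact type_of% @Cfsg.Agent.N2.Sp.frcW | exact Unit : Sort _) := by first | (refine @Subtype.val _ (fun g => @Cfsg.Agent.N2.Sp.frcW = @g) (@Subtype.mk _ _ (@(fun x0 => @List.rec.{1, 0} (@List.{0} ℤ) @(fun x1 => ((@List.{0} (@List.{0} ℤ)) → @Bool) → @Bool) @(fun x1 => @x1 []) @(fun x1 x2 x3 x4 => @Cfsg.Agent.KOa82881b.k4 _ @x1 @(fun x5 => @x3 @(fun x6 => @x4 (@x5 :: @x6)))) @x0)) ?_); rewrite [← Cfsg.Agent.KOa82881b.e4]; (try delta Cfsg.Agent.N2.Sp.frcW); (try generalize @Cfsg.Agent.TAB.Eng.frcLZ = g0); rfl') | exact @Cfsg.Agent.N2.Sp.frcW | exact ()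
private theorem _root_.Cfsg.Agent.KOa82881b.e5 : (by first | exact @Cfsg.Agent.N2.Sp.frcW = @_root_.Cfsg.Agent.KOa82881b.k5 | exact True : Prop) := by first | (delta _root_.Cfsg.Agent.KOa82881b.k5; exact @Subtype.property _ (fun g => @Cfsg.Agent.N2.Sp.frcW = @g) _) | rfl | trivial
private theorem _root_.Cfsg.Agent.KOa82881b.e6.{ku} {M : Nat → Sort ku} (φ : ∀ n, M n) {z : M Nat.zero} {s : ∀ n, M n → M (Nat.succ n)} (h0 : φ Nat.zero = z) (hs : ∀ n, φ (Nat.succ n) = s n (φ n)) (n : Nat) : φ n = @Nat.rec M z s n := Nat.rec h0 (fun n ih => (hs n).trans (congrArg (s n) ih)) n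
private noncomputable def _root_.Cfsg.Agent.KOa82881b.k8.{ku0} : type_of% @List.take.{ku0} := @(fun x0 x1 x2 => @Nat.rec.{(ku0+1)} @(fun x3 => (@List.{ku0} @x0) → @List.{ku0} @x0) @(fun x3 => []) @(fun x3 x4 x5 => @List.rec.{(ku0+1), ku0} @x0 @(fun x6 => @List.{ku0} @x0) [] @(fun x6 x7 x8 => @x6 :: (@x4 @x7)) @x5) @x1 @x2)
private theorem _root_.Cfsg.Agent.KOa82881b.e8.{ku0} : @List.take.{ku0} = @_root_.Cfsg.Agent.KOa82881b.k8.{ku0} := by delta _root_.Cfsg.Agent.KOa82881b.k8; funext a0 a1 a2; refine (congrFun (_root_.Cfsg.Agent.KOa82881b.e6 (fun a1 a2 => @List.take.{ku0} a0 a1 a2) ?_ (fun c0 => ?_) a1) a2 :) <;> [(funext b0; (rfl')); (funext b0; (cases b0 with | @nil  => (rfl') | @cons b0_0 b0_1 => (rfl')))]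
private noncomputable def _root_.Cfsg.Agent.KOa82881b.oLe.{ku} (α : Sort ku) (a b : Nat) (f t : α) : α := @Decidable.rec (@LE.le Nat instLENat a b) (fun _ => α) (fun _ => f) (fun _ => t) (Nat.decLe a b)
private noncomputable def _root_.Cfsg.Agent.KOa82881b.k9.{ku} (α : Sort ku) (a b : Nat) (f t : α) : α := @Bool.rec (fun _ => α) f t (Nat.ble a b)
private theorem _root_.Cfsg.Agent.KOa82881b.e9.{ku} : @_root_.Cfsg.Agent.KOa82881b.oLe.{ku} = @_root_.Cfsg.Agent.KOa82881b.k9.{ku} := funext fun α => funext fun a => funext fun b => funext fun f => funext fun t => by delta _root_.Cfsg.Agent.KOa82881b.oLe _root_.Cfsg.Agent.KOa82881b.k9; cases h : Nat.ble a b <;> cases Nat.decLe a b <;> rename_i g <;> first | rfl | exact absurd (h.symm.trans (Nat.ble_eq_true_of_le g)) Bool.false_ne_true | exact absurd (Nat.le_of_ble_eq_true h) g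
private theorem _root_.Cfsg.Agent.KOa82881b.e10.{ku, kv} {α : Type kv} {M : List α → Sort ku} (φ : ∀ l, M l) {z : M List.nil} {s : ∀ a l, M l → M (List.cons a l)} (h0 : φ List.nil = z) (hs : ∀ a l, φ (List.cons a l) = s a l (φ l)) (l : List α) : φ l = @List.rec α M z s l := List.rec h0 (fun a l ih => (hs a l).trans (congrArg (s a l) ih)) l
private noncomputable def _root_.Cfsg.Agent.KOa82881b.k11.{ku0} : type_of% @List.length.{ku0} := @(fun x0 x1 => @List.rec.{1, ku0} @x0 @(fun x2 => ℕ) (nat_lit 0) @(fun x2 x3 x4 => @Nat.add @x4 (nat_lit 1)) @x1)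
private theorem _root_.Cfsg.Agent.KOa82881b.e11.{ku0} : @List.length.{ku0} = @_root_.Cfsg.Agent.KOa82881b.k11.{ku0} := by delta _root_.Cfsg.Agent.KOa82881b.k11; funext a0 a1; refine (_root_.Cfsg.Agent.KOa82881b.e10 (fun a1 => @List.length.{ku0} a0 a1) ?_ (fun c0 c1 => ?_) a1 :) <;> (rfl')
private noncomputable def _root_.Cfsg.Agent.KOa82881b.k12 : (by first | exact type_of% @Cfsg.Agent.TAB.Eng.allL | exact Unit : Sort _) := by first | (refine @Subtype.val _ (fun g => @Cfsg.Agent.TAB.Eng.allL = @g) (@Subtype.mk _ _ (@(fun x0 x1 x2 => @List.rec.{1, 0} @x0 @(fun x3 => @Bool) @Bool.true @(fun x3 x4 x5 => @Bool.rec.{1} @(fun x6 => @Bool) @Bool.false @x5 (@x1 @x3)) @x2)) ?_); rfl') | exact @Cfsg.Agent.TAB.Eng.allL | exact ()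
private theorem _root_.Cfsg.Agent.KOa82881b.e12 : (by first | exact @Cfsg.Agent.TAB.Eng.allL = @_root_.Cfsg.Agent.KOa82881b.k12 | exact True : Prop) := by first | (delta _root_.Cfsg.Agent.KOa82881b.k12; exact @Subtype.property _ (fun g => @Cfsg.Agent.TAB.Eng.allL = @g) _) | rfl | trivial
private noncomputable def _root_.Cfsg.Agent.KOa82881b.k13 : type_of% @Int.add := @(fun x0 x1 => @Int.rec.{1} @(fun x2 => ℤ) @(fun x2 => @Int.rec.{1} @(fun x3 => ℤ) @(fun x3 => @Int.ofNat (@Nat.add @x2 @x3)) @(fun x3 => @Nat.rec.{1} @(fun x4 => ℤ) (@Int.ofNat (@Nat.sub @x2 (@Nat.succ @x3))) @(fun x4 x5 => @Int.negSucc @x4) (@Nat.sub (@Nat.succ @x3) @x2)) @x1) @(fun x2 => @Int.rec.{1} @(fun x3 => ℤ) @(fun x3 => @Nat.rec.{1} @(fun x4 => ℤ) (@Int.ofNat (@Nat.sub @x3 (@Nat.succ @x2))) @(fun x4 x5 => @Int.negSucc @x4) (@Nat.sub (@Nat.succ @x2) @x3)) @(fun x3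 => @Int.negSucc (@Nat.succ (@Nat.add @x2 @x3))) @x1) @x0)
private theorem _root_.Cfsg.Agent.KOa82881b.e13 : @Int.add = @_root_.Cfsg.Agent.KOa82881b.k13 := by delta _root_.Cfsg.Agent.KOa82881b.k13; rfl'
private noncomputable def _root_.Cfsg.Agent.KOa82881b.k14 : (by first | exact type_of% @Cfsg.Agent.N2.Sp.rowsP | exact Unit : Sort _) := by first | (refine @Subtype.val _ (fun g => @Cfsg.Agent.N2.Sp.rowsP = @g) (@Subtype.mk _ _ (@(fun x0 => @Cfsg.Agent.KOa82881b.k0 _ (@Cfsg.Agent.KOa82881b.k11.{0} _ (@Cfsg.Agent.TAB.Use.Rows.deg @x0)) @(fun x1 => @Cfsg.Agent.TH.Spor.mapL _ _ @(fun x2 => @Bool.rec.{1} @(fun x3 => @List.{0} ℤ) [] (@Prod.snd.{0, 0} _ _ @x2) (@Cfsg.Agent.KOa82881b.k12 _ @(fun x3 => @Bool.rec.{1} @(fun x4 => @Bool) @Bool.false (@Decidable.rec.{1} _ @(fun x4 => @Bool) @(fun x4 => @Bool.false) @(fun x4 => @Bool.true) (@Int.rec.{1}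 @(fun x4 => @Decidable (@Int.NonNeg @x4)) @(fun x4 => @Decidable.isTrue _ (@Int.NonNeg.mk @x4)) @(fun x4 => @Decidable.isFalse _ (@Int.decNonneg._proof_1 @x4)) (@Int.add (@Prod.snd.{0, 0} _ _ @x3) (@Int.ofNat (nat_lit 0))))) (@Cfsg.Agent.KOa82881b.k9.{1} @Bool (@Nat.succ (@Prod.fst.{0, 0} _ _ @x3)) @x1 @Bool.false @Bool.true)) (@Prod.fst.{0, 0} _ _ @x2))) (@Cfsg.Agent.TAB.Use.Rows.rel @x0)))) ?_); rewrite [← Cfsg.Agent.KOa82881b.e9.{1}, ← Cfsg.Agent.KOa82881b.e12, ← Cfsg.Agent.KOa82881b.e11.{0}, ← Cfsg.Agent.KOa82881b.e0]; (try delta Cfsg.Agent.N2.Sp.rowsP Cfsg.Agent.TAB.Use.Rows.n); (try generalize @Cfsg.Agent.TAB.Eng.frc = g0); (try generalize @Cfsg.Agent.TH.Spor.mapL = g1); (try generalize @Cfsg.Agent.TAB.Eng.allL = g2); rfl') | exact @Cfsg.Agent.N2.Sp.rowsP | exact ()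
private theorem _root_.Cfsg.Agent.KOa82881b.e14 : (by first | exact @Cfsg.Agent.N2.Sp.rowsP = @_root_.Cfsg.Agent.KOa82881b.k14 | exact True : Prop) := by first | (delta _root_.Cfsg.Agent.KOa82881b.k14; exact @Subtype.property _ (fun g => @Cfsg.Agent.N2.Sp.rowsP = @g) _) | rfl | trivial
private noncomputable def _root_.Cfsg.Agent.KOa82881b.k15 : (by first | exact type_of% @Cfsg.Agent.N2.Sp3.Ly.shrt | exact Unit : Sort _) := by first | (refine @Subtype.val _ (fun g => @Cfsg.Agent.N2.Sp3.Ly.shrt = @g) (@Subtype.mk _ _ (@(fun x0 x1 => @Cfsg.Agent.KOa82881b.k5 (@Cfsg.Agent.TH.Spor.mapL _ _ @(fun x2 => @Cfsg.Agent.KOa82881b.k8.{0} _ @x0 (@Cfsg.Agent.TAB.Eng.ntd _ (@Cfsg.Agent.KOa82881b.k14 @Cfsg.Agent.N2.Sp.Ly.R) [] @x2)) ((nat_lit 2) :: ((nat_lit 27) :: ((nat_lit 31) :: ((nat_lit 29) :: []))))) @(fun x2 => @Cfsg.Agent.KOa82881b.k5 (@Cfsg.Agent.TH.Spor.mapL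 _ _ @(fun x3 => @Cfsg.Agent.KOa82881b.k8.{0} _ @x0 (@Prod.snd.{0, 0} _ _ @x3)) (@Cfsg.Agent.TAB.Use.Rows.rel @Cfsg.Agent.N2.Sp.Ly.R)) @(fun x3 => @x1 @x2 @x3)))) ?_); rewrite [← Cfsg.Agent.KOa82881b.e14, ← Cfsg.Agent.KOa82881b.e8.{0}, ← Cfsg.Agent.KOa82881b.e5]; (try delta Cfsg.Agent.N2.Sp3.Ly.shrt); (try generalize @Cfsg.Agent.N2.Sp.frcW = g0); (try generalize @Cfsg.Agent.TH.Spor.mapL = g1); (try generalize @Cfsg.Agent.TAB.Eng.ntd = g2); (try generalize @Cfsg.Agent.N2.Sp.rowsP = g3); (try generalize @Cfsg.Agent.N2.Sp.Ly.R = g4); rfl') | exact @Cfsg.Agent.N2.Sp3.Ly.shrt | exact ()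
private theorem _root_.Cfsg.Agent.KOa82881b.e15 : (by first | exact @Cfsg.Agent.N2.Sp3.Ly.shrt = @_root_.Cfsg.Agent.KOa82881b.k15 | exact True : Prop) := by first | (delta _root_.Cfsg.Agent.KOa82881b.k15; exact @Subtype.property _ (fun g => @Cfsg.Agent.N2.Sp3.Ly.shrt = @g) _) | rfl | trivial
private noncomputable def _root_.Cfsg.Agent.KOa82881b.k16 : (by first | exact type_of% @Cfsg.Agent.N2.Sp.flt | exact Unit : Sort _) := by first | (refine @Subtype.val _ (fun g => @Cfsg.Agent.N2.Sp.flt = @g) (@Subtype.mk _ _ (@(fun x0 x1 => @List.rec.{1, 0} ℕ @(fun x2 => ((@List.{0} ℕ) → @Bool) → @Bool) @(fun x2 => @x2 []) @(fun x2 x3 x4 x5 => @Cfsg.Agent.KOa82881b.k0 _ @x2 @(fun x6 => @Bool.rec.{1} @(fun x7 => @Bool) (@x4 @x5) (@x4 @(fun x7 => @x5 (@x6 :: @x7))) (@x0 @x6))) @x1)) ?_); rewrite [← Cfsg.Agent.KOa82881b.e0]; (try delta Cfsg.Agent.N2.Sp.flt);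 (try generalize @Cfsg.Agent.TAB.Eng.frc = g0); rfl') | exact @Cfsg.Agent.N2.Sp.flt | exact ()
private theorem _root_.Cfsg.Agent.KOa82881b.e16 : (by first | exact @Cfsg.Agent.N2.Sp.flt = @_root_.Cfsg.Agent.KOa82881b.k16 | exact True : Prop) := by first | (delta _root_.Cfsg.Agent.KOa82881b.k16; exact @Subtype.property _ (fun g => @Cfsg.Agent.N2.Sp.flt = @g) _) | rfl | trivial
private noncomputable def _root_.Cfsg.Agent.KOa82881b.k17 : (by first | exact type_of% @Cfsg.Agent.N2.Sp1.thr | exact Unit : Sort _) := by first | (refine @Subtype.val _ (fun g => @Cfsg.Agent.N2.Sp1.thr = @g) (@Subtype.mk _ _ (@(fun x0 x1 x2 x3 x4 => @Nat.div (@Nat.sub (@Nat.add (@Nat.mul (@Nat.mul @x2 @x3) (@Cfsg.Agent.TAB.Eng.ntd _ @x1 (nat_lit 0) @x4)) (@Cfsg.Agent.TAB.Eng.Dat.N @x0)) (nat_lit 1)) (@Cfsg.Agent.TAB.Eng.Dat.N @x0))) ?_); (try delta Cfsg.Agent.N2.Sp1.thr);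 (try generalize @Cfsg.Agent.TAB.Eng.ntd = g0); rfl') | exact @Cfsg.Agent.N2.Sp1.thr | exact ()
private theorem _root_.Cfsg.Agent.KOa82881b.e17 : (by first | exact @Cfsg.Agent.N2.Sp1.thr = @_root_.Cfsg.Agent.KOa82881b.k17 | exact True : Prop) := by first | (delta _root_.Cfsg.Agent.KOa82881b.k17; exact @Subtype.property _ (fun g => @Cfsg.Agent.N2.Sp1.thr = @g) _) | rfl | trivial
private noncomputable def _root_.Cfsg.Agent.KOa82881b.k19.{ku0} : type_of% @List.get?Internal.{ku0} := @(fun x0 x1 x2 => @List.rec.{(ku0+1), ku0} @x0 @(fun x3 => ℕ → @Option.{ku0} @x0) @(fun x3 => @Option.none.{ku0} _) @(fun x3 x4 x5 x6 => @Nat.rec.{(ku0+1)} @(fun x7 => @Option.{ku0} @x0) (@Option.some.{ku0} _ @x3) @(fun x7 x8 => @x5 @x7) @x6) @x1 @x2)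
private theorem _root_.Cfsg.Agent.KOa82881b.e19.{ku0} : @List.get?Internal.{ku0} = @_root_.Cfsg.Agent.KOa82881b.k19.{ku0} := by delta _root_.Cfsg.Agent.KOa82881b.k19; funext a0 a1 a2; refine (congrFun (_root_.Cfsg.Agent.KOa82881b.e10 (fun a1 a2 => @List.get?Internal.{ku0} a0 a1 a2) ?_ (fun c0 c1 => ?_) a1) a2 :) <;> [(funext b0; (rfl')); (funext b0; (cases b0 with | @zero  => (rfl') | @succ b0_0 => (rfl')))]
private noncomputable def _root_.Cfsg.Agent.KOa82881b.k20 : (by first | exact type_of% @Cfsg.Agent.TH.Spor.anyL | exact Unit : Sort _) := by first | (refine @Subtype.val _ (fun g => @Cfsg.Agent.TH.Spor.anyL = @g) (@Subtype.mk _ _ (@(fun x0 x1 x2 => @List.rec.{1, 0} @x0 @(fun x3 => @Bool) @Bool.false @(fun x3 x4 x5 => @Bool.rec.{1} @(fun x6 => @Bool) @x5 @Bool.true (@x1 @x3)) @x2)) ?_); rfl') | exact @Cfsg.Agent.TH.Spor.anyL | exact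 ()
private theorem _root_.Cfsg.Agent.KOa82881b.e20 : (by first | exact @Cfsg.Agent.TH.Spor.anyL = @_root_.Cfsg.Agent.KOa82881b.k20 | exact True : Prop) := by first | (delta _root_.Cfsg.Agent.KOa82881b.k20; exact @Subtype.property _ (fun g => @Cfsg.Agent.TH.Spor.anyL = @g) _) | rfl | trivial
private noncomputable def _root_.Cfsg.Agent.KOa82881b.oEq.{ku} (α : Sort ku) (a b : Nat) (f t : α) : α := @Decidable.rec (a = b) (fun _ => α) (fun _ => f) (fun _ => t) (Nat.decEq a b)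
private noncomputable def _root_.Cfsg.Agent.KOa82881b.k21.{ku} (α : Sort ku) (a b : Nat) (f t : α) : α := @Bool.rec (fun _ => α) f t (Nat.beq a b)
private theorem _root_.Cfsg.Agent.KOa82881b.e21.{ku} : @_root_.Cfsg.Agent.KOa82881b.oEq.{ku} = @_root_.Cfsg.Agent.KOa82881b.k21.{ku} := funext fun α => funext fun a => funext fun b => funext fun f => funext fun t => by delta _root_.Cfsg.Agent.KOa82881b.oEq _root_.Cfsg.Agent.KOa82881b.k21; cases h : Nat.beq a b <;> cases Nat.decEq a b <;> rename_i g <;> first | rfl | exact absurd g (Nat.ne_of_beq_eq_false h) | exact absurd (Nat.eq_of_beq_eq_true h) g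
private noncomputable def _root_.Cfsg.Agent.KOa82881b.k22 : (by first | exact type_of% @Cfsg.Agent.TAB.Eng.look | exact Unit : Sort _) := by first | (refine @Subtype.val _ (fun g => @Cfsg.Agent.TAB.Eng.look = @g) (@Subtype.mk _ _ (@(fun x0 x1 => @List.rec.{1, 0} (ℕ × ℕ) @(fun x2 => ℕ → ℕ) @(fun x2 => nat_lit 0) @(fun x2 x3 x4 x5 => @Cfsg.Agent.KOa82881b.k21.{1} ℕ (@Prod.fst.{0, 0} _ _ @x2) @x5 (@x4 @x5) (@Prod.snd.{0, 0} _ _ @x2)) @x0 @x1)) ?_); rewrite [← Cfsg.Agent.KOa82881b.e21.{1}]; funext a0 a1; refine (congrFun (_root_.Cfsg.Agent.KOa82881b.e10 (fun a0 a1 => @Cfsg.Agent.TAB.Eng.look a0 a1) ?_ (fun c0 c1 => ?_) a0) a1 :) <;> (rfl')) | exact @Cfsg.Agent.TAB.Eng.look | exact ()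
private theorem _root_.Cfsg.Agent.KOa82881b.e22 : (by first | exact @Cfsg.Agent.TAB.Eng.look = @_root_.Cfsg.Agent.KOa82881b.k22 | exact True : Prop) := by first | (delta _root_.Cfsg.Agent.KOa82881b.k22; exact @Subtype.property _ (fun g => @Cfsg.Agent.TAB.Eng.look = @g) _) | rfl | trivial
private noncomputable def _root_.Cfsg.Agent.KOa82881b.k23 : (by first | exact type_of% @Cfsg.Agent.TAB.Eng.Dat.pwf | exact Unit : Sort _) := by first | (refine @Subtype.val _ (fun g => @Cfsg.Agent.TAB.Eng.Dat.pwf = @g) (@Subtype.mk _ _ (@(fun x0 x1 x2 => @Cfsg.Agent.KOa82881b.k22 (@Option.rec.{1, 0} (@List.{0} (ℕ × ℕ)) @(fun x3 => @List.{0} (ℕ × ℕ)) [] @(fun x3 => @x3) (@Cfsg.Agent.KOa82881b.k19.{0} _ (@Cfsg.Agent.TAB.Eng.Dat.pwL @x0) @x1)) (@Nat.gcd @x2 (@Option.rec.{1, 0} ℕ @(fun x3 => ℕ) (nat_lit 0) @(fun x3 => @x3) (@Cfsg.Agent.KOa82881b.k19.{0} _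 (@Cfsg.Agent.TAB.Eng.Dat.ordL @x0) @x1))))) ?_); rewrite [← Cfsg.Agent.KOa82881b.e19.{0}, ← Cfsg.Agent.KOa82881b.e22]; (try delta Cfsg.Agent.TAB.Eng.Dat.pwf Cfsg.Agent.TAB.Eng.Dat.pw Cfsg.Agent.TAB.Eng.Dat.ord); (try generalize @Cfsg.Agent.TAB.Eng.look = g0); rfl') | exact @Cfsg.Agent.TAB.Eng.Dat.pwf | exact ()
private theorem _root_.Cfsg.Agent.KOa82881b.e23 : (by first | exact @Cfsg.Agent.TAB.Eng.Dat.pwf = @_root_.Cfsg.Agent.KOa82881b.k23 | exact True : Prop) := by first | (delta _root_.Cfsg.Agent.KOa82881b.k23; exact @Subtype.property _ (fun g => @Cfsg.Agent.TAB.Eng.Dat.pwf = @g) _) | rfl | trivial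
private noncomputable def _root_.Cfsg.Agent.KOa82881b.k24 : (by first | exact type_of% @Cfsg.Agent.N2.Sp.mem | exact Unit : Sort _) := by first | (refine @Subtype.val _ (fun g => @Cfsg.Agent.N2.Sp.mem = @g) (@Subtype.mk _ _ (@(fun x0 x1 => @List.rec.{1, 0} ℕ @(fun x2 => @Bool) @Bool.false @(fun x2 x3 x4 => @Bool.rec.{1} @(fun x5 => @Bool) @x4 @Bool.true (@Nat.beq @x2 @x1)) @x0)) ?_); rfl') | exact @Cfsg.Agent.N2.Sp.mem | exact ()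
private theorem _root_.Cfsg.Agent.KOa82881b.e24 : (by first | exact @Cfsg.Agent.N2.Sp.mem = @_root_.Cfsg.Agent.KOa82881b.k24 | exact True : Prop) := by first | (delta _root_.Cfsg.Agent.KOa82881b.k24; exact @Subtype.property _ (fun g => @Cfsg.Agent.N2.Sp.mem = @g) _) | rfl | trivial
private noncomputable def _root_.Cfsg.Agent.KOa82881b.k25.{ku0} : type_of% @List.append.{ku0} := @(fun x0 x1 x2 => @List.rec.{(ku0+1), ku0} @x0 @(fun x3 => (@List.{ku0} @x0) → @List.{ku0} @x0) @(fun x3 => @x3) @(fun x3 x4 x5 x6 => @x3 :: (@x5 @x6)) @x1 @x2)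
private theorem _root_.Cfsg.Agent.KOa82881b.e25.{ku0} : @List.append.{ku0} = @_root_.Cfsg.Agent.KOa82881b.k25.{ku0} := by delta _root_.Cfsg.Agent.KOa82881b.k25; funext a0 a1 a2; refine (congrFun (_root_.Cfsg.Agent.KOa82881b.e10 (fun a1 a2 => @List.append.{ku0} a0 a1 a2) ?_ (fun c0 c1 => ?_) a1) a2 :) <;> (rfl')
private noncomputable def _root_.Cfsg.Agent.KOa82881b.k26 : type_of% @List.range.loop := @(fun x0 x1 => @Nat.rec.{1} @(fun x2 => (@List.{0} ℕ) → @List.{0} ℕ) @(fun x2 => @x2) @(fun x2 x3 x4 => @x3 (@x2 :: @x4)) @x0 @x1)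
private theorem _root_.Cfsg.Agent.KOa82881b.e26 : @List.range.loop = @_root_.Cfsg.Agent.KOa82881b.k26 := by delta _root_.Cfsg.Agent.KOa82881b.k26; funext a0 a1; refine (congrFun (_root_.Cfsg.Agent.KOa82881b.e6 (fun a0 a1 => @List.range.loop a0 a1) ?_ (fun c0 => ?_) a0) a1 :) <;> (rfl')
private noncomputable def _root_.Cfsg.Agent.KOa82881b.k27 : (by first | exact type_of% @Cfsg.Agent.N2.Sp1.fro | exact Unit : Sort _) := by first | (refine @Subtype.val _ (fun g => @Cfsg.Agent.N2.Sp1.fro = @g) (@Subtype.mk _ _ (@(fun x0 x1 x2 => @Cfsg.Agent.TH.Spor.mapL _ _ @(fun x3 => @Bool.rec.{1} @(fun x4 => ℤ) (@Int.ofNat (nat_lit 0)) (@Int.ofNat (@Nat.div @x1 @x2)) (@Nat.beq (@Nat.mod @x2 (@Option.rec.{1, 0} ℕ @(fun x4 => ℕ) (nat_lit 0) @(fun x4 => @x4) (@Cfsg.Agent.KOa82881b.k19.{0} _ (@Cfsg.Agent.TAB.Eng.Dat.ordL @x0) @x3))) (nat_lit 0))) (@Cfsg.Agent.KOa82881b.k26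 (@Cfsg.Agent.TAB.Eng.Dat.n @x0) []))) ?_); rewrite [← Cfsg.Agent.KOa82881b.e26, ← Cfsg.Agent.KOa82881b.e19.{0}]; (try delta Cfsg.Agent.N2.Sp1.fro Cfsg.Agent.TAB.Eng.Dat.ord); (try generalize @Cfsg.Agent.TH.Spor.mapL = g0); rfl') | exact @Cfsg.Agent.N2.Sp1.fro | exact ()
private theorem _root_.Cfsg.Agent.KOa82881b.e27 : (by first | exact @Cfsg.Agent.N2.Sp1.fro = @_root_.Cfsg.Agent.KOa82881b.k27 | exact True : Prop) := by first | (delta _root_.Cfsg.Agent.KOa82881b.k27; exact @Subtype.property _ (fun g => @Cfsg.Agent.N2.Sp1.fro = @g) _) | rfl | trivial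
private noncomputable def _root_.Cfsg.Agent.KOa82881b.k28 : (by first | exact type_of% @Cfsg.Agent.TAB.Eng.addL | exact Unit : Sort _) := by first | (refine @Subtype.val _ (fun g => @Cfsg.Agent.TAB.Eng.addL = @g) (@Subtype.mk _ _ (@(fun x0 => @List.rec.{1, 0} ℤ @(fun x1 => (@List.{0} ℤ) → @List.{0} ℤ) @(fun x1 => @x1) @(fun x1 x2 x3 x4 => @List.rec.{1, 0} ℤ @(fun x5 => @List.{0} ℤ) (@x1 :: @x2) @(fun x5 x6 x7 => (@Cfsg.Agent.KOa82881b.k13 @x1 @x5) :: (@x3 @x6)) @x4) @x0)) ?_); rewrite [← Cfsg.Agent.KOa82881b.e13]; rfl') | exact @Cfsg.Agent.TAB.Eng.addL | exact ()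
private theorem _root_.Cfsg.Agent.KOa82881b.e28 : (by first | exact @Cfsg.Agent.TAB.Eng.addL = @_root_.Cfsg.Agent.KOa82881b.k28 | exact True : Prop) := by first | (delta _root_.Cfsg.Agent.KOa82881b.k28; exact @Subtype.property _ (fun g => @Cfsg.Agent.TAB.Eng.addL = @g) _) | rfl | trivial
private noncomputable def _root_.Cfsg.Agent.KOa82881b.k29.{ku0, ku1} : type_of% @List.map.{ku0, ku1} := @(fun x0 x1 x2 x3 => @List.rec.{(ku1+1), ku0} @x0 @(fun x4 => @List.{ku1} @x1) [] @(fun x4 x5 x6 => (@x2 @x4) :: @x6) @x3)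
private theorem _root_.Cfsg.Agent.KOa82881b.e29.{ku0, ku1} : @List.map.{ku0, ku1} = @_root_.Cfsg.Agent.KOa82881b.k29.{ku0, ku1} := by delta _root_.Cfsg.Agent.KOa82881b.k29; funext a0 a1 a2 a3; refine (_root_.Cfsg.Agent.KOa82881b.e10 (fun a3 => @List.map.{ku0, ku1} a0 a1 a2 a3) ?_ (fun c0 c1 => ?_) a3 :) <;> (rfl')
private noncomputable def _root_.Cfsg.Agent.KOa82881b.k30 : type_of% @Int.mul := @(fun x0 x1 => @Int.rec.{1} @(fun x2 => ℤ) @(fun x2 => @Int.rec.{1} @(fun x3 => ℤ) @(fun x3 => @Int.ofNat (@Nat.mul @x2 @x3)) @(fun x3 => @Nat.rec.{1} @(fun x4 => ℤ) (@Int.ofNat (nat_lit 0)) @(fun x4 x5 => @Int.negSucc @x4) (@Nat.mul @x2 (@Nat.succ @x3))) @x1) @(fun x2 => @Int.rec.{1} @(fun x3 => ℤ) @(fun x3 => @Nat.rec.{1} @(fun x4 => ℤ) (@Int.ofNat (nat_lit 0)) @(fun x4 x5 => @Int.negSucc @x4) (@Nat.mul (@Nat.succ @x2) @x3)) @(fun x3 => @Int.ofNat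 (@Nat.mul (@Nat.succ @x2) (@Nat.succ @x3))) @x1) @x0)
private theorem _root_.Cfsg.Agent.KOa82881b.e30 : @Int.mul = @_root_.Cfsg.Agent.KOa82881b.k30 := by delta _root_.Cfsg.Agent.KOa82881b.k30; rfl'
private noncomputable def _root_.Cfsg.Agent.KOa82881b.k31 : (by first | exact type_of% @Cfsg.Agent.TAB.Eng.comb | exact Unit : Sort _) := by first | (refine @Subtype.val _ (fun g => @Cfsg.Agent.TAB.Eng.comb = @g) (@Subtype.mk _ _ (@(fun x0 x1 => @List.rec.{1, 0} (ℤ × ℕ) @(fun x2 => @List.{0} ℤ) [] @(fun x2 x3 x4 => @Cfsg.Agent.KOa82881b.k28 (@Cfsg.Agent.KOa82881b.k29.{0, 0} _ _ (@Cfsg.Agent.KOa82881b.k30 (@Prod.fst.{0, 0} _ _ @x2)) (@Cfsg.Agent.TAB.Eng.ntd _ @x0 [] (@Prod.snd.{0, 0} _ _ @x2))) @x4) @x1)) ?_); rewrite [← Cfsg.Agent.KOa82881b.e30, ← Cfsg.Agent.KOa82881b.e29.{0, 0}, ← Cfsg.Agent.KOa82881b.e28]; (try delta Cfsg.Agent.TAB.Eng.comb);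 (try generalize @Cfsg.Agent.TAB.Eng.addL = g0); (try generalize @Cfsg.Agent.TAB.Eng.ntd = g1); rfl') | exact @Cfsg.Agent.TAB.Eng.comb | exact ()
private theorem _root_.Cfsg.Agent.KOa82881b.e31 : (by first | exact @Cfsg.Agent.TAB.Eng.comb = @_root_.Cfsg.Agent.KOa82881b.k31 | exact True : Prop) := by first | (delta _root_.Cfsg.Agent.KOa82881b.k31; exact @Subtype.property _ (fun g => @Cfsg.Agent.TAB.Eng.comb = @g) _) | rfl | trivial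
private noncomputable def _root_.Cfsg.Agent.KOa82881b.k32 : (by first | exact type_of% @Cfsg.Agent.SB.SporL.cmb | exact Unit : Sort _) := by first | (refine @Subtype.val _ (fun g => @Cfsg.Agent.SB.SporL.cmb = @g) (@Subtype.mk _ _ (@(fun x0 x1 => @Cfsg.Agent.KOa82881b.k31 @x0 (@Cfsg.Agent.KOa82881b.k29.{0, 0} _ _ @(fun x2 => (@Int.ofNat (@Prod.fst.{0, 0} _ _ @x2), @Prod.snd.{0, 0} _ _ @x2)) @x1))) ?_); rewrite [← Cfsg.Agent.KOa82881b.e29.{0, 0}, ← Cfsg.Agent.KOa82881b.e31]; (try delta Cfsg.Agent.SB.SporL.cmb); (try generalize @Cfsg.Agent.TAB.Eng.comb = g0); rfl') | exact @Cfsg.Agent.SB.SporL.cmb | exact ()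
private theorem _root_.Cfsg.Agent.KOa82881b.e32 : (by first | exact @Cfsg.Agent.SB.SporL.cmb = @_root_.Cfsg.Agent.KOa82881b.k32 | exact True : Prop) := by first | (delta _root_.Cfsg.Agent.KOa82881b.k32; exact @Subtype.property _ (fun g => @Cfsg.Agent.SB.SporL.cmb = @g) _) | rfl | trivial
private noncomputable def _root_.Cfsg.Agent.KOa82881b.k33 : (by first | exact type_of% @Cfsg.Agent.N2.Sp1.leaf | exact Unit : Sort _) := by first | (refine @Subtype.val _ (fun g => @Cfsg.Agent.N2.Sp1.leaf = @g) (@Subtype.mk _ _ (@(fun x0 x1 x2 x3 x4 => @Bool.rec.{1} @(fun x5 => @Bool) @Bool.true (@Bool.rec.{1} @(fun x5 => @Bool) (@x0 @x4) @Bool.true (@Cfsg.Agent.KOa82881b.k20 _ @(fun x5 => @Int.rec.{1} @(fun x6 => @Bool) @(fun x6 => @Bool.false) @(fun x6 => @Bool.true) @x5) @x2)) (@Nat.beq @x1 (nat_lit 0)))) ?_); rewrite [← Cfsg.Agent.KOa82881b.e20]; (try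 delta Cfsg.Agent.N2.Sp1.leaf Cfsg.Agent.N2.Sp1.neg); (try generalize @Cfsg.Agent.TH.Spor.anyL = g0); rfl') | exact @Cfsg.Agent.N2.Sp1.leaf | exact ()
private theorem _root_.Cfsg.Agent.KOa82881b.e33 : (by first | exact @Cfsg.Agent.N2.Sp1.leaf = @_root_.Cfsg.Agent.KOa82881b.k33 | exact True : Prop) := by first | (delta _root_.Cfsg.Agent.KOa82881b.k33; exact @Subtype.property _ (fun g => @Cfsg.Agent.N2.Sp1.leaf = @g) _) | rfl | trivial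
private noncomputable def _root_.Cfsg.Agent.KOa82881b.k34 : (by first | exact type_of% @Cfsg.Agent.TAB.Eng.nth | exact Unit : Sort _) := by first | (refine @Subtype.val _ (fun g => @Cfsg.Agent.TAB.Eng.nth = @g) (@Subtype.mk _ _ (@(fun x0 => @List.rec.{1, 0} ℤ @(fun x1 => ℕ → ℤ) @(fun x1 => @Int.ofNat (nat_lit 0)) @(fun x1 x2 x3 x4 => @Nat.rec.{1} @(fun x5 => ℤ) @x1 @(fun x5 x6 => @x3 @x5) @x4) @x0)) ?_); rfl') | exact @Cfsg.Agent.TAB.Eng.nth | exact ()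
private theorem _root_.Cfsg.Agent.KOa82881b.e34 : (by first | exact @Cfsg.Agent.TAB.Eng.nth = @_root_.Cfsg.Agent.KOa82881b.k34 | exact True : Prop) := by first | (delta _root_.Cfsg.Agent.KOa82881b.k34; exact @Subtype.property _ (fun g => @Cfsg.Agent.TAB.Eng.nth = @g) _) | rfl | trivial
private noncomputable def _root_.Cfsg.Agent.KOa82881b.k35 : (by first | exact type_of% @Cfsg.Agent.N2.Sp1.mxz | exact Unit : Sort _) := by first | (refine @Subtype.val _ (fun g => @Cfsg.Agent.N2.Sp1.mxz = @g) (@Subtype.mk _ _ (@(fun x0 x1 x2 => @List.rec.{1, 0} ℕ @(fun x3 => ℤ) (@Cfsg.Agent.KOa82881b.k34 @x0 @x1) @(fun x3 x4 x5 => @Decidable.rec.{1} _ @(fun x6 => ℤ) @(fun x6 => @Cfsg.Agent.KOa82881b.k34 @x0 @x3) @(fun x6 => @x5) (@Int.rec.{1} @(fun x6 => @Decidable (@Int.NonNeg @x6)) @(fun x6 => @Decidable.isTrue _ (@Int.NonNeg.mk @x6)) @(fun x6 => @Decidable.isFalse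 _ (@Int.decNonneg._proof_1 @x6)) (@Int.add @x5 (@Int.rec.{1} @(fun x6 => ℤ) @(fun x6 => @Nat.rec.{1} @(fun x7 => ℤ) (@Int.ofNat (nat_lit 0)) @(fun x7 x8 => @Int.negSucc @x7) @x6) @(fun x6 => @Int.ofNat (@Nat.succ @x6)) (@Cfsg.Agent.KOa82881b.k34 @x0 @x3))))) @x2)) ?_); rewrite [← Cfsg.Agent.KOa82881b.e34]; (try delta Cfsg.Agent.N2.Sp1.mxz); (try generalize @Cfsg.Agent.TAB.Eng.nth = g0); rfl') | exact @Cfsg.Agent.N2.Sp1.mxz | exact ()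
private theorem _root_.Cfsg.Agent.KOa82881b.e35 : (by first | exact @Cfsg.Agent.N2.Sp1.mxz = @_root_.Cfsg.Agent.KOa82881b.k35 | exact True : Prop) := by first | (delta _root_.Cfsg.Agent.KOa82881b.k35; exact @Subtype.property _ (fun g => @Cfsg.Agent.N2.Sp1.mxz = @g) _) | rfl | trivial
private noncomputable def _root_.Cfsg.Agent.KOa82881b.k36 : (by first | exact type_of% @Cfsg.Agent.N2.Sp1.upZ | exact Unit : Sort _) := by first | (refine @Subtype.val _ (fun g => @Cfsg.Agent.N2.Sp1.upZ = @g) (@Subtype.mk _ _ (@(fun x0 x1 => @List.rec.{1, 0} ℤ @(fun x2 => (@List.{0} ℤ) → ((@List.{0} ℤ) → @Bool) → @Bool) @(fun x2 x3 => @x3 []) @(fun x2 x3 x4 x5 x6 => @List.rec.{1, 0} ℤ @(fun x7 => @Bool) (@x6 []) @(fun x7 x8 x9 => @Cfsg.Agent.KOa82881b.k3 _ (@Cfsg.Agent.KOa82881b.k13 @x2 (@Cfsg.Agent.KOa82881b.k30 @x0 @x7)) @(fun x10 => @x4 @x8 @(fun x11 =>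 @x6 (@x10 :: @x11)))) @x5) @x1)) ?_); rewrite [← Cfsg.Agent.KOa82881b.e30, ← Cfsg.Agent.KOa82881b.e13, ← Cfsg.Agent.KOa82881b.e3]; (try delta Cfsg.Agent.N2.Sp1.upZ); (try generalize @Cfsg.Agent.TAB.Eng.frcZ = g0); rfl') | exact @Cfsg.Agent.N2.Sp1.upZ | exact ()
private theorem _root_.Cfsg.Agent.KOa82881b.e36 : (by first | exact @Cfsg.Agent.N2.Sp1.upZ = @_root_.Cfsg.Agent.KOa82881b.k36 | exact True : Prop) := by first | (delta _root_.Cfsg.Agent.KOa82881b.k36; exact @Subtype.property _ (fun g => @Cfsg.Agent.N2.Sp1.upZ = @g) _) | rfl | trivial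
private noncomputable def _root_.Cfsg.Agent.KOa82881b.k37 : (by first | exact type_of% @Cfsg.Agent.N2.Sp1.upN | exact Unit : Sort _) := by first | (refine @Subtype.val _ (fun g => @Cfsg.Agent.N2.Sp1.upN = @g) (@Subtype.mk _ _ (@(fun x0 x1 => @List.rec.{1, 0} ℕ @(fun x2 => (@List.{0} ℕ) → ((@List.{0} ℕ) → @Bool) → @Bool) @(fun x2 x3 => @x3 []) @(fun x2 x3 x4 x5 x6 => @List.rec.{1, 0} ℕ @(fun x7 => @Bool) (@x6 []) @(fun x7 x8 x9 => @Cfsg.Agent.KOa82881b.k0 _ (@Nat.add @x2 (@Nat.mul @x0 @x7)) @(fun x10 => @x4 @x8 @(fun x11 => @x6 (@x10 :: @x11)))) @x5) @x1)) ?_); rewrite [← Cfsg.Agent.KOa82881b.e0]; (try delta Cfsg.Agent.N2.Sp1.upN); (try generalize @Cfsg.Agent.TAB.Eng.frc = g0); rfl') | exact @Cfsg.Agent.N2.Sp1.upN | exact ()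
private theorem _root_.Cfsg.Agent.KOa82881b.e37 : (by first | exact @Cfsg.Agent.N2.Sp1.upN = @_root_.Cfsg.Agent.KOa82881b.k37 | exact True : Prop) := by first | (delta _root_.Cfsg.Agent.KOa82881b.k37; exact @Subtype.property _ (fun g => @Cfsg.Agent.N2.Sp1.upN = @g) _) | rfl | trivial
private noncomputable def _root_.Cfsg.Agent.KOa82881b.k38 : (by first | exact type_of% @Cfsg.Agent.N2.Sp1.go | exact Unit : Sort _) := by first | (refine @Subtype.val _ (fun g => @Cfsg.Agent.N2.Sp1.go = @g) (@Subtype.mk _ _ (@(fun x0 x1 x2 x3 x4 x5 x6 x7 x8 => @Cfsg.Agent.KOa82881b.k0 _ (@Nat.sub @x4 @x8) @(fun x9 => @Cfsg.Agent.KOa82881b.k36 (@Int.ofNat @x8) @x5 @x1 @(fun x10 => @Cfsg.Agent.KOa82881b.k37 @x8 @x6 @x2 @(fun x11 => @x3 @x9 @x10 @x11 (((@x0, @x8)) :: @x7)))))) ?_); rewrite [← Cfsg.Agent.KOa82881b.e37, ← Cfsg.Agent.KOa82881b.e36, ← Cfsg.Agent.KOa82881b.e0];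 (try delta Cfsg.Agent.N2.Sp1.go); (try generalize @Cfsg.Agent.TAB.Eng.frc = g0); (try generalize @Cfsg.Agent.N2.Sp1.upZ = g1); (try generalize @Cfsg.Agent.N2.Sp1.upN = g2); rfl') | exact @Cfsg.Agent.N2.Sp1.go | exact ()
private theorem _root_.Cfsg.Agent.KOa82881b.e38 : (by first | exact @Cfsg.Agent.N2.Sp1.go = @_root_.Cfsg.Agent.KOa82881b.k38 | exact True : Prop) := by first | (delta _root_.Cfsg.Agent.KOa82881b.k38; exact @Subtype.property _ (fun g => @Cfsg.Agent.N2.Sp1.go = @g) _) | rfl | trivial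
private noncomputable def _root_.Cfsg.Agent.KOa82881b.k39 : (by first | exact type_of% @Cfsg.Agent.N2.Sp1.cut | exact Unit : Sort _) := by first | (refine @Subtype.val _ (fun g => @Cfsg.Agent.N2.Sp1.cut = @g) (@Subtype.mk _ _ (@(fun x0 x1 => @List.rec.{1, 0} ℤ @(fun x2 => (@List.{0} ℤ) → @Bool) @(fun x2 => @Bool.false) @(fun x2 x3 x4 x5 => @List.rec.{1, 0} ℤ @(fun x6 => @Bool) @Bool.false @(fun x6 x7 x8 => @Int.rec.{1} @(fun x9 => @Bool) @(fun x9 => @x4 @x7) @(fun x9 => @Bool.true) (@Cfsg.Agent.KOa82881b.k13 @x2 (@Cfsg.Agent.KOa82881b.k30 @x0 @x6))) @x5) @x1)) ?_); rewrite [← Cfsg.Agent.KOa82881b.e30, ← Cfsg.Agent.KOa82881b.e13]; rfl') | exact @Cfsg.Agent.N2.Sp1.cut | exact ()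
private theorem _root_.Cfsg.Agent.KOa82881b.e39 : (by first | exact @Cfsg.Agent.N2.Sp1.cut = @_root_.Cfsg.Agent.KOa82881b.k39 | exact True : Prop) := by first | (delta _root_.Cfsg.Agent.KOa82881b.k39; exact @Subtype.property _ (fun g => @Cfsg.Agent.N2.Sp1.cut = @g) _) | rfl | trivial
private noncomputable def _root_.Cfsg.Agent.KOa82881b.k40 : (by first | exact type_of% @Cfsg.Agent.N2.Sp1.node | exact Unit : Sort _) := by first | (refine @Subtype.val _ (fun g => @Cfsg.Agent.N2.Sp1.node = @g) (@Subtype.mk _ _ (@(fun x0 x1 x2 x3 x4 x5 x6 x7 x8 x9 x10 x11 => @Bool.rec.{1} @(fun x12 => @Bool) (@List.rec.{1, 0} ℕ @(fun x12 => @Bool) @Bool.false @(fun x12 x13 x14 => @Bool.rec.{1} @(fun x15 => @Bool) @Bool.true (@Cfsg.Agent.KOa82881b.k0 _ (@Nat.mod (@Nat.sub @x3 (@Nat.mod (@Nat.div @x12 @x2) @x3)) @x3) @(fun x15 => @Bool.rec.{1} @(fun x16 => @Bool)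 @Bool.false (@Cfsg.Agent.KOa82881b.k0 _ (@Nat.div @x1 @x3) @(fun x16 => @Nat.rec.{1} @(fun x17 => @Bool) @Bool.true @(fun x17 x18 => @Bool.rec.{1} @(fun x19 => @Bool) @Bool.false @x18 (@Cfsg.Agent.KOa82881b.k0 _ (@Nat.add (@Nat.mul @x3 (@Nat.add @x16 @x17)) @x15) @(fun x19 => @Bool.rec.{1} @(fun x20 => @Bool) @Bool.true (@Bool.rec.{1} @(fun x20 => @Bool) @Bool.true (@Cfsg.Agent.KOa82881b.k38 @x0 @x4 @x6 @x7 @x8 @x9 @x13 @x11 @x19) (@Nat.ble @x19 @x8)) (@Nat.ble @x1 @x19)))) (@Nat.sub (@Nat.succ (@Nat.div @x8 @x3)) @x16))) (@Bool.rec.{1} @(fun x16 => @Bool) @Bool.true (@x7 @x8 @x9 @x13 (((@x0, nat_lit 0)) :: @x11)) (@Nat.beq @x15 (nat_lit 0))))) (@Nat.beq (@Nat.mod @x12 @x2) (nat_lit 0))) @x10) @Bool.true (@Cfsg.Agent.KOa82881b.k39 (@Int.ofNat @x8) @x9 @x5))) ?_); rewrite [← Cfsg.Agent.KOa82881b.e39, ← Cfsg.Agent.KOa82881b.e38, ← Cfsg.Agent.KOa82881b.e0];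 (try delta Cfsg.Agent.N2.Sp1.node Cfsg.Agent.N2.Sp1.lp); (try generalize @Cfsg.Agent.TAB.Eng.frc = g0); (try generalize @Cfsg.Agent.N2.Sp1.go = g1); (try generalize @Cfsg.Agent.N2.Sp1.cut = g2); rfl') | exact @Cfsg.Agent.N2.Sp1.node | exact ()
private theorem _root_.Cfsg.Agent.KOa82881b.e40 : (by first | exact @Cfsg.Agent.N2.Sp1.node = @_root_.Cfsg.Agent.KOa82881b.k40 | exact True : Prop) := by first | (delta _root_.Cfsg.Agent.KOa82881b.k40; exact @Subtype.property _ (fun g => @Cfsg.Agent.N2.Sp1.node = @g) _) | rfl | trivial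
private noncomputable def _root_.Cfsg.Agent.KOa82881b.k41 : (by first | exact type_of% @Cfsg.Agent.N2.Sp1.lev | exact Unit : Sort _) := by first | (refine @Subtype.val _ (fun g => @Cfsg.Agent.N2.Sp1.lev = @g) (@Subtype.mk _ _ (@(fun x0 x1 x2 x3 x4 => @List.rec.{1, 0} ℕ @(fun x5 => (@List.{0} (@List.{0} ℕ)) → (@Cfsg.Agent.N2.Sp1.Fn → @Bool) → @Bool) @(fun x5 x6 => @x6 (@Cfsg.Agent.KOa82881b.k33 @x3)) @(fun x5 x6 x7 x8 x9 => @List.rec.{1, 0} (@List.{0} ℕ) @(fun x10 => @Bool) @Bool.false @(fun x10 x11 x12 => @Bool.rec.{1} @(fun x13 => @Bool) @Bool.false (@Cfsg.Agent.KOa82881b.k0 _ (@Bool.rec.{1} @(fun x13 => ℕ) (@Cfsg.Agent.TAB.Eng.ntd _ @x10 (nat_lit 0) @x5) @x0 (@Nat.beq (@Cfsg.Agent.TAB.Eng.ntd _ @x10 (nat_lit 0) @x5) (nat_lit 0))) @(fun x13 => @Bool.rec.{1} @(fun x14 => @Bool) @Bool.false (@Cfsg.Agent.KOa82881b.k0 _ (@Nat.div @x0 @x13)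 @(fun x14 => @Cfsg.Agent.KOa82881b.k0 _ (@x1 @x5) @(fun x15 => @Cfsg.Agent.KOa82881b.k4 _ (@Cfsg.Agent.TH.Spor.mapL _ _ @(fun x16 => @Cfsg.Agent.KOa82881b.k34 @x16 @x5) @x2) @(fun x16 => @Cfsg.Agent.KOa82881b.k4 _ (@Cfsg.Agent.TH.Spor.mapL _ _ @(fun x17 => @Cfsg.Agent.KOa82881b.k35 @x17 @x5 @x6) @x2) @(fun x17 => @Cfsg.Agent.KOa82881b.k1 _ (@Cfsg.Agent.TH.Spor.mapL _ _ @(fun x18 => @Cfsg.Agent.TAB.Eng.ntd _ @x18 (nat_lit 0) @x5) @x11) @(fun x18 => @x7 @x11 @(fun x19 => @x9 (@Cfsg.Agent.KOa82881b.k40 @x5 @x15 @x13 @x14 @x16 @x17 @x18 @x19)))))))) (@Nat.beq (@Nat.mod @x0 @x13) (nat_lit 0)))) (@Cfsg.Agent.KOa82881b.k12 _ @(fun x13 => @Nat.beq (@Cfsg.Agent.TAB.Eng.ntd _ @x10 (nat_lit 0) @x13) (nat_lit 0)) @x6)) @x8) @x4)) ?_); rewrite [← Cfsg.Agent.KOa82881b.e12, ← Cfsg.Agent.KOa82881b.e40, ← Cfsg.Agent.KOa82881b.e1, ← Cfsg.Agent.KOa82881b.e35,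 ← Cfsg.Agent.KOa82881b.e34, ← Cfsg.Agent.KOa82881b.e4, ← Cfsg.Agent.KOa82881b.e0, ← Cfsg.Agent.KOa82881b.e33]; (try delta Cfsg.Agent.N2.Sp1.lev); (try generalize @Cfsg.Agent.N2.Sp1.leaf = g0); (try generalize @Cfsg.Agent.TAB.Eng.frc = g1); (try generalize @Cfsg.Agent.TAB.Eng.ntd = g2); (try generalize @Cfsg.Agent.TAB.Eng.frcLZ = g3); (try generalize @Cfsg.Agent.TH.Spor.mapL = g4); (try generalize @Cfsg.Agent.TAB.Eng.nth = g5); (try generalize @Cfsg.Agent.N2.Sp1.mxz = g6); (try generalize @Cfsg.Agent.TAB.Eng.frcL = g7); (try generalize @Cfsg.Agent.N2.Sp1.node = g8); (try generalize @Cfsg.Agent.TAB.Eng.allL = g9); rfl') | exact @Cfsg.Agent.N2.Sp1.lev | exact ()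
private theorem _root_.Cfsg.Agent.KOa82881b.e41 : (by first | exact @Cfsg.Agent.N2.Sp1.lev = @_root_.Cfsg.Agent.KOa82881b.k41 | exact True : Prop) := by first | (delta _root_.Cfsg.Agent.KOa82881b.k41; exact @Subtype.property _ (fun g => @Cfsg.Agent.N2.Sp1.lev = @g) _) | rfl | trivial
private noncomputable def _root_.Cfsg.Agent.KOa82881b.k42 : (by first | exact type_of% @Cfsg.Agent.N2.Sp1.sol | exact Unit : Sort _) := by first | (refine @Subtype.val _ (fun g => @Cfsg.Agent.N2.Sp1.sol = @g) (@Subtype.mk _ _ (@(fun x0 x1 x2 => @Cfsg.Agent.KOa82881b.k1 _ (@Cfsg.Agent.TH.Spor.mapL _ _ (@Cfsg.Agent.KOa82881b.k22 @x2) (@Cfsg.Agent.KOa82881b.k26 @x0 [])) @(fun x3 => @Cfsg.Agent.KOa82881b.k20 _ @(fun x4 => @Cfsg.Agent.KOa82881b.k12 _ @(fun x5 => @Nat.beq (@Cfsg.Agent.TAB.Eng.ntd _ @x4 (nat_lit 0) @x5) (@Cfsg.Agent.TAB.Eng.ntd _ @x3 (nat_lit 0)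 @x5)) (@Cfsg.Agent.KOa82881b.k26 @x0 [])) @x1))) ?_); rewrite [← Cfsg.Agent.KOa82881b.e12, ← Cfsg.Agent.KOa82881b.e20, ← Cfsg.Agent.KOa82881b.e26, ← Cfsg.Agent.KOa82881b.e22, ← Cfsg.Agent.KOa82881b.e1]; (try delta Cfsg.Agent.N2.Sp1.sol); (try generalize @Cfsg.Agent.TAB.Eng.frcL = g0); (try generalize @Cfsg.Agent.TH.Spor.mapL = g1); (try generalize @Cfsg.Agent.TAB.Eng.look = g2); (try generalize @Cfsg.Agent.TH.Spor.anyL = g3); (try generalize @Cfsg.Agent.TAB.Eng.allL = g4); (try generalize @Cfsg.Agent.TAB.Eng.ntd = g5); rfl') | exact @Cfsg.Agent.N2.Sp1.sol | exact ()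
private theorem _root_.Cfsg.Agent.KOa82881b.e42 : (by first | exact @Cfsg.Agent.N2.Sp1.sol = @_root_.Cfsg.Agent.KOa82881b.k42 | exact True : Prop) := by first | (delta _root_.Cfsg.Agent.KOa82881b.k42; exact @Subtype.property _ (fun g => @Cfsg.Agent.N2.Sp1.sol = @g) _) | rfl | trivial
private noncomputable def _root_.Cfsg.Agent.KOa82881b.k43.{ku0} : type_of% @List.decidableBAll.{ku0} := @(fun x0 x1 x2 x3 => @List.rec.{1, ku0} @x0 @(fun x4 => @Decidable ((x5 : @x0) → (@Membership.mem.{ku0, ku0} _ _ _ @x4 @x5) → @x1 @x5)) (@Decidable.isTrue _ (@List.decidableBAll._proof_1.{ku0} _ @x1)) @(fun x4 x5 x6 => @Decidable.rec.{1} _ @(fun x7 => @Decidable ((x8 : @x0) → (@Membership.mem.{ku0, ku0} _ _ _ (@x4 :: @x5) @x8) → @x1 @x8)) @(fun x7 => @Decidable.isFalse _ (@List.decidableBAll._proof_4.{ku0} _ @x1 @x4 @x5 @x7)) @(fun x7 => @Decidable.rec.{1}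 _ @(fun x8 => @Decidable ((x9 : @x0) → (@Membership.mem.{ku0, ku0} _ _ _ (@x4 :: @x5) @x9) → @x1 @x9)) @(fun x8 => @Decidable.isFalse _ (@List.decidableBAll._proof_3.{ku0} _ @x1 @x4 @x5 @x8)) @(fun x8 => @Decidable.isTrue _ (@List.decidableBAll._proof_2.{ku0} _ @x1 @x4 @x5 @x7 @x8)) @x6) (@x2 @x4)) @x3)
private theorem _root_.Cfsg.Agent.KOa82881b.e43.{ku0} : @List.decidableBAll.{ku0} = @_root_.Cfsg.Agent.KOa82881b.k43.{ku0} := by delta _root_.Cfsg.Agent.KOa82881b.k43; funext a0 a1 a2 a3; refine (_root_.Cfsg.Agent.KOa82881b.e10 (fun a3 => @List.decidableBAll.{ku0} a0 a1 a2 a3) ?_ (fun c0 c1 => ?_) a3 :) <;> (rfl')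
private noncomputable def _root_.Cfsg.Agent.KOa82881b.k44.{ku0} : type_of% @List.instDecidablePairwise.{ku0} := @(fun x0 x1 x2 x3 => @List.rec.{1, ku0} @x0 @(fun x4 => @Decidable (@List.Pairwise.{ku0} _ @x1 @x4)) (@Decidable.isTrue _ (@List.Pairwise.nil.{ku0} _ _)) @(fun x4 x5 x6 => @Decidable.rec.{1} _ @(fun x7 => @Decidable (@List.Pairwise.{ku0} _ @x1 (@x4 :: @x5))) @(fun x7 => @Decidable.isFalse _ (@List.instDecidablePairwise._proof_3.{ku0} _ _ @x4 @x5 @x7)) @(fun x7 => @Decidable.rec.{1} _ @(fun x8 => @Decidable (@List.Pairwise.{ku0} _ @x1 (@x4 :: @x5))) @(fun x8 => @Decidable.isFalse _ (@List.instDecidablePairwise._proof_1.{ku0} _ _ @x4 @x5 @x8)) @(fun x8 => @Decidable.isTrue _ (@List.instDecidablePairwise._proof_2.{ku0} _ _ @x4 @x5 @x7 @x8)) (@Cfsg.Agent.KOa82881b.k43.{ku0} _ (@x1 @x4) (@x2 @x4) @x5)) @x6) @x3)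
private theorem _root_.Cfsg.Agent.KOa82881b.e44.{ku0} : @List.instDecidablePairwise.{ku0} = @_root_.Cfsg.Agent.KOa82881b.k44.{ku0} := by delta _root_.Cfsg.Agent.KOa82881b.k44; rewrite [← Cfsg.Agent.KOa82881b.e43.{ku0}]; funext a0 a1 a2 a3; refine (_root_.Cfsg.Agent.KOa82881b.e10 (fun a3 => @List.instDecidablePairwise.{ku0} a0 a1 a2 a3) ?_ (fun c0 c1 => ?_) a3 :) <;> (rfl')
private noncomputable def _root_.Cfsg.Agent.KOa82881b.k45 : type_of% @Nat.decEq := @(fun x0 x1 => @Bool.rec.{1} @(fun x2 => (@Eq.{1} _ (@Nat.beq @x0 @x1) @x2) → @Decidable (@Eq.{1} _ @x0 @x1)) @(fun x2 => @Decidable.isFalse _ (@Nat.ne_of_beq_eq_false _ _ @x2)) @(fun x2 => @Decidable.isTrue _ (@Nat.eq_of_beq_eq_true _ _ @x2)) (@Nat.beq @x0 @x1) (@Eq.refl.{1} _ (@Nat.beq @x0 @x1)))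
private theorem _root_.Cfsg.Agent.KOa82881b.e45 : @Nat.decEq = @_root_.Cfsg.Agent.KOa82881b.k45 := by delta _root_.Cfsg.Agent.KOa82881b.k45; rfl'
private noncomputable def _root_.Cfsg.Agent.KOa82881b.k46 : (by first | exact type_of% @Cfsg.Agent.N2.Sp1.one | exact Unit : Sort _) := by first | (refine @Subtype.val _ (fun g => @Cfsg.Agent.N2.Sp1.one = @g) (@Subtype.mk _ _ (@(fun x0 x1 x2 x3 x4 x5 x6 x7 x8 => @Bool.rec.{1} @(fun x9 => @Bool) @Bool.false (@Cfsg.Agent.KOa82881b.k5 (@Cfsg.Agent.KOa82881b.k25.{0} _ @x2 (@Cfsg.Agent.TH.Spor.mapL _ _ (@Cfsg.Agent.KOa82881b.k27 @x0 @x5) @x7)) @(fun x9 => @Cfsg.Agent.KOa82881b.k2 (@Cfsg.Agent.TH.Spor.mapL _ _ @(fun x10 => @Cfsg.Agent.TH.Spor.mapL _ _ @(fun x11 => @Int.rec.{1} @(fun x12 => ℕ) @(fun x12 => @x12) @(fun x12 => nat_lit 0) (@Int.rec.{1} @(fun x12 => ℤ) @(fun x12 => @Int.ofNat (@Nat.mod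 @x12 @x5)) @(fun x12 => @Nat.rec.{1} @(fun x13 => ℤ) (@Int.ofNat (@Nat.sub @x5 (@Nat.succ (@Nat.mod @x12 @x5)))) @(fun x13 x14 => @Int.negSucc @x13) (@Nat.sub (@Nat.succ (@Nat.mod @x12 @x5)) @x5)) @x11)) (@Cfsg.Agent.KOa82881b.k32 @x9 @x10)) @x8) @(fun x10 => @List.rec.{1, 0} (@List.{0} ℕ) @(fun x11 => @Bool) @Bool.false @(fun x11 x12 x13 => @Bool.rec.{1} @(fun x14 => @Bool) @Bool.false (@Bool.rec.{1} @(fun x14 => @Bool) @Bool.true (@Cfsg.Agent.KOa82881b.k41 @x5 @x4 @x1 (@Cfsg.Agent.KOa82881b.k42 (@Cfsg.Agent.TAB.Eng.Dat.n @x0) @x3) @x6 @x12 @(fun x14 => @Cfsg.Agent.KOa82881b.k4 _ (@Cfsg.Agent.TH.Spor.mapL _ _ @(fun x15 => @Cfsg.Agent.KOa82881b.k34 @x15 (nat_lit 0)) @x1) @(fun x15 => @Cfsg.Agent.KOa82881b.k1 _ (@Cfsg.Agent.TH.Spor.mapL _ _ @(fun x16 => @Cfsg.Agent.TAB.Eng.ntd _ @x16 (nat_lit 0) (nat_lit 0)) @x12) @(fun x16 => @x14 (@Nat.sub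 @x5 (nat_lit 1)) @x15 @x16 (((nat_lit 0, nat_lit 1)) :: []))))) (@Nat.beq (@Nat.mod (@Cfsg.Agent.TAB.Eng.ntd _ @x11 (nat_lit 0) (nat_lit 0)) @x5) (nat_lit 0))) (@Cfsg.Agent.KOa82881b.k12 _ @(fun x14 => @Nat.beq (@Cfsg.Agent.TAB.Eng.ntd _ @x11 (nat_lit 0) @x14) (nat_lit 0)) @x6)) @x10))) (@Bool.rec.{1} @(fun x9 => @Bool) @Bool.false (@Cfsg.Agent.KOa82881b.k12 _ @(fun x9 => @Nat.ble (@Nat.succ @x9) (@Cfsg.Agent.TAB.Eng.Dat.n @x0)) @x6) (@Bool.rec.{1} @(fun x9 => @Bool) @Bool.false (@Decidable.rec.{1} _ @(fun x9 => @Bool) @(fun x9 => @Bool.false) @(fun x9 => @Bool.true) (@Cfsg.Agent.KOa82881b.k44.{0} _ @(fun x9 x10 => @Ne.{1} _ @x9 @x10) @(fun x9 x10 => @Decidable.rec.{1} _ @(fun x11 => @Decidable (¬ (@Eq.{1} _ @x9 @x10))) @(fun x11 => @Decidable.isTrue _ @x11) @(fun x11 => @Decidable.isFalse _ (@absurd.{0} _ _ @x11)) (@Cfsg.Agent.KOa82881b.k45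 @x9 @x10)) ((nat_lit 0) :: @x6))) (@Cfsg.Agent.KOa82881b.k12 _ @(fun x9 => @Nat.beq (@Nat.mod @x5 @x9) (nat_lit 0)) @x7))))) ?_); rewrite [← Cfsg.Agent.KOa82881b.e45, ← Cfsg.Agent.KOa82881b.e44.{0}, ← Cfsg.Agent.KOa82881b.e12, ← Cfsg.Agent.KOa82881b.e1, ← Cfsg.Agent.KOa82881b.e34, ← Cfsg.Agent.KOa82881b.e4, ← Cfsg.Agent.KOa82881b.e42, ← Cfsg.Agent.KOa82881b.e41, ← Cfsg.Agent.KOa82881b.e32, ← Cfsg.Agent.KOa82881b.e2, ← Cfsg.Agent.KOa82881b.e27, ← Cfsg.Agent.KOa82881b.e25.{0}, ← Cfsg.Agent.KOa82881b.e5]; (try delta Cfsg.Agent.N2.Sp1.one Cfsg.Agent.N2.Sp1.red); (try generalize @Cfsg.Agent.N2.Sp.frcW = g0); (try generalize @Cfsg.Agent.TH.Spor.mapL = g1); (try generalize @Cfsg.Agent.N2.Sp1.fro = g2); (try generalize @Cfsg.Agent.N2.Sp1.frcV = g3); (try generalize @Cfsg.Agent.SB.SporL.cmb = g4); (try generalize @Cfsg.Agent.N2.Sp1.lev = g5); (try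 generalize @Cfsg.Agent.N2.Sp1.sol = g6); (try generalize @Cfsg.Agent.TAB.Eng.frcLZ = g7); (try generalize @Cfsg.Agent.TAB.Eng.nth = g8); (try generalize @Cfsg.Agent.TAB.Eng.frcL = g9); (try generalize @Cfsg.Agent.TAB.Eng.ntd = g10); (try generalize @Cfsg.Agent.TAB.Eng.allL = g11); rfl') | exact @Cfsg.Agent.N2.Sp1.one | exact ()
private theorem _root_.Cfsg.Agent.KOa82881b.e46 : (by first | exact @Cfsg.Agent.N2.Sp1.one = @_root_.Cfsg.Agent.KOa82881b.k46 | exact True : Prop) := by first | (delta _root_.Cfsg.Agent.KOa82881b.k46; exact @Subtype.property _ (fun g => @Cfsg.Agent.N2.Sp1.one = @g) _) | rfl | trivial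
private noncomputable def _root_.Cfsg.Agent.KOa82881b.k47 : (by first | exact type_of% @Cfsg.Agent.N2.Sp1.oneB | exact Unit : Sort _) := by first | (refine @Subtype.val _ (fun g => @Cfsg.Agent.N2.Sp1.oneB = @g) (@Subtype.mk _ _ (@(fun x0 x1 x2 x3 x4 x5 x6 => @Bool.rec.{1} @(fun x7 => @Bool) @Bool.false (@Cfsg.Agent.KOa82881b.k16 @(fun x7 => @Bool.rec.{1} @(fun x8 => @Bool) @Bool.false (@Nat.ble (@Cfsg.Agent.KOa82881b.k17 @x0 @x1 (@Prod.fst.{0, 0} _ _ (@Prod.snd.{0, 0} _ _ @x6)) (@Prod.fst.{0, 0} _ _ @x6) @x7) (@Prod.fst.{0, 0} _ _ @x6)) (@Bool.rec.{1} @(fun x8 => @Bool) @Bool.false (@Nat.beq (@Nat.mod (@Prod.fst.{0, 0} _ _ @x6) (@Option.rec.{1, 0} ℕ @(fun x8 => ℕ) (nat_lit 0) @(fun x8 => @x8) (@Cfsg.Agent.KOa82881b.k19.{0} _ (@Cfsg.Agent.TAB.Eng.Dat.ordL @x0) @x7))) (nat_lit 0)) (@Cfsg.Agent.KOa82881b.k20 _ @(fun x8 => @Bool.rec.{1} @(fun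 x9 => @Bool) @Bool.false (@Nat.ble (@Prod.fst.{0, 0} _ _ @x6) (@Prod.snd.{0, 0} _ _ (@Prod.snd.{0, 0} _ _ @x8))) (@Bool.rec.{1} @(fun x9 => @Bool) @Bool.false (@Nat.ble (@Prod.fst.{0, 0} _ _ (@Prod.snd.{0, 0} _ _ @x8)) (@Prod.fst.{0, 0} _ _ @x6)) (@Nat.beq (@Prod.fst.{0, 0} _ _ @x8) @x7))) @x2))) (@Cfsg.Agent.TH.Spor.mapL _ _ (@Prod.fst.{0, 0} _ _) @x2) @(fun x7 => @Cfsg.Agent.KOa82881b.k16 @(fun x8 => @Cfsg.Agent.KOa82881b.k12 _ @(fun x9 => @Cfsg.Agent.KOa82881b.k0 _ (@Cfsg.Agent.KOa82881b.k23 @x0 @x8 @x9) @(fun x10 => @Bool.rec.{1} @(fun x11 => @Bool) (@Cfsg.Agent.KOa82881b.k24 @x7 @x10) @Bool.true (@Nat.beq @x10 (nat_lit 0)))) ((nat_lit 2) :: ((nat_lit 3) :: ((nat_lit 5) :: [])))) @x7 @(fun x8 => @Cfsg.Agent.KOa82881b.k46 @x0 @x3 @x4 @x5 (@Cfsg.Agent.KOa82881b.k17 @x0 @x1 (@Prod.fst.{0, 0} _ _ (@Prod.snd.{0, 0} _ _ @x6)) (@Prod.fst.{0,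 0} _ _ @x6)) (@Prod.fst.{0, 0} _ _ @x6) @x8 (@Prod.fst.{0, 0} _ _ (@Prod.snd.{0, 0} _ _ (@Prod.snd.{0, 0} _ _ @x6))) (@Prod.snd.{0, 0} _ _ (@Prod.snd.{0, 0} _ _ (@Prod.snd.{0, 0} _ _ @x6)))))) (@Nat.ble (@Nat.mul (@Nat.pow (@Nat.sub (@Prod.fst.{0, 0} _ _ (@Prod.snd.{0, 0} _ _ @x6)) (nat_lit 1)) (nat_lit 3)) (@Prod.fst.{0, 0} _ _ @x6)) (@Cfsg.Agent.TAB.Eng.Dat.N @x0)))) ?_); rewrite [← Cfsg.Agent.KOa82881b.e46, ← Cfsg.Agent.KOa82881b.e24, ← Cfsg.Agent.KOa82881b.e23, ← Cfsg.Agent.KOa82881b.e0, ← Cfsg.Agent.KOa82881b.e12, ← Cfsg.Agent.KOa82881b.e20, ← Cfsg.Agent.KOa82881b.e19.{0}, ← Cfsg.Agent.KOa82881b.e17, ← Cfsg.Agent.KOa82881b.e16]; (try delta Cfsg.Agent.N2.Sp1.oneB Cfsg.Agent.TAB.Eng.Dat.ord); (try generalize @Cfsg.Agent.N2.Sp.flt = g0); (try generalize @Cfsg.Agent.N2.Sp1.thr = g1); (try generalize @Cfsg.Agent.TH.Spor.anyL = g2); (try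 generalize @Cfsg.Agent.TH.Spor.mapL = g3); (try generalize @Cfsg.Agent.TAB.Eng.allL = g4); (try generalize @Cfsg.Agent.TAB.Eng.frc = g5); (try generalize @Cfsg.Agent.TAB.Eng.Dat.pwf = g6); (try generalize @Cfsg.Agent.N2.Sp.mem = g7); (try generalize @Cfsg.Agent.N2.Sp1.one = g8); rfl') | exact @Cfsg.Agent.N2.Sp1.oneB | exact ()
private theorem _root_.Cfsg.Agent.KOa82881b.e47 : (by first | exact @Cfsg.Agent.N2.Sp1.oneB = @_root_.Cfsg.Agent.KOa82881b.k47 | exact True : Prop) := by first | (delta _root_.Cfsg.Agent.KOa82881b.k47; exact @Subtype.property _ (fun g => @Cfsg.Agent.N2.Sp1.oneB = @g) _) | rfl | trivial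
private noncomputable def _root_.Cfsg.Agent.KOa82881b.k48 : (by first | exact type_of% @Cfsg.Agent.TH.Spor.okIdx | exact Unit : Sort _) := by first | (refine @Subtype.val _ (fun g => @Cfsg.Agent.TH.Spor.okIdx = @g) (@Subtype.mk _ _ (@(fun x0 => @Cfsg.Agent.KOa82881b.k0 _ (@Cfsg.Agent.KOa82881b.k11.{0} _ (@Cfsg.Agent.TAB.Use.Rows.deg @x0)) @(fun x1 => @Cfsg.Agent.KOa82881b.k12 _ @(fun x2 => @Cfsg.Agent.KOa82881b.k12 _ @(fun x3 => @Nat.ble (@Nat.succ (@Prod.fst.{0, 0} _ _ @x3)) @x1) (@Prod.fst.{0, 0} _ _ @x2)) (@Cfsg.Agent.TAB.Use.Rows.rel @x0)))) ?_); rewrite [← Cfsg.Agent.KOa82881b.e12, ← Cfsg.Agent.KOa82881b.e11.{0}, ← Cfsg.Agent.KOa82881b.e0]; (try delta Cfsg.Agent.TH.Spor.okIdx Cfsg.Agent.TAB.Use.Rows.n); (try generalize @Cfsg.Agent.TAB.Eng.frc = g0); (try generalize @Cfsg.Agent.TAB.Eng.allL = g1); rfl') | exact @Cfsg.Agent.TH.Spor.okIdx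 | exact ()
private theorem _root_.Cfsg.Agent.KOa82881b.e48 : (by first | exact @Cfsg.Agent.TH.Spor.okIdx = @_root_.Cfsg.Agent.KOa82881b.k48 | exact True : Prop) := by first | (delta _root_.Cfsg.Agent.KOa82881b.k48; exact @Subtype.property _ (fun g => @Cfsg.Agent.TH.Spor.okIdx = @g) _) | rfl | trivial
private noncomputable def _root_.Cfsg.Agent.KOa82881b.k49 : (by first | exact type_of% @Cfsg.Agent.N2.Sp3.Ly.chkShort | exact Unit : Sort _) := by first | (refine @Subtype.val _ (fun g => @Cfsg.Agent.N2.Sp3.Ly.chkShort = @g) (@Subtype.mk _ _ (@(fun x0 => @Bool.rec.{1} @(fun x1 => @Bool) @Bool.false (@Cfsg.Agent.KOa82881b.k1 _ @Cfsg.Agent.N2.Sp.Ly.nu @(fun x1 => @Cfsg.Agent.KOa82881b.k2 @Cfsg.Agent.N2.Sp3.Ly.SOL @(fun x2 => @Cfsg.Agent.KOa82881b.k15 (nat_lit 8) @(fun x3 x4 => @Cfsg.Agent.KOa82881b.k15 (nat_lit 15) @(fun x5 x6 => @Cfsg.Agent.KOa82881b.k12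 _ @(fun x7 => @Bool.rec.{1} @(fun x8 => @Bool) (@Cfsg.Agent.KOa82881b.k47 @Cfsg.Agent.N2.Sp.Ly.D @x1 @Cfsg.Agent.N2.Sp3.Ly.O2 @x5 @x6 @x2 @x7) (@Cfsg.Agent.KOa82881b.k47 @Cfsg.Agent.N2.Sp.Ly.D @x1 @Cfsg.Agent.N2.Sp3.Ly.O2 @x3 @x4 @x2 @x7) (@Nat.ble (@Nat.succ (@Prod.fst.{0, 0} _ _ @x7)) (nat_lit 1109508))) @x0))))) (@Cfsg.Agent.KOa82881b.k48 @Cfsg.Agent.N2.Sp.Ly.R))) ?_); rewrite [← Cfsg.Agent.KOa82881b.e48, ← Cfsg.Agent.KOa82881b.e47, ← Cfsg.Agent.KOa82881b.e12, ← Cfsg.Agent.KOa82881b.e15, ← Cfsg.Agent.KOa82881b.e2, ← Cfsg.Agent.KOa82881b.e1]; (try delta Cfsg.Agent.N2.Sp3.Ly.chkShort); (try generalize @Cfsg.Agent.TAB.Eng.frcL = g0); (try generalize @Cfsg.Agent.N2.Sp.Ly.nu = g1); (try generalize @Cfsg.Agent.N2.Sp1.frcV = g2); (try generalize @Cfsg.Agent.N2.Sp3.Ly.SOL = g3); (try generalize @Cfsg.Agent.N2.Sp3.Ly.shrt = g4); (try generalize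 @Cfsg.Agent.TAB.Eng.allL = g5); (try generalize @Cfsg.Agent.N2.Sp1.oneB = g6); (try generalize @Cfsg.Agent.N2.Sp.Ly.D = g7); (try generalize @Cfsg.Agent.N2.Sp3.Ly.O2 = g8); (try generalize @Cfsg.Agent.TH.Spor.okIdx = g9); (try generalize @Cfsg.Agent.N2.Sp.Ly.R = g10); rfl') | exact @Cfsg.Agent.N2.Sp3.Ly.chkShort | exact ()
private theorem _root_.Cfsg.Agent.KOa82881b.e49 : (by first | exact @Cfsg.Agent.N2.Sp3.Ly.chkShort = @_root_.Cfsg.Agent.KOa82881b.k49 | exact True : Prop) := by first | (delta _root_.Cfsg.Agent.KOa82881b.k49; exact @Subtype.property _ (fun g => @Cfsg.Agent.N2.Sp3.Ly.chkShort = @g) _) | rfl | trivial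

theorem ok1 : chkShort CL1 = true := by (first | (rewrite [Cfsg.Agent.KOa82881b.e49]; decide +kernel) | decide +kernel)

end Cfsg.Agent.N2.Sp3.Ly
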