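import Cfsg.Agent.N2.Sp3.Lyv_m3
import Cfsg.Agent.Prune
set_option linter.all false
prune_inst 0x7f00000000000000000000000000000000000000000000000000000000000000000000000000000000000000000000000000000000000000000000000000000000000000000000000000000000000000003fffffffffffffffffffffffffffbeffbdffffffff
open scoped Cfsg.Agent.FastGrp
private noncomputable def lq2658f569b8 {T : Sort _} (f :
    type_of% (@_root_.List.cons.{0}) →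
    type_of% (@_root_.Prod.mk.{0, 0}) →
    type_of% (@_root_.List.nil.{0}) →
    type_of% (@_root_.List.cons.{0} (Prod Nat (Prod Nat (Prod (List Nat) (List (List (Prod Nat Nat))))))) → T) : T :=
  f (@_root_.List.cons.{0}) (@_root_.Prod.mk.{0, 0}) (@_root_.List.nil.{0}) (@_root_.List.cons.{0} (Prod Nat (Prod Nat (Prod (List Nat) (List (List (Prod Nat Nat)))))))

/-!
# N2 (S3519), the row of Ly: the exact sieve, part 2 (helper23; generated with notes/N2/sp45)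
-/

set_option autoImplicit false
set_option maxRecDepth 100000

namespace Cfsg.Agent.N2.Sp3.Ly

open Cfsg Cfsg.Agent.N2.Sp Cfsg.Agent.N2.Sp.Ly Cfsg.Agent.N2.Sp1

/-- the certificates -/
noncomputable def CL2 : List Ct := (beta% delta% lq2658f569b8 fun a b c d =>
 (let e:=(let e:=(let e:=(let e:=(d (b 2400000<|b 2784<|b c (a (a (b 179118 0)<|a (b 298492 1)<|a (b 421249 2)<|a (b 2275662 3)<|a (b 189984 4)<|a (b 626524 5)<|a (b 877052 6)<|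
 a (b 2223512 7)<|a (b 1126364 8)<|a (b 3 9)<|c)<|a c<|a c<|a c<|a c<|a c<|a c<|a c<|a c<|c))<|
 d (b 2799360<|b 2645<|b c (a (a (b 587530 0)<|a (b 594220 1)<|a (b 2465315 2)<|a (b 2186250 3)<|a (b 2741152 4)<|a (b 331900 5)<|a (b 999888
 6)<|a (b 2598328 7)<|a (b 1869980 8)<|a (b 1 9)<|c)<|a c<|a c<|a c<|a c<|a c<|a c<|a c<|a c<|c))<|
 d (b 2916000<|b 2609<|b (a 2916000<|c) (a c<|a (a (b 1317901 0)<|a (b 2419245 1)<|a (b 516795 2)<|a (b 477639 3)<|a (b 2662195 4)<|a (b 1747869 5)<|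
 a (b 2614688 6)<|a (b 2856240 7)<|a (b 2462625 8)<|c)<|a (a (b 1985317 0)<|a (b 2117465 1)<|a (b 65756 2)<|a (b 1380893 3)<|a (b 2176993 4)<|
 a (b 330800 5)<|a (b 2813895 6)<|a (b 187573 7)<|a (b 33 8)<|c)<|a (a (b 742422 0)<|a (b 1905756 1)<|a (b 2011404 2)<|a (b 2196918 3)<|
 a (b 2419768 4)<|a (b 2708084 5)<|a (b 2473224 6)<|a (b 2915999 8)<|c)<|a (a (b 1559370 0)<|a (b 1154075 1)<|a (b 1396882 2)<|a (b 1793881
 3)<|a (b 2468315 4)<|a (b 2915888 5)<|c)<|a (a (b 229827 0)<|a (b 91799 1)<|a (b 2265388 2)<|a (b 1487746 3)<|a (b 2430873 4)<|c)<|a (a (b 1234955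
 0)<|a (b 473701 1)<|a (b 609339 2)<|a (b 2913222 3)<|c)<|a (a (b 2676231 0)<|a (b 23993 1)<|a (b 2915998 2)<|c)<|a (a (b 1 39)<|c)<|c))<|
 d (b 3600000<|b 2432<|b c (a (a (b 468730 0)<|a (b 693492 1)<|a (b 1866019 2)<|a (b 3087450 3)<|a (b 3158800 4)<|a (b 1946532 5)<|a (b 3420112
 6)<|a (b 470936 7)<|a (b 2472924 8)<|a (b 1 9)<|c)<|a c<|a c<|a c<|a c<|a c<|a c<|a c<|a c<|c))<|
 d (b 4050000<|b 2339<|b (a 253125<|a 4050000<|c) (a c<|a (a (b 2429761 0)<|a (b 3396465 1)<|a (b 701835 2)<|a (b 413379 3)<|a (b 662575 4)<|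
 a (b 3073929 5)<|a (b 532358 6)<|a (b 2551320 7)<|a (b 191565 8)<|c)<|a (a (b 718149 0)<|a (b 2839967 1)<|a (b 3755750 2)<|a (b 2332661 3)<|
 a (b 1486041 4)<|a (b 2344490 5)<|a (b 1055080 6)<|a (b 2633161 7)<|a (b 4049997 8)<|c)<|a (a (b 1790068 0)<|a (b 3875016 1)<|a (b 1314534
 2)<|a (b 3629352 3)<|a (b 3640358 4)<|a (b 2501888 5)<|a (b 1771712 6)<|a (b 4049999 8)<|c)<|a (a (b 2913558 0)<|a (b 2714611 1)<|
 a (b 1826486 2)<|a (b 631133 3)<|a (b 3995111 4)<|a (b 4000072 5)<|c)<|a (a (b 957603 0)<|a (b 1189436 1)<|a (b 824464 2)<|a (b 549919 3)<|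
 a (b 3955240 4)<|c)<|a (a (b 16 0)<|a (b 4049999 39)<|c)<|a (a (b 666289 0)<|a (b 3983347 1)<|a (b 4 2)<|c)<|a (a (b 1 40)<|c)<|c))<|
 d (b 4320000<|b 2289<|b c (a (a (b 2794730 0)<|a (b 2791292 1)<|a (b 3476419 2)<|a (b 3547050 3)<|a (b 459200 4)<|a (b 3053132 5)<|a (b 2892512
 6)<|a (b 2074936 7)<|a (b 512124 8)<|a (b 1 9)<|c)<|a c<|a c<|a c<|a c<|a c<|a c<|a c<|a c<|c))<|
 d (b 5062500<|b 2171<|b c (a (a (b 1054634 0)<|a (b 261373 1)<|a (b 4885476 2)<|a (b 4048086 3)<|a (b 1478552 4)<|a (b 997009 5)<|a (b 1109723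
 6)<|a (b 4647412 7)<|a (b 13551 8)<|c)<|a c<|a c<|a c<|a c<|a c<|a c<|a c<|a c<|c))<|c);
 (d (b 1215000<|b 3493<|b (a 151875<|a 1215000<|c) (a c<|a (a (b 609985 0)<|a (b 78393 1)<|a (b 291921 2)<|a (b 636975 3)<|a (b 1142497 4)<|a (b 608553
 5)<|a (b 153536 6)<|a (b 1073352 7)<|a (b 1210176 8)<|c)<|a (a (b 183621 0)<|a (b 705557 1)<|a (b 332690 2)<|a (b 389669 3)<|a (b 951081 4)<|
 a (b 28208 5)<|a (b 500116 6)<|a (b 218041 7)<|a (b 1214997 8)<|c)<|a (a (b 210412 0)<|a (b 833166 1)<|a (b 759174 2)<|a (b 415968 3)<|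
 a (b 968678 4)<|a (b 58934 5)<|a (b 44354 6)<|a (b 1214999 8)<|c)<|a (a (b 910743 0)<|a (b 313681 1)<|a (b 440441 2)<|a (b 1092548 3)<|
 a (b 379256 4)<|a (b 5302 5)<|c)<|a (a (b 159051 0)<|a (b 544037 1)<|a (b 188812 2)<|a (b 723448 3)<|a (b 162131 4)<|c)<|a (a (b 8 0)<|a (b 1214999
 39)<|c)<|a (a (b 1115231 0)<|a (b 9993 1)<|a (b 1214998 2)<|c)<|a (a (b 1 40)<|c)<|c))<|
 d (b 1366875<|b 3359<|b c (a (a (b 409080 0)<|a (b 16234 1)<|a (b 1114163 2)<|a (b 14765 3)<|a (b 986232 4)<|a (b 1 5)<|c)<|a c<|a c<|a c<|a c<|c))<|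
 d (b 1518750<|b 3243<|b (a 759375<|a 1518750<|c) (a c<|a (a (b 1467636 0)<|a (b 864673 1)<|a (b 1379559 2)<|a (b 363894 3)<|a (b 1194486 4)<|
 a (b 193768 5)<|a (b 168031 6)<|a (b 1494121 7)<|c)<|a (a (b 949290 0)<|a (b 462612 1)<|a (b 732146 2)<|a (b 364460 3)<|a (b 94036 4)<|
 a (b 807140 5)<|a (b 760814 6)<|a (b 416504 7)<|a (b 1518749 8)<|c)<|a (a (b 1043331 0)<|a (b 409417 1)<|a (b 690125 2)<|a (b 448190 3)<|
 a (b 1169852 4)<|a (b 6556 5)<|c)<|a (a (b 414237 0)<|a (b 986219 1)<|a (b 271798 2)<|a (b 1098676 3)<|a (b 1315593 4)<|c)<|a (a (b 2 0)<|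
 a (b 1518749 39)<|c)<|a (a (b 1393981 0)<|a (b 12493 1)<|a (b 1518748 2)<|c)<|a (a (b 1 40)<|c)<|c))<|
 d (b 1555200<|b 3217<|b c (a (a (b 1131174 0)<|a (b 648038 1)<|a (b 1118369 2)<|a (b 261342 3)<|a (b 1054056 4)<|a (b 599282 5)<|a (b 218879
 6)<|a (b 1477748 7)<|a (b 1193342 8)<|a (b 1 9)<|c)<|a c<|a c<|a c<|a c<|a c<|a c<|a c<|a c<|c))<|
 d (b 1620000<|b 3174<|b (a 1620000<|c) (a c<|a (a (b 856409 0)<|a (b 305771 1)<|a (b 1191957 2)<|a (b 268971 3)<|a (b 612419 4)<|a (b 649727 5)<|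
 a (b 1013889 6)<|a (b 322484 7)<|a (b 1375287 8)<|c)<|a (a (b 1374317 0)<|a (b 1033885 1)<|a (b 1081586 2)<|a (b 491573 3)<|a (b 115733 4)<|
 a (b 605560 5)<|a (b 1286650 6)<|a (b 1285593 7)<|a (b 3 8)<|c)<|a (a (b 300886 0)<|a (b 901416 1)<|a (b 852564 2)<|a (b 1128054 3)<|a (b 972248
 4)<|a (b 168800 5)<|a (b 41936 6)<|a (b 1619999 8)<|c)<|a (a (b 716574 0)<|a (b 887813 1)<|a (b 102274 2)<|a (b 231877 3)<|a (b 727583 4)<|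
 a (b 1618250 5)<|c)<|a (a (b 920163 0)<|a (b 1427156 1)<|a (b 1135024 2)<|a (b 165799 3)<|a (b 61760 4)<|c)<|a (a (b 271139 0)<|a (b 909009 1)<|
 a (b 997951 2)<|a (b 1618354 3)<|c)<|a (a (b 266289 0)<|a (b 1593347 1)<|a (b 4 2)<|c)<|a (a (b 1 39)<|c)<|c))<|
 d (b 2160000<|b 2884<|b c (a (a (b 1033214 0)<|a (b 2081290 1)<|a (b 1280445 2)<|a (b 518886 3)<|a (b 2140952 4)<|a (b 205966 5)<|a (b 563085
 6)<|a (b 487148 7)<|a (b 1115650 8)<|a (b 1 9)<|c)<|a c<|a c<|a c<|a c<|a c<|a c<|a c<|a c<|c))<|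
 e));
 (let e:=(d (b 600000<|b 4419<|b c (a (a (b 19454 0)<|a (b 313254 1)<|a (b 12654 2)<|a (b 569318 3)<|a (b 111040 4)<|a (b 285586 5)<|a (b 17191 6)<|a (b 12
 7)<|c)<|a c<|a c<|a c<|a c<|a c<|a c<|c))<|
 d (b 750000<|b 4102<|b c (a (a (b 189117 0)<|a (b 445530 1)<|a (b 148140 2)<|a (b 268213 3)<|a (b 231940 4)<|a (b 353138 5)<|a (b 11436 6)<|c)<|
 a c<|a c<|a c<|a c<|a c<|a c<|c))<|
 d (b 843750<|b 3945<|b c (a (a (b 138627 0)<|a (b 393679 1)<|a (b 706658 2)<|a (b 468169 3)<|a (b 704984 4)<|a (b 826369 5)<|c)<|a c<|a c<|a c<|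
 a c<|a c<|c))<|
 d (b 911250<|b 3845<|b (a 455625<|a 911250<|c) (a c<|a (a (b 201877 0)<|a (b 841039 1)<|a (b 389157 2)<|a (b 189525 3)<|a (b 119422 4)<|a (b 558900
 5)<|a (b 910845 6)<|a (b 1 7)<|c)<|a (a (b 733095 0)<|a (b 656115 1)<|a (b 64281 2)<|a (b 167760 3)<|a (b 6854 4)<|c)<|a (a (b 2 0)<|a (b 911249
 39)<|c)<|a (a (b 836481 0)<|a (b 7493 1)<|a (b 911248 2)<|c)<|a (a (b 1 40)<|c)<|c))<|
 d (b 933120<|b 3814<|b c (a (a (b 84277 0)<|a (b 28896 1)<|a (b 677551 2)<|a (b 780341 3)<|a (b 174192 4)<|a (b 22368 5)<|a (b 929920 6)<|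
 a (b 44576 7)<|a (b 1 9)<|c)<|a c<|a c<|a c<|a c<|a c<|a c<|c))<|
 d (b 1125000<|b 3584<|b c (a (a (b 267576 0)<|a (b 1102372 1)<|a (b 745714 2)<|a (b 1086504 3)<|a (b 215328 4)<|a (b 904576 5)<|a (b 1106147
 6)<|a (b 649868 7)<|a (b 11264 8)<|c)<|a c<|a c<|a c<|a c<|a c<|a c<|a c<|a c<|c))<|
 e);
 (d (b 337500<|b 5353<|b c (a (a (b 7373 0)<|a (b 209368 1)<|a (b 199818 2)<|a (b 195001 3)<|a (b 120030 4)<|a (b 215132 5)<|a (b 68462 6)<|a (b 4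
 7)<|c)<|a c<|a c<|a c<|a c<|a c<|a c<|c))<|
 d (b 388800<|b 5107<|b (a 388800<|c) (a c<|a (a (b 223979 0)<|a (b 318765 1)<|a (b 256959 2)<|a (b 274893 3)<|a (b 209015 4)<|a (b 322037 5)<|
 a (b 388342 6)<|c)<|a (a (b 47241 0)<|a (b 235409 1)<|a (b 58856 2)<|a (b 95693 3)<|a (b 254967 4)<|a (b 210492 5)<|a (b 365572 6)<|a (b 1 7)<|c)<|
 a (a (b 377304 0)<|a (b 135523 1)<|a (b 304940 2)<|a (b 175667 3)<|a (b 16457 4)<|c)<|a (a (b 196379 0)<|a (b 260489 1)<|a (b 115271 2)<|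
 a (b 388274 3)<|c)<|a (a (b 357031 0)<|a (b 3193 1)<|a (b 388798 2)<|c)<|a (a (b 1 39)<|c)<|c))<|
 d (b 421875<|b 4970<|b c (a (a (b 290803 0)<|a (b 66229 1)<|a (b 417631 2)<|a (b 77880 3)<|c)<|a c<|a c<|a c<|c))<|
 d (b 455625<|b 4844<|b (a 455625<|c) (a c<|a (a (b 224272 0)<|a (b 251098 1)<|a (b 451747 2)<|a (b 165874 3)<|c)<|a (a (b 418356 0)<|a (b 3743 1)<|
 a (b 455623 2)<|c)<|a (a (b 1 39)<|c)<|c))<|
 d (b 466560<|b 4806<|b c (a (a (b 413827 0)<|a (b 259056 1)<|a (b 192871 2)<|a (b 345251 3)<|a (b 222432 4)<|a (b 312368 5)<|a (b 377440 6)<|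
 a (b 406736 7)<|a (b 1 9)<|c)<|a c<|a c<|a c<|a c<|a c<|a c<|c))<|
 d (b 518400<|b 4640<|b c (a (a (b 59762 0)<|a (b 486332 1)<|a (b 24067 2)<|a (b 483314 3)<|a (b 88192 4)<|a (b 125228 5)<|a (b 146936 6)<|
 a (b 419704 7)<|a (b 1 9)<|c)<|a c<|a c<|a c<|a c<|a c<|a c<|c))<|
 e)));
 (let e:=(let e:=(d (b 180000<|b 6601<|b (a 180000<|c) (a c<|a (a (b 129371 0)<|a (b 13545 1)<|a (b 30399 2)<|a (b 32381 3)<|a (b 134455 4)<|a (b 170225 5)<|a (b 11578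
 6)<|c)<|a (a (b 160991 0)<|a (b 39509 1)<|a (b 151076 2)<|a (b 16203 3)<|a (b 46467 4)<|a (b 21072 5)<|a (b 177872 6)<|a (b 1 7)<|c)<|a (a (b 8586
 0)<|a (b 76707 1)<|a (b 57222 2)<|a (b 9753 3)<|a (b 176351 4)<|c)<|a (a (b 127832 0)<|a (b 3775 1)<|a (b 147525 2)<|a (b 593 3)<|c)<|a (a (b 73069
 0)<|a (b 172627 1)<|a (b 10 2)<|c)<|a (a (b 1 39)<|c)<|c))<|
 d (b 202500<|b 6347<|b (a 2<|a 50625<|a 202500<|c) (a c<|a (a (b 181276 0)<|a (b 94605 1)<|a (b 178272 2)<|a (b 65820 3)<|a (b 112000 4)<|a (b 80317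
 5)<|a (b 145013 6)<|a (b 1 39)<|c)<|a (a (b 92992 0)<|a (b 80609 1)<|a (b 18164 2)<|a (b 90896 3)<|a (b 21907 4)<|a (b 123288 5)<|a (b 1 7)<|c)<|
 a (a (b 115380 0)<|a (b 118035 1)<|a (b 112941 2)<|a (b 143565 3)<|a (b 185324 4)<|c)<|a (a (b 4 0)<|a (b 202499 40)<|c)<|a (a (b 8260 0)<|a (b 201670
 1)<|a (b 1 2)<|c)<|a (a (b 1 41)<|c)<|c))<|
 d (b 218700<|b 6186<|b c (a (a (b 177014 0)<|a (b 133406 1)<|a (b 186706 2)<|a (b 164504 3)<|a (b 102967 4)<|a (b 2486 5)<|a (b 216911 6)<|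
 a (b 16216 7)<|a (b 1 9)<|c)<|a c<|a c<|a c<|a c<|a c<|a c<|c))<|
 d (b 253125<|b 5892<|b c (a (a (b 87678 0)<|a (b 34979 1)<|a (b 248881 2)<|a (b 46630 3)<|c)<|a c<|a c<|a c<|c))<|
 d (b 281250<|b 5689<|b c (a (a (b 69813 0)<|a (b 24201 1)<|a (b 121977 2)<|a (b 160011 3)<|a (b 98121 4)<|a (b 280811 5)<|c)<|a c<|a c<|a c<|a c<|
 a c<|c))<|
 d (b 291600<|b 5621<|b (a 18225<|a 291600<|c) (a c<|a (a (b 136541 0)<|a (b 156345 1)<|a (b 78099 2)<|a (b 41511 3)<|a (b 144755 4)<|a (b 152305 5)<|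
 a (b 288238 6)<|c)<|a (a (b 199147 0)<|a (b 171389 1)<|a (b 20948 2)<|a (b 207143 3)<|a (b 170467 4)<|a (b 164584 5)<|a (b 1 7)<|c)<|a (a (b 34761
 0)<|a (b 252107 1)<|a (b 141172 2)<|a (b 254428 3)<|a (b 242501 4)<|c)<|a (a (b 16 0)<|a (b 291599 39)<|c)<|a (a (b 267831 0)<|a (b 2393 1)<|
 a (b 291598 2)<|c)<|a (a (b 1 40)<|c)<|c))<|
 e);
 (d (b 103680<|b 7934<|b c (a (a (b 100251 0)<|a (b 19336 1)<|a (b 79591 2)<|a (b 10907 3)<|a (b 86672 4)<|a (b 56424 5)<|a (b 53472 6)<|a (b 52656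
 7)<|a (b 1 9)<|c)<|a c<|a c<|a c<|a c<|a c<|a c<|c))<|
 d (b 116640<|b 7628<|b (a 116640<|c) (a c<|a (a (b 59984 0)<|a (b 82755 1)<|a (b 89859 2)<|a (b 85338 3)<|a (b 20555 4)<|a (b 44547 5)<|a (b 114802
 6)<|c)<|a (a (b 83939 0)<|a (b 103649 1)<|a (b 31004 2)<|a (b 28319 3)<|a (b 105707 4)<|a (b 71196 5)<|a (b 95276 6)<|a (b 1 7)<|c)<|a (a (b 94182
 0)<|a (b 12259 1)<|a (b 27578 2)<|a (b 73661 3)<|a (b 3083 4)<|c)<|a (a (b 61634 0)<|a (b 101599 1)<|a (b 97821 2)<|a (b 115659 3)<|c)<|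
 a (a (b 107271 0)<|a (b 953 1)<|a (b 116638 2)<|c)<|a (a (b 1 39)<|c)<|c))<|
 d (b 135000<|b 7265<|b (a 16875<|a 135000<|c) (a c<|a (a (b 93239 0)<|a (b 63540 1)<|a (b 25959 2)<|a (b 88833 3)<|a (b 30215 4)<|a (b 33252 5)<|
 a (b 134647 6)<|c)<|a (a (b 63022 0)<|a (b 41789 1)<|a (b 122828 2)<|a (b 29858 3)<|a (b 11767 4)<|a (b 102904 5)<|a (b 1 7)<|c)<|a (a (b 79389 0)<|
 a (b 31443 1)<|a (b 113250 2)<|a (b 52572 3)<|a (b 122327 4)<|c)<|a (a (b 8 0)<|a (b 134999 39)<|c)<|a (a (b 129574 0)<|a (b 552 1)<|a (b 134999 2)<|c)<|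
 a (a (b 1 40)<|c)<|c))<|
 d (b 139968<|b 7178<|b c (a (a (b 28540 0)<|a (b 4286 1)<|a (b 46234 2)<|a (b 6184 3)<|a (b 3716 4)<|a (b 116538 5)<|a (b 139955 6)<|c)<|a c<|a c<|
 a c<|a c<|a c<|c))<|
 d (b 155520<|b 6931<|b c (a (a (b 38860 0)<|a (b 64836 1)<|a (b 154891 2)<|a (b 48908 3)<|a (b 114432 4)<|a (b 3860 5)<|a (b 19384 6)<|a (b 6056
 7)<|a (b 1 9)<|c)<|a c<|a c<|a c<|a c<|a c<|a c<|c))<|
 d (b 174960<|b 6664<|b (a 2187<|c) (a (a (b 52875 0)<|a (b 122320 1)<|a (b 21680 2)<|a (b 116675 3)<|a (b 107220 4)<|a (b 38080 5)<|a (b 116680 7)<|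
 a (b 1 39)<|c)<|a c<|a c<|a c<|a c<|a c<|a c<|c))<|
 e));
 (let e:=(d (b 58320<|b 9611<|b (a 3645<|a 58320<|c) (a c<|a (a (b 42149 0)<|a (b 54150 1)<|a (b 11409 2)<|a (b 2523 3)<|a (b 38645 4)<|a (b 16702 5)<|a (b 877
 6)<|c)<|a (a (b 2002 0)<|a (b 50234 1)<|a (b 14897 2)<|a (b 55940 3)<|a (b 21592 4)<|a (b 19725 5)<|a (b 1 7)<|c)<|a (a (b 1437 0)<|a (b 52219 1)<|
 a (b 28928 2)<|a (b 53816 3)<|a (b 48713 4)<|c)<|a (a (b 16 0)<|a (b 58319 39)<|c)<|a (a (b 53751 0)<|a (b 473 1)<|a (b 58318 2)<|c)<|a (a (b 1 40)<|c)<|c))<|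
 d (b 60750<|b 9481<|b (a 30375<|a 60750<|c) (a c<|a (a (b 1429 0)<|a (b 9477 1)<|a (b 45703 2)<|a (b 15175 3)<|a (b 48310 4)<|a (b 3150 5)<|a (b 1389
 6)<|a (b 1 7)<|c)<|a (a (b 24933 0)<|a (b 45521 1)<|a (b 12094 2)<|a (b 28384 3)<|a (b 59675 4)<|c)<|a (a (b 2 0)<|a (b 60749 39)<|c)<|a (a (b 55981 0)<|
 a (b 493 1)<|a (b 60748 2)<|c)<|a (a (b 1 40)<|c)<|c))<|
 d (b 62208<|b 9406<|b c (a (a (b 39585 0)<|a (b 9128 1)<|a (b 33593 2)<|a (b 17905 3)<|a (b 47872 4)<|a (b 30728 5)<|a (b 62207 9)<|c)<|a c<|a c<|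
 a c<|a c<|a c<|c))<|
 d (b 64800<|b 9279<|b (a 64800<|c) (a c<|a (a (b 17555 0)<|a (b 27255 1)<|a (b 22779 2)<|a (b 45357 3)<|a (b 27035 4)<|a (b 25151 5)<|a (b 61300 6)<|c)<|
 a (a (b 56270 0)<|a (b 43529 1)<|a (b 53414 2)<|a (b 45158 3)<|a (b 8117 4)<|a (b 30540 5)<|a (b 64724 6)<|a (b 1 7)<|c)<|a (a (b 25779 0)<|
 a (b 42923 1)<|a (b 15340 2)<|a (b 5542 3)<|a (b 63557 4)<|c)<|a (a (b 45125 0)<|a (b 41 1)<|a (b 59999 2)<|a (b 332 3)<|c)<|a (a (b 10289 0)<|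
 a (b 63747 1)<|a (b 4 2)<|c)<|a (a (b 1 39)<|c)<|c))<|
 d (b 80000<|b 8650<|b c (a (a (b 27335 0)<|a (b 2913 1)<|a (b 66958 2)<|a (b 469 3)<|a (b 79999 4)<|c)<|a c<|a c<|a c<|c))<|
 d (b 93312<|b 8217<|b (a 128<|c) (a (a (b 64881 0)<|a (b 6561 1)<|a (b 87480 2)<|a (b 1458 3)<|a (b 25515 4)<|a (b 93311 39)<|c)<|a c<|a c<|a c<|a c<|
 a c<|c))<|
 e);
 (d (b 32000<|b 11739<|b c (a (a (b 28422 0)<|a (b 30321 1)<|a (b 16314 2)<|a (b 21148 3)<|a (b 31999 4)<|c)<|a c<|a c<|a c<|c))<|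
 d (b 33750<|b 11533<|b (a 16875<|a 33750<|c) (a c<|a (a (b 19191 0)<|a (b 563 1)<|a (b 32499 2)<|a (b 22511 3)<|a (b 4370 4)<|a (b 16758 5)<|a (b 1976
 6)<|a (b 33749 7)<|c)<|a (a (b 2322 0)<|a (b 15239 1)<|a (b 1783 2)<|a (b 31631 3)<|a (b 888 4)<|c)<|a (a (b 2 0)<|a (b 33749 39)<|c)<|a (a (b 2603 0)<|
 a (b 33479 1)<|a (b 2 2)<|c)<|a (a (b 1 40)<|c)<|c))<|
 d (b 43200<|b 10622<|b (a 43200<|c) (a c<|a (a (b 8282 0)<|a (b 9285 1)<|a (b 29319 2)<|a (b 18060 3)<|a (b 21575 4)<|a (b 37429 5)<|a (b 32116 6)<|c)<|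
 a (a (b 7705 0)<|a (b 3869 1)<|a (b 14876 2)<|a (b 8309 3)<|a (b 7147 4)<|a (b 27848 5)<|a (b 28884 6)<|a (b 1 7)<|c)<|a (a (b 16416 0)<|a (b 5667
 1)<|a (b 1452 2)<|a (b 26043 3)<|a (b 6761 4)<|c)<|a (a (b 18098 0)<|a (b 25017 1)<|a (b 19963 2)<|a (b 41361 3)<|c)<|a (a (b 12087 0)<|a (b 37458
 1)<|a (b 33 2)<|a (b 43199 3)<|c)<|a (a (b 1 39)<|c)<|c))<|
 d (b 43740<|b 10578<|b c (a (a (b 19667 0)<|a (b 41156 1)<|a (b 23611 2)<|a (b 31631 3)<|a (b 7852 4)<|a (b 23808 5)<|a (b 2300 6)<|a (b 2116 7)<|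
 a (b 1 9)<|c)<|a c<|a c<|a c<|a c<|a c<|a c<|c))<|
 d (b 46656<|b 10353<|b (a 46656<|c) (a c<|a (a (b 36831 0)<|a (b 31841 1)<|a (b 7099 2)<|a (b 27337 3)<|a (b 14479 4)<|a (b 46321 5)<|c)<|a (a (b 24750 0)<|
 a (b 44361 1)<|a (b 39348 2)<|a (b 9759 3)<|a (b 44179 4)<|c)<|a (a (b 22382 0)<|a (b 7025 1)<|a (b 25331 2)<|a (b 46325 3)<|c)<|a (a (b 43047 0)<|
 a (b 377 1)<|a (b 46654 2)<|c)<|a (a (b 1 39)<|c)<|c))<|
 d (b 51840<|b 9996<|b c (a (a (b 32512 0)<|a (b 1524 1)<|a (b 25819 2)<|a (b 36800 3)<|a (b 22272 4)<|a (b 27268 5)<|a (b 29368 6)<|a (b 1160 7)<|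
 a (b 1 9)<|c)<|a c<|a c<|a c<|a c<|a c<|a c<|c))<|
 e))));
 (let e:=(let e:=(let e:=(d (b 19200<|b 13919<|b c (a (a (b 5168 0)<|a (b 1956 1)<|a (b 14251 2)<|a (b 2480 3)<|a (b 4672 4)<|a (b 17492 5)<|a (b 2208 6)<|a (b 4136 7)<|a (b 1
 9)<|c)<|a c<|a c<|a c<|a c<|a c<|a c<|c))<|
 d (b 19440<|b 13861<|b (a 1215<|a 19440<|c) (a c<|a (a (b 1997 0)<|a (b 2475 1)<|a (b 14619 2)<|a (b 2295 3)<|a (b 2195 4)<|a (b 17379 5)<|a (b 16 6)<|c)<|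
 a (a (b 14692 0)<|a (b 8429 1)<|a (b 1406 2)<|a (b 11372 3)<|a (b 37 4)<|a (b 11376 5)<|a (b 1 7)<|c)<|a (a (b 6129 0)<|a (b 363 1)<|a (b 17700 2)<|
 a (b 3252 3)<|a (b 3317 4)<|c)<|a (a (b 16 0)<|a (b 19439 39)<|c)<|a (a (b 18071 0)<|a (b 153 1)<|a (b 19438 2)<|c)<|a (a (b 1 40)<|c)<|c))<|
 d (b 20000<|b 13730<|b (a 20000<|c) (a c<|a (a (b 7404 0)<|a (b 18435 1)<|a (b 3811 2)<|a (b 68 3)<|c)<|a (a (b 11983 0)<|a (b 1849 1)<|a (b 19996 2)<|c)<|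
 a (a (b 1 39)<|c)<|c))<|
 d (b 24300<|b 12867<|b (a 2<|a 6075<|a 24300<|c) (a c<|a (a (b 6256 0)<|a (b 14880 1)<|a (b 7572 2)<|a (b 16440 3)<|a (b 14800 4)<|a (b 6512 5)<|
 a (b 14528 6)<|a (b 1 39)<|c)<|a (a (b 16717 0)<|a (b 18284 1)<|a (b 17309 2)<|a (b 3731 3)<|a (b 7732 4)<|a (b 23643 5)<|a (b 1 7)<|c)<|a (a (b 9504
 0)<|a (b 16578 1)<|a (b 891 2)<|a (b 19725 3)<|a (b 14732 4)<|a (b 24299 5)<|c)<|a (a (b 4 0)<|a (b 24299 40)<|c)<|a (a (b 22531 0)<|a (b 193 1)<|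
 a (b 24298 2)<|c)<|a (a (b 1 41)<|c)<|c))<|
 d (b 28125<|b 12256<|b c (a (a (b 13034 0)<|a (b 8062 1)<|a (b 15393 2)<|a (b 14890 3)<|c)<|a c<|a c<|a c<|c))<|
 d (b 30000<|b 11995<|b (a 1875<|a 30000<|c) (a c<|a (a (b 25584 0)<|a (b 25215 1)<|a (b 5859 2)<|a (b 10538 3)<|a (b 28115 4)<|a (b 4207 5)<|a (b 282
 6)<|c)<|a (a (b 24535 0)<|a (b 19829 1)<|a (b 10604 2)<|a (b 2563 3)<|a (b 12867 4)<|a (b 18960 5)<|a (b 28044 6)<|a (b 1 7)<|c)<|a (a (b 25476 0)<|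
 a (b 12387 1)<|a (b 2112 2)<|a (b 21223 3)<|a (b 6981 4)<|c)<|a (a (b 16 0)<|a (b 29999 39)<|c)<|a (a (b 28870 0)<|a (b 120 1)<|a (b 29999 2)<|c)<|a (a (b 1
 40)<|c)<|c))<|
 d (b 30375<|b 11945<|b (a 30375<|c) (a c<|a (a (b 6481 0)<|a (b 15685 1)<|a (b 22240 2)<|a (b 27139 3)<|c)<|a (a (b 28106 0)<|a (b 243 1)<|a (b 30373 2)<|c)<|
 a (a (b 1 39)<|c)<|c))<|
 e);
 (d (b 10935<|b 16791<|b c (a (a (b 7968 0)<|a (b 1064 1)<|a (b 6691 2)<|a (b 1780 3)<|c)<|a c<|a c<|a c<|c))<|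
 d (b 12960<|b 15867<|b (a 12960<|c) (a c<|a (a (b 1037 0)<|a (b 12075 1)<|a (b 5019 2)<|a (b 6375 3)<|a (b 6875 4)<|a (b 7939 5)<|a (b 12316 6)<|c)<|
 a (a (b 9798 0)<|a (b 5069 1)<|a (b 9926 2)<|a (b 6686 3)<|a (b 10917 4)<|a (b 2320 5)<|a (b 11848 6)<|a (b 1 7)<|c)<|a (a (b 12771 0)<|a (b 1947 1)<|
 a (b 6342 2)<|a (b 6618 3)<|a (b 3731 4)<|c)<|a (a (b 5681 0)<|a (b 9433 1)<|a (b 1887 2)<|a (b 12840 3)<|c)<|a (a (b 460 0)<|a (b 12910 1)<|a (b 1 2)<|c)<|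
 a (a (b 1 39)<|c)<|c))<|
 d (b 14400<|b 15319<|b (a 14400<|c) (a c<|a (a (b 4730 0)<|a (b 5205 1)<|a (b 3879 2)<|a (b 13932 3)<|a (b 5735 4)<|a (b 12101 5)<|a (b 100 6)<|c)<|
 a (a (b 11266 0)<|a (b 5309 1)<|a (b 1076 2)<|a (b 9678 3)<|a (b 9467 4)<|a (b 12672 5)<|a (b 13422 6)<|a (b 1 7)<|c)<|a (a (b 10647 0)<|a (b 3339
 1)<|a (b 13608 2)<|a (b 8706 3)<|a (b 713 4)<|c)<|a (a (b 10388 0)<|a (b 9997 1)<|a (b 783 2)<|a (b 14031 3)<|c)<|a (a (b 5412 0)<|a (b 13786 1)<|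
 a (b 11 2)<|c)<|a (a (b 1 39)<|c)<|c))<|
 d (b 14580<|b 15256<|b (a 2<|a 3645<|a 14580<|c) (a c<|a (a (b 5962 0)<|a (b 1620 1)<|a (b 4497 2)<|a (b 14184 3)<|a (b 11695 4)<|a (b 4476 5)<|a (b 12176
 6)<|a (b 1 39)<|c)<|a (a (b 3746 0)<|a (b 12779 1)<|a (b 4208 2)<|a (b 974 3)<|a (b 6437 4)<|a (b 12290 5)<|a (b 12497 6)<|a (b 1 7)<|c)<|a (a (b 6489
 0)<|a (b 13203 1)<|a (b 14490 2)<|a (b 8232 3)<|a (b 13847 4)<|c)<|a (a (b 4 0)<|a (b 14579 40)<|c)<|a (a (b 13611 0)<|a (b 113 1)<|a (b 14578 2)<|c)<|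
 a (a (b 1 41)<|c)<|c))<|
 d (b 16000<|b 14791<|b c (a (a (b 1878 0)<|a (b 9425 1)<|a (b 14042 2)<|a (b 11500 3)<|a (b 15999 4)<|c)<|a c<|a c<|a c<|c))<|
 d (b 16875<|b 14530<|b (a 16875<|c) (a c<|a (a (b 10295 0)<|a (b 9162 1)<|a (b 13318 2)<|a (b 15579 3)<|c)<|a (a (b 16843 0)<|a (b 11 1)<|a (b 16874 3)<|c)<|
 a (a (b 1 39)<|c)<|c))<|
 e));
 (let e:=(d (b 5760<|b 20791<|b c (a (a (b 2691 0)<|a (b 882 1)<|a (b 774 2)<|a (b 5487 3)<|a (b 3762 4)<|a (b 5642 5)<|c)<|a c<|a c<|a c<|a c<|a c<|c))<|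
 d (b 7200<|b 19301<|b (a 7200<|c) (a c<|a (a (b 5900 0)<|a (b 3105 1)<|a (b 879 2)<|a (b 1262 3)<|a (b 7135 4)<|a (b 6881 5)<|a (b 7060 6)<|c)<|a (a (b 4880
 0)<|a (b 1829 1)<|a (b 284 2)<|a (b 6508 3)<|a (b 4867 4)<|a (b 3960 5)<|a (b 7154 6)<|a (b 1 7)<|c)<|a (a (b 2511 0)<|a (b 2907 1)<|a (b 522 2)<|
 a (b 2478 3)<|a (b 2351 4)<|c)<|a (a (b 2075 0)<|a (b 2641 1)<|a (b 1599 2)<|a (b 7082 3)<|c)<|a (a (b 5066 0)<|a (b 288 1)<|a (b 7189 2)<|c)<|a (a (b 1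
 39)<|c)<|c))<|
 d (b 8000<|b 18635<|b (a 8000<|c) (a c<|a (a (b 29 0)<|a (b 2435 1)<|a (b 6311 2)<|a (b 7693 3)<|c)<|a (a (b 3983 0)<|a (b 5069 1)<|a (b 16 2)<|c)<|a (a (b 1
 39)<|c)<|c))<|
 d (b 8100<|b 18558<|b (a 2<|a 2025<|a 8100<|c) (a c<|a (a (b 4060 0)<|a (b 7140 1)<|a (b 5052 2)<|a (b 1896 3)<|a (b 5530 4)<|a (b 3368 5)<|a (b 1685 6)<|
 a (b 1 39)<|c)<|a (a (b 6637 0)<|a (b 3629 1)<|a (b 7025 2)<|a (b 1259 3)<|a (b 4822 4)<|a (b 4072 5)<|a (b 1 7)<|c)<|a (a (b 2490 0)<|a (b 1555 1)<|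
 a (b 4001 2)<|a (b 4295 3)<|a (b 44 4)<|c)<|a (a (b 4 0)<|a (b 8099 40)<|c)<|a (a (b 260 0)<|a (b 8070 1)<|a (b 1 2)<|c)<|a (a (b 1 41)<|c)<|c))<|
 d (b 8748<|b 18088<|b c (a (a (b 178 0)<|a (b 8510 1)<|a (b 5182 2)<|a (b 4030 3)<|a (b 1052 4)<|a (b 7190 5)<|a (b 8747 6)<|c)<|a c<|a c<|a c<|a c<|
 a c<|c))<|
 d (b 9000<|b 17917<|b (a 1125<|a 9000<|c) (a c<|a (a (b 8303 0)<|a (b 5925 1)<|a (b 339 2)<|a (b 1129 3)<|a (b 195 4)<|a (b 1773 5)<|a (b 34 6)<|c)<|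
 a (a (b 6623 0)<|a (b 2420 1)<|a (b 1457 2)<|a (b 6309 3)<|a (b 4422 4)<|a (b 3875 5)<|a (b 1469 6)<|a (b 8989 7)<|c)<|a (a (b 3267 0)<|a (b 6579 1)<|
 a (b 5103 2)<|a (b 7116 3)<|a (b 8078 4)<|c)<|a (a (b 8 0)<|a (b 8999 39)<|c)<|a (a (b 1354 0)<|a (b 8832 1)<|a (b 5 2)<|c)<|a (a (b 1 40)<|c)<|c))<|
 e);
 (d (b 2500<|b 27460<|b (a 2500<|c) (a c<|a (a (b 1851 0)<|a (b 2486 1)<|a (b 765 2)<|c)<|a (a (b 1 39)<|c)<|c))<|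
 d (b 2700<|b 26765<|b (a 675<|a 2700<|c) (a c<|a (a (b 939 0)<|a (b 2113 1)<|a (b 319 2)<|a (b 1353 3)<|a (b 2210 4)<|a (b 1650 5)<|a (b 1790 6)<|a (b 2699
 7)<|c)<|a (a (b 282 0)<|a (b 2459 1)<|a (b 2443 2)<|a (b 811 3)<|a (b 758 4)<|c)<|a (a (b 4 0)<|a (b 2699 39)<|c)<|a (a (b 417 0)<|a (b 2460 1)<|a (b 30 2)<|
 a (b 1 5)<|c)<|a (a (b 1 40)<|c)<|c))<|
 d (b 3200<|b 25291<|b c (a (a (b 204 0)<|a (b 3195 1)<|a (b 351 2)<|c)<|a c<|a c<|c))<|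
 d (b 3240<|b 25187<|b (a 405<|a 3240<|c) (a c<|a (a (b 2997 0)<|a (b 2695 1)<|a (b 1273 2)<|a (b 2083 3)<|a (b 2592 4)<|a (b 2980 5)<|a (b 26 6)<|a (b 3239
 7)<|c)<|a (a (b 126 0)<|a (b 267 1)<|a (b 2847 2)<|a (b 423 3)<|a (b 3146 4)<|c)<|a (a (b 8 0)<|a (b 3239 39)<|c)<|a (a (b 60 0)<|a (b 3230 1)<|a (b 1 2)<|c)<|
 a (a (b 1 40)<|c)<|c))<|
 d (b 4320<|b 22884<|b c (a (a (b 888 0)<|a (b 787 1)<|a (b 3959 2)<|a (b 1910 3)<|a (b 3177 4)<|a (b 635 5)<|a (b 4311 6)<|c)<|a c<|a c<|a c<|a c<|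
 a c<|c))<|
 d (b 4500<|b 22574<|b (a 1125<|a 4500<|c) (a c<|a (a (b 261 0)<|a (b 3594 1)<|a (b 1691 2)<|a (b 1995 3)<|a (b 2806 4)<|a (b 1967 5)<|a (b 107 6)<|
 a (b 4499 7)<|c)<|a (a (b 969 0)<|a (b 903 1)<|a (b 2955 2)<|a (b 1162 3)<|a (b 4062 4)<|c)<|a (a (b 4 0)<|a (b 4499 39)<|c)<|a (a (b 1098 0)<|a (b 4304 1)<|
 a (b 13 2)<|c)<|a (a (b 1 40)<|c)<|c))<|
 e)));
 (let e:=(let e:=(d (b 1215<|b 34927<|b (a 1215<|c) (a c<|a (a (b 782 0)<|a (b 1197 1)<|a (b 12 2)<|a (b 1078 6)<|a (b 1 8)<|c)<|a (a (b 131 0)<|a (b 3 1)<|a (b 1213 2)<|c)<|a (a (b 1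
 39)<|c)<|c))<|
 d (b 1296<|b 34184<|b (a 81<|a 1296<|c) (a c<|a (a (b 1023 0)<|a (b 1051 1)<|a (b 1076 2)<|a (b 770 3)<|a (b 13 4)<|c)<|a (a (b 16 0)<|a (b 1295 39)<|c)<|
 a (a (b 1276 0)<|a (b 1294 1)<|a (b 1 2)<|c)<|a (a (b 1 40)<|c)<|c))<|
 d (b 1728<|b 31058<|b c (a (a (b 723 0)<|a (b 901 1)<|a (b 539 2)<|a (b 1425 3)<|a (b 1483 4)<|a (b 1 5)<|c)<|a c<|a c<|a c<|a c<|c))<|
 d (b 2250<|b 28442<|b (a 1125<|a 2250<|c) (a c<|a (a (b 1588 0)<|a (b 355 1)<|a (b 609 2)<|a (b 2188 3)<|a (b 2048 4)<|a (b 1188 5)<|a (b 2124 6)<|a (b 1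
 7)<|c)<|a (a (b 714 0)<|a (b 2093 1)<|a (b 325 2)<|a (b 1297 3)<|a (b 2102 4)<|c)<|a (a (b 2 0)<|a (b 2249 39)<|c)<|a (a (b 2162 0)<|a (b 2186 1)<|a (b 11
 2)<|c)<|a (a (b 1 40)<|c)<|c))<|
 d (b 2400<|b 27837<|b c (a (a (b 682 0)<|a (b 803 1)<|a (b 1801 2)<|a (b 1580 3)<|a (b 503 4)<|a (b 1355 5)<|a (b 2399 6)<|c)<|a c<|a c<|a c<|a c<|
 a c<|c))<|
 d (b 2430<|b 27722<|b (a 1215<|a 2430<|c) (a c<|a (a (b 1051 0)<|a (b 1015 1)<|a (b 2139 2)<|a (b 705 3)<|a (b 2098 4)<|a (b 378 6)<|a (b 1 7)<|c)<|a (a (b 546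
 0)<|a (b 217 1)<|a (b 1307 2)<|a (b 1463 3)<|a (b 1706 4)<|c)<|a (a (b 2 0)<|a (b 2429 39)<|c)<|a (a (b 31 0)<|a (b 13 1)<|a (b 2428 2)<|c)<|a (a (b 1 40)<|c)<|c))<|
 e);
 (d (b 486<|b 47403<|b (a 243<|a 486<|c) (a c<|a (a (b 351 0)<|a (b 195 1)<|a (b 48 2)<|a (b 114 3)<|a (b 115 4)<|c)<|a (a (b 2 0)<|a (b 485 39)<|c)<|a (a (b 67 0)<|
 a (b 485 20)<|c)<|a (a (b 1 40)<|c)<|c))<|
 d (b 625<|b 43590<|b (a 625<|c) (a c<|a (a (b 1 39)<|c)<|c))<|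
 d (b 750<|b 41020<|b (a 375<|a 750<|c) (a c<|a (a (b 475 0)<|a (b 15 1)<|a (b 709 2)<|a (b 651 3)<|a (b 618 4)<|a (b 576 5)<|a (b 1 7)<|c)<|a (a (b 39 0)<|a (b 493
 1)<|a (b 275 2)<|a (b 272 3)<|a (b 2 4)<|c)<|a (a (b 2 0)<|a (b 749 39)<|c)<|a (a (b 440 0)<|a (b 30 1)<|a (b 739 2)<|c)<|a (a (b 1 40)<|c)<|c))<|
 d (b 768<|b 40697<|b c (a (a (b 705 0)<|a (b 64 1)<|a (b 512 2)<|a (b 17 3)<|a (b 620 4)<|c)<|a c<|a c<|a c<|a c<|c))<|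
 d (b 1125<|b 35834<|b (a 1125<|c) (a c<|a (a (b 51 0)<|a (b 2 1)<|a (b 952 2)<|a (b 378 3)<|a (b 1 4)<|c)<|a (a (b 616 0)<|a (b 13 1)<|a (b 1114 2)<|c)<|a (a (b 1
 39)<|c)<|c))<|
 d (b 1152<|b 35552<|b c (a (a (b 1029 0)<|a (b 576 1)<|a (b 912 2)<|a (b 53 3)<|a (b 332 4)<|c)<|a c<|a c<|a c<|a c<|c))<|
 e));
 (let e:=(d (b 192<|b 64602<|b c (a (a (b 56 0)<|a (b 180 1)<|a (b 24 2)<|a (b 118 4)<|a (b 1 6)<|c)<|a c<|a c<|a c<|a c<|c))<|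
 d (b 216<|b 62115<|b (a 27<|a 216<|c) (a c<|a (a (b 81 0)<|a (b 11 1)<|a (b 145 2)<|a (b 158 3)<|a (b 188 4)<|c)<|a (a (b 8 0)<|a (b 215 39)<|c)<|a (a (b 94 0)<|
 a (b 215 2)<|c)<|a (a (b 1 40)<|c)<|c))<|
 d (b 225<|b 61276<|b (a 225<|c) (a c<|a (a (b 119 0)<|a (b 119 1)<|a (b 191 2)<|a (b 169 3)<|c)<|a (a (b 46 0)<|a (b 3 1)<|a (b 224 2)<|c)<|a (a (b 1 39)<|c)<|c))<|
 d (b 300<|b 55673<|b (a 75<|a 300<|c) (a c<|a (a (b 163 0)<|a (b 99 1)<|a (b 70 2)<|a (b 199 3)<|a (b 191 4)<|a (b 160 5)<|a (b 295 7)<|a (b 299 8)<|c)<|a (a (b 96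
 0)<|a (b 227 1)<|a (b 82 2)<|a (b 283 3)<|a (b 71 4)<|c)<|a (a (b 4 0)<|a (b 299 39)<|c)<|a (a (b 3 0)<|a (b 299 24)<|c)<|a (a (b 1 40)<|c)<|c))<|
 d (b 384<|b 51275<|b c (a (a (b 105 0)<|a (b 192 1)<|a (b 216 2)<|a (b 233 3)<|a (b 148 4)<|c)<|a c<|a c<|a c<|a c<|c))<|
 d (b 432<|b 49301<|b (a 27<|a 432<|c) (a c<|a (a (b 318 0)<|a (b 427 1)<|a (b 284 2)<|a (b 273 3)<|a (b 425 4)<|c)<|a (a (b 16 0)<|a (b 431 39)<|c)<|a (a (b 94 0)<|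
 a (b 431 2)<|c)<|a (a (b 1 40)<|c)<|c))<|
 e);
 (a (b 54<|b 98602<|b (a 27<|a 54<|c) (a c<|a (a (b 39 16)<|a (b 15 20)<|a (b 1 22)<|a (b 53 24)<|c)<|a (a (b 2 0)<|a (b 53 39)<|c)<|a (a (b 32 0)<|a (b 53 27)<|c)<|a (a (b 1
 40)<|c)<|c))<|
 a (b 96<|b 81394<|b c (a (a (b 60 0)<|a (b 72 1)<|a (b 18 3)<|a (b 6 4)<|a (b 95 13)<|c)<|a c<|a c<|a c<|a c<|c))<|
 a (b 108<|b 78260<|b (a 27<|a 108<|c) (a c<|a (a (b 81 0)<|a (b 92 1)<|a (b 100 2)<|a (b 8 3)<|a (b 23 4)<|a (b 1 5)<|c)<|a (a (b 4 0)<|a (b 107 39)<|c)<|a (a (b 27 0)<|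
 a (b 107 24)<|c)<|a (a (b 1 40)<|c)<|c))<|
 a (b 135<|b 72650<|b (a 135<|c) (a c<|a (a (b 75 0)<|a (b 27 1)<|a (b 108 2)<|a (b 124 3)<|c)<|a (a (b 132 0)<|a (b 134 37)<|c)<|a (a (b 1 39)<|c)<|c))<|
 a (b 144<|b 71104<|b (a 144<|c) (a c<|a (a (b 90 0)<|a (b 123 1)<|a (b 93 2)<|a (b 15 3)<|a (b 4 4)<|c)<|a (a (b 64 0)<|a (b 128 14)<|c)<|a (a (b 58 0)<|a (b 143
 14)<|c)<|a (a (b 1 39)<|c)<|c))<|
 a (b 180<|b 66007<|b (a 45<|a 180<|c) (a c<|a (a (b 80 0)<|a (b 92 1)<|a (b 4 2)<|a (b 60 3)<|a (b 1 4)<|a (b 173 5)<|a (b 7 6)<|a (b 3 7)<|c)<|a (a (b 3 0)<|a (b 91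
 1)<|a (b 134 2)<|a (b 54 3)<|a (b 135 4)<|c)<|a (a (b 4 0)<|a (b 179 39)<|c)<|a (a (b 80 0)<|a (b 178 2)<|a (b 179 4)<|c)<|a (a (b 1 40)<|c)<|c))<|
 e))))))

private noncomputable def _root_.Cfsg.Agent.KO4b55564.k0 : (by first | exact type_of% @Cfsg.Agent.TAB.Eng.frc | exact Unit : Sort _) := by first | (refine @Subtype.val _ (fun g => @Cfsg.Agent.TAB.Eng.frc = @g) (@Subtype.mk _ _ (@(fun x0 x1 x2 => @Nat.rec.{1} @(fun x3 => @x0) (@x2 (nat_lit 0)) @(fun x3 x4 => @x2 (@Nat.succ @x3)) @x1)) ?_); rfl') | exact @Cfsg.Agent.TAB.Eng.frc | exact ()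
private theorem _root_.Cfsg.Agent.KO4b55564.e0 : (by first | exact @Cfsg.Agent.TAB.Eng.frc = @_root_.Cfsg.Agent.KO4b55564.k0 | exact True : Prop) := by first | (delta _root_.Cfsg.Agent.KO4b55564.k0; exact @Subtype.property _ (fun g => @Cfsg.Agent.TAB.Eng.frc = @g) _) | rfl | trivial
private noncomputable def _root_.Cfsg.Agent.KO4b55564.k1 : (by first | exact type_of% @Cfsg.Agent.TAB.Eng.frcL | exact Unit : Sort _) := by first | (refine @Subtype.val _ (fun g => @Cfsg.Agent.TAB.Eng.frcL = @g) (@Subtype.mk _ _ (@(fun x0 x1 => @List.rec.{1, 0} ℕ @(fun x2 => ((@List.{0} ℕ) → @x0) → @x0) @(fun x2 => @x2 []) @(fun x2 x3 x4 x5 => @Cfsg.Agent.KO4b55564.k0 _ @x2 @(fun x6 => @x4 @(fun x7 => @x5 (@x6 :: @x7)))) @x1)) ?_); rewrite [← Cfsg.Agent.KO4b55564.e0]; (try delta Cfsg.Agent.TAB.Eng.frcL); (try generalize @Cfsg.Agent.TAB.Eng.frc = g0); rfl')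 | exact @Cfsg.Agent.TAB.Eng.frcL | exact ()
private theorem _root_.Cfsg.Agent.KO4b55564.e1 : (by first | exact @Cfsg.Agent.TAB.Eng.frcL = @_root_.Cfsg.Agent.KO4b55564.k1 | exact True : Prop) := by first | (delta _root_.Cfsg.Agent.KO4b55564.k1; exact @Subtype.property _ (fun g => @Cfsg.Agent.TAB.Eng.frcL = @g) _) | rfl | trivial
private noncomputable def _root_.Cfsg.Agent.KO4b55564.k2 : (by first | exact type_of% @Cfsg.Agent.N2.Sp1.frcV | exact Unit : Sort _) := by first | (refine @Subtype.val _ (fun g => @Cfsg.Agent.N2.Sp1.frcV = @g) (@Subtype.mk _ _ (@(fun x0 => @List.rec.{1, 0} (@List.{0} ℕ) @(fun x1 => ((@List.{0} (@List.{0} ℕ)) → @Bool) → @Bool) @(fun x1 => @x1 []) @(fun x1 x2 x3 x4 => @Cfsg.Agent.KO4b55564.k1 _ @x1 @(fun x5 => @x3 @(fun x6 => @x4 (@x5 :: @x6)))) @x0)) ?_); rewrite [← Cfsg.Agent.KO4b55564.e1]; (try delta Cfsg.Agent.N2.Sp1.frcV);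 (try generalize @Cfsg.Agent.TAB.Eng.frcL = g0); rfl') | exact @Cfsg.Agent.N2.Sp1.frcV | exact ()
private theorem _root_.Cfsg.Agent.KO4b55564.e2 : (by first | exact @Cfsg.Agent.N2.Sp1.frcV = @_root_.Cfsg.Agent.KO4b55564.k2 | exact True : Prop) := by first | (delta _root_.Cfsg.Agent.KO4b55564.k2; exact @Subtype.property _ (fun g => @Cfsg.Agent.N2.Sp1.frcV = @g) _) | rfl | trivial
private noncomputable def _root_.Cfsg.Agent.KO4b55564.k3 : (by first | exact type_of% @Cfsg.Agent.TAB.Eng.frcZ | exact Unit : Sort _) := by first | (refine @Subtype.val _ (fun g => @Cfsg.Agent.TAB.Eng.frcZ = @g) (@Subtype.mk _ _ (@(fun x0 x1 x2 => @Int.rec.{1} @(fun x3 => @x0) @(fun x3 => @Cfsg.Agent.KO4b55564.k0 _ @x3 @(fun x4 => @x2 (@Int.ofNat @x4))) @(fun x3 => @Cfsg.Agent.KO4b55564.k0 _ @x3 @(fun x4 => @x2 (@Int.negSucc @x4))) @x1)) ?_); rewrite [← Cfsg.Agent.KO4b55564.e0];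 (try delta Cfsg.Agent.TAB.Eng.frcZ); (try generalize @Cfsg.Agent.TAB.Eng.frc = g0); rfl') | exact @Cfsg.Agent.TAB.Eng.frcZ | exact ()
private theorem _root_.Cfsg.Agent.KO4b55564.e3 : (by first | exact @Cfsg.Agent.TAB.Eng.frcZ = @_root_.Cfsg.Agent.KO4b55564.k3 | exact True : Prop) := by first | (delta _root_.Cfsg.Agent.KO4b55564.k3; exact @Subtype.property _ (fun g => @Cfsg.Agent.TAB.Eng.frcZ = @g) _) | rfl | trivial
private noncomputable def _root_.Cfsg.Agent.KO4b55564.k4 : (by first | exact type_of% @Cfsg.Agent.TAB.Eng.frcLZ | exact Unit : Sort _) := by first | (refine @Subtype.val _ (fun g => @Cfsg.Agent.TAB.Eng.frcLZ = @g) (@Subtype.mk _ _ (@(fun x0 x1 => @List.rec.{1, 0} ℤ @(fun x2 => ((@List.{0} ℤ) → @x0) → @x0) @(fun x2 => @x2 []) @(fun x2 x3 x4 x5 => @Cfsg.Agent.KO4b55564.k3 _ @x2 @(fun x6 => @x4 @(fun x7 => @x5 (@x6 :: @x7))))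 @x1)) ?_); rewrite [← Cfsg.Agent.KO4b55564.e3]; (try delta Cfsg.Agent.TAB.Eng.frcLZ); (try generalize @Cfsg.Agent.TAB.Eng.frcZ = g0); rfl') | exact @Cfsg.Agent.TAB.Eng.frcLZ | exact ()
private theorem _root_.Cfsg.Agent.KO4b55564.e4 : (by first | exact @Cfsg.Agent.TAB.Eng.frcLZ = @_root_.Cfsg.Agent.KO4b55564.k4 | exact True : Prop) := by first | (delta _root_.Cfsg.Agent.KO4b55564.k4; exact @Subtype.property _ (fun g => @Cfsg.Agent.TAB.Eng.frcLZ = @g) _) | rfl | trivial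
private noncomputable def _root_.Cfsg.Agent.KO4b55564.k5 : (by first | exact type_of% @Cfsg.Agent.N2.Sp.frcW | exact Unit : Sort _) := by first | (refine @Subtype.val _ (fun g => @Cfsg.Agent.N2.Sp.frcW = @g) (@Subtype.mk _ _ (@(fun x0 => @List.rec.{1, 0} (@List.{0} ℤ) @(fun x1 => ((@List.{0} (@List.{0} ℤ)) → @Bool) → @Bool) @(fun x1 => @x1 []) @(fun x1 x2 x3 x4 => @Cfsg.Agent.KO4b55564.k4 _ @x1 @(fun x5 => @x3 @(fun x6 => @x4 (@x5 :: @x6)))) @x0)) ?_); rewrite [← Cfsg.Agent.KO4b55564.e4]; (try delta Cfsg.Agent.N2.Sp.frcW); (try generalize @Cfsg.Agent.TAB.Eng.frcLZ = g0); rfl') | exact @Cfsg.Agent.N2.Sp.frcW | exact ()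
private theorem _root_.Cfsg.Agent.KO4b55564.e5 : (by first | exact @Cfsg.Agent.N2.Sp.frcW = @_root_.Cfsg.Agent.KO4b55564.k5 | exact True : Prop) := by first | (delta _root_.Cfsg.Agent.KO4b55564.k5; exact @Subtype.property _ (fun g => @Cfsg.Agent.N2.Sp.frcW = @g) _) | rfl | trivial
private theorem _root_.Cfsg.Agent.KO4b55564.e6.{ku} {M : Nat → Sort ku} (φ : ∀ n, M n) {z : M Nat.zero} {s : ∀ n, M n → M (Nat.succ n)} (h0 : φ Nat.zero = z) (hs : ∀ n, φ (Nat.succ n) = s n (φ n)) (n : Nat) : φ n = @Nat.rec M z s n := Nat.rec h0 (fun n ih => (hs n).trans (congrArg (s n) ih)) n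
private noncomputable def _root_.Cfsg.Agent.KO4b55564.k8.{ku0} : type_of% @List.take.{ku0} := @(fun x0 x1 x2 => @Nat.rec.{(ku0+1)} @(fun x3 => (@List.{ku0} @x0) → @List.{ku0} @x0) @(fun x3 => []) @(fun x3 x4 x5 => @List.rec.{(ku0+1), ku0} @x0 @(fun x6 => @List.{ku0} @x0) [] @(fun x6 x7 x8 => @x6 :: (@x4 @x7)) @x5) @x1 @x2)
private theorem _root_.Cfsg.Agent.KO4b55564.e8.{ku0} : @List.take.{ku0} = @_root_.Cfsg.Agent.KO4b55564.k8.{ku0} := by delta _root_.Cfsg.Agent.KO4b55564.k8; funext a0 a1 a2; refine (congrFun (_root_.Cfsg.Agent.KO4b55564.e6 (fun a1 a2 => @List.take.{ku0} a0 a1 a2) ?_ (fun c0 => ?_) a1) a2 :) <;> [(funext b0; (rfl')); (funext b0; (cases b0 with | @nil  => (rfl') | @cons b0_0 b0_1 => (rfl')))]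
private noncomputable def _root_.Cfsg.Agent.KO4b55564.oLe.{ku} (α : Sort ku) (a b : Nat) (f t : α) : α := @Decidable.rec (@LE.le Nat instLENat a b) (fun _ => α) (fun _ => f) (fun _ => t) (Nat.decLe a b)
private noncomputable def _root_.Cfsg.Agent.KO4b55564.k9.{ku} (α : Sort ku) (a b : Nat) (f t : α) : α := @Bool.rec (fun _ => α) f t (Nat.ble a b)
private theorem _root_.Cfsg.Agent.KO4b55564.e9.{ku} : @_root_.Cfsg.Agent.KO4b55564.oLe.{ku} = @_root_.Cfsg.Agent.KO4b55564.k9.{ku} := funext fun α => funext fun a => funext fun b => funext fun f => funext fun t => by delta _root_.Cfsg.Agent.KO4b55564.oLe _root_.Cfsg.Agent.KO4b55564.k9; cases h : Nat.ble a b <;> cases Nat.decLe a b <;> rename_i g <;> first | rfl | exact absurd (h.symm.trans (Nat.ble_eq_true_of_le g)) Bool.false_ne_true | exact absurd (Nat.le_of_ble_eq_true h) g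
private theorem _root_.Cfsg.Agent.KO4b55564.e10.{ku, kv} {α : Type kv} {M : List α → Sort ku} (φ : ∀ l, M l) {z : M List.nil} {s : ∀ a l, M l → M (List.cons a l)} (h0 : φ List.nil = z) (hs : ∀ a l, φ (List.cons a l) = s a l (φ l)) (l : List α) : φ l = @List.rec α M z s l := List.rec h0 (fun a l ih => (hs a l).trans (congrArg (s a l) ih)) l
private noncomputable def _root_.Cfsg.Agent.KO4b55564.k11.{ku0} : type_of% @List.length.{ku0} := @(fun x0 x1 => @List.rec.{1, ku0} @x0 @(fun x2 => ℕ) (nat_lit 0) @(fun x2 x3 x4 => @Nat.add @x4 (nat_lit 1)) @x1)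
private theorem _root_.Cfsg.Agent.KO4b55564.e11.{ku0} : @List.length.{ku0} = @_root_.Cfsg.Agent.KO4b55564.k11.{ku0} := by delta _root_.Cfsg.Agent.KO4b55564.k11; funext a0 a1; refine (_root_.Cfsg.Agent.KO4b55564.e10 (fun a1 => @List.length.{ku0} a0 a1) ?_ (fun c0 c1 => ?_) a1 :) <;> (rfl')
private noncomputable def _root_.Cfsg.Agent.KO4b55564.k12 : (by first | exact type_of% @Cfsg.Agent.TAB.Eng.allL | exact Unit : Sort _) := by first | (refine @Subtype.val _ (fun g => @Cfsg.Agent.TAB.Eng.allL = @g) (@Subtype.mk _ _ (@(fun x0 x1 x2 => @List.rec.{1, 0} @x0 @(fun x3 => @Bool) @Bool.true @(fun x3 x4 x5 => @Bool.rec.{1} @(fun x6 => @Bool) @Bool.false @x5 (@x1 @x3)) @x2)) ?_); rfl') | exact @Cfsg.Agent.TAB.Eng.allL | exact ()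
private theorem _root_.Cfsg.Agent.KO4b55564.e12 : (by first | exact @Cfsg.Agent.TAB.Eng.allL = @_root_.Cfsg.Agent.KO4b55564.k12 | exact True : Prop) := by first | (delta _root_.Cfsg.Agent.KO4b55564.k12; exact @Subtype.property _ (fun g => @Cfsg.Agent.TAB.Eng.allL = @g) _) | rfl | trivial
private noncomputable def _root_.Cfsg.Agent.KO4b55564.k13 : type_of% @Int.add := @(fun x0 x1 => @Int.rec.{1} @(fun x2 => ℤ) @(fun x2 => @Int.rec.{1} @(fun x3 => ℤ) @(fun x3 => @Int.ofNat (@Nat.add @x2 @x3)) @(fun x3 => @Nat.rec.{1} @(fun x4 => ℤ) (@Int.ofNat (@Nat.sub @x2 (@Nat.succ @x3))) @(fun x4 x5 => @Int.negSucc @x4) (@Nat.sub (@Nat.succ @x3) @x2)) @x1) @(fun x2 => @Int.rec.{1} @(fun x3 => ℤ) @(fun x3 => @Nat.rec.{1} @(fun x4 => ℤ) (@Int.ofNat (@Nat.sub @x3 (@Nat.succ @x2))) @(fun x4 x5 => @Int.negSucc @x4) (@Nat.sub (@Nat.succ @x2) @x3)) @(fun x3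 => @Int.negSucc (@Nat.succ (@Nat.add @x2 @x3))) @x1) @x0)
private theorem _root_.Cfsg.Agent.KO4b55564.e13 : @Int.add = @_root_.Cfsg.Agent.KO4b55564.k13 := by delta _root_.Cfsg.Agent.KO4b55564.k13; rfl'
private noncomputable def _root_.Cfsg.Agent.KO4b55564.k14 : (by first | exact type_of% @Cfsg.Agent.N2.Sp.rowsP | exact Unit : Sort _) := by first | (refine @Subtype.val _ (fun g => @Cfsg.Agent.N2.Sp.rowsP = @g) (@Subtype.mk _ _ (@(fun x0 => @Cfsg.Agent.KO4b55564.k0 _ (@Cfsg.Agent.KO4b55564.k11.{0} _ (@Cfsg.Agent.TAB.Use.Rows.deg @x0)) @(fun x1 => @Cfsg.Agent.TH.Spor.mapL _ _ @(fun x2 => @Bool.rec.{1} @(fun x3 => @List.{0} ℤ) [] (@Prod.snd.{0, 0} _ _ @x2) (@Cfsg.Agent.KO4b55564.k12 _ @(fun x3 => @Bool.rec.{1} @(fun x4 => @Bool) @Bool.false (@Decidable.rec.{1} _ @(fun x4 => @Bool) @(fun x4 => @Bool.false) @(fun x4 => @Bool.true) (@Int.rec.{1}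 @(fun x4 => @Decidable (@Int.NonNeg @x4)) @(fun x4 => @Decidable.isTrue _ (@Int.NonNeg.mk @x4)) @(fun x4 => @Decidable.isFalse _ (@Int.decNonneg._proof_1 @x4)) (@Int.add (@Prod.snd.{0, 0} _ _ @x3) (@Int.ofNat (nat_lit 0))))) (@Cfsg.Agent.KO4b55564.k9.{1} @Bool (@Nat.succ (@Prod.fst.{0, 0} _ _ @x3)) @x1 @Bool.false @Bool.true)) (@Prod.fst.{0, 0} _ _ @x2))) (@Cfsg.Agent.TAB.Use.Rows.rel @x0)))) ?_); rewrite [← Cfsg.Agent.KO4b55564.e9.{1}, ← Cfsg.Agent.KO4b55564.e12, ← Cfsg.Agent.KO4b55564.e11.{0}, ← Cfsg.Agent.KO4b55564.e0]; (try delta Cfsg.Agent.N2.Sp.rowsP Cfsg.Agent.TAB.Use.Rows.n); (try generalize @Cfsg.Agent.TAB.Eng.frc = g0); (try generalize @Cfsg.Agent.TH.Spor.mapL = g1); (try generalize @Cfsg.Agent.TAB.Eng.allL = g2); rfl') | exact @Cfsg.Agent.N2.Sp.rowsP | exact ()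
private theorem _root_.Cfsg.Agent.KO4b55564.e14 : (by first | exact @Cfsg.Agent.N2.Sp.rowsP = @_root_.Cfsg.Agent.KO4b55564.k14 | exact True : Prop) := by first | (delta _root_.Cfsg.Agent.KO4b55564.k14; exact @Subtype.property _ (fun g => @Cfsg.Agent.N2.Sp.rowsP = @g) _) | rfl | trivial
private noncomputable def _root_.Cfsg.Agent.KO4b55564.k15 : (by first | exact type_of% @Cfsg.Agent.N2.Sp3.Ly.shrt | exact Unit : Sort _) := by first | (refine @Subtype.val _ (fun g => @Cfsg.Agent.N2.Sp3.Ly.shrt = @g) (@Subtype.mk _ _ (@(fun x0 x1 => @Cfsg.Agent.KO4b55564.k5 (@Cfsg.Agent.TH.Spor.mapL _ _ @(fun x2 => @Cfsg.Agent.KO4b55564.k8.{0} _ @x0 (@Cfsg.Agent.TAB.Eng.ntd _ (@Cfsg.Agent.KO4b55564.k14 @Cfsg.Agent.N2.Sp.Ly.R) [] @x2)) ((nat_lit 2) :: ((nat_lit 27) :: ((nat_lit 31) :: ((nat_lit 29) :: []))))) @(fun x2 => @Cfsg.Agent.KO4b55564.k5 (@Cfsg.Agent.TH.Spor.mapL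 _ _ @(fun x3 => @Cfsg.Agent.KO4b55564.k8.{0} _ @x0 (@Prod.snd.{0, 0} _ _ @x3)) (@Cfsg.Agent.TAB.Use.Rows.rel @Cfsg.Agent.N2.Sp.Ly.R)) @(fun x3 => @x1 @x2 @x3)))) ?_); rewrite [← Cfsg.Agent.KO4b55564.e14, ← Cfsg.Agent.KO4b55564.e8.{0}, ← Cfsg.Agent.KO4b55564.e5]; (try delta Cfsg.Agent.N2.Sp3.Ly.shrt); (try generalize @Cfsg.Agent.N2.Sp.frcW = g0); (try generalize @Cfsg.Agent.TH.Spor.mapL = g1); (try generalize @Cfsg.Agent.TAB.Eng.ntd = g2); (try generalize @Cfsg.Agent.N2.Sp.rowsP = g3); (try generalize @Cfsg.Agent.N2.Sp.Ly.R = g4); rfl') | exact @Cfsg.Agent.N2.Sp3.Ly.shrt | exact ()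
private theorem _root_.Cfsg.Agent.KO4b55564.e15 : (by first | exact @Cfsg.Agent.N2.Sp3.Ly.shrt = @_root_.Cfsg.Agent.KO4b55564.k15 | exact True : Prop) := by first | (delta _root_.Cfsg.Agent.KO4b55564.k15; exact @Subtype.property _ (fun g => @Cfsg.Agent.N2.Sp3.Ly.shrt = @g) _) | rfl | trivial
private noncomputable def _root_.Cfsg.Agent.KO4b55564.k16 : (by first | exact type_of% @Cfsg.Agent.N2.Sp.flt | exact Unit : Sort _) := by first | (refine @Subtype.val _ (fun g => @Cfsg.Agent.N2.Sp.flt = @g) (@Subtype.mk _ _ (@(fun x0 x1 => @List.rec.{1, 0} ℕ @(fun x2 => ((@List.{0} ℕ) → @Bool) → @Bool) @(fun x2 => @x2 []) @(fun x2 x3 x4 x5 => @Cfsg.Agent.KO4b55564.k0 _ @x2 @(fun x6 => @Bool.rec.{1} @(fun x7 => @Bool) (@x4 @x5) (@x4 @(fun x7 => @x5 (@x6 :: @x7))) (@x0 @x6))) @x1)) ?_); rewrite [← Cfsg.Agent.KO4b55564.e0]; (try delta Cfsg.Agent.N2.Sp.flt);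 (try generalize @Cfsg.Agent.TAB.Eng.frc = g0); rfl') | exact @Cfsg.Agent.N2.Sp.flt | exact ()
private theorem _root_.Cfsg.Agent.KO4b55564.e16 : (by first | exact @Cfsg.Agent.N2.Sp.flt = @_root_.Cfsg.Agent.KO4b55564.k16 | exact True : Prop) := by first | (delta _root_.Cfsg.Agent.KO4b55564.k16; exact @Subtype.property _ (fun g => @Cfsg.Agent.N2.Sp.flt = @g) _) | rfl | trivial
private noncomputable def _root_.Cfsg.Agent.KO4b55564.k17 : (by first | exact type_of% @Cfsg.Agent.N2.Sp1.thr | exact Unit : Sort _) := by first | (refine @Subtype.val _ (fun g => @Cfsg.Agent.N2.Sp1.thr = @g) (@Subtype.mk _ _ (@(fun x0 x1 x2 x3 x4 => @Nat.div (@Nat.sub (@Nat.add (@Nat.mul (@Nat.mul @x2 @x3) (@Cfsg.Agent.TAB.Eng.ntd _ @x1 (nat_lit 0) @x4)) (@Cfsg.Agent.TAB.Eng.Dat.N @x0)) (nat_lit 1)) (@Cfsg.Agent.TAB.Eng.Dat.N @x0))) ?_); (try delta Cfsg.Agent.N2.Sp1.thr);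 (try generalize @Cfsg.Agent.TAB.Eng.ntd = g0); rfl') | exact @Cfsg.Agent.N2.Sp1.thr | exact ()
private theorem _root_.Cfsg.Agent.KO4b55564.e17 : (by first | exact @Cfsg.Agent.N2.Sp1.thr = @_root_.Cfsg.Agent.KO4b55564.k17 | exact True : Prop) := by first | (delta _root_.Cfsg.Agent.KO4b55564.k17; exact @Subtype.property _ (fun g => @Cfsg.Agent.N2.Sp1.thr = @g) _) | rfl | trivial
private noncomputable def _root_.Cfsg.Agent.KO4b55564.k19.{ku0} : type_of% @List.get?Internal.{ku0} := @(fun x0 x1 x2 => @List.rec.{(ku0+1), ku0} @x0 @(fun x3 => ℕ → @Option.{ku0} @x0) @(fun x3 => @Option.none.{ku0} _) @(fun x3 x4 x5 x6 => @Nat.rec.{(ku0+1)} @(fun x7 => @Option.{ku0} @x0) (@Option.some.{ku0} _ @x3) @(fun x7 x8 => @x5 @x7) @x6) @x1 @x2)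
private theorem _root_.Cfsg.Agent.KO4b55564.e19.{ku0} : @List.get?Internal.{ku0} = @_root_.Cfsg.Agent.KO4b55564.k19.{ku0} := by delta _root_.Cfsg.Agent.KO4b55564.k19; funext a0 a1 a2; refine (congrFun (_root_.Cfsg.Agent.KO4b55564.e10 (fun a1 a2 => @List.get?Internal.{ku0} a0 a1 a2) ?_ (fun c0 c1 => ?_) a1) a2 :) <;> [(funext b0; (rfl')); (funext b0; (cases b0 with | @zero  => (rfl') | @succ b0_0 => (rfl')))]
private noncomputable def _root_.Cfsg.Agent.KO4b55564.k20 : (by first | exact type_of% @Cfsg.Agent.TH.Spor.anyL | exact Unit : Sort _) := by first | (refine @Subtype.val _ (fun g => @Cfsg.Agent.TH.Spor.anyL = @g) (@Subtype.mk _ _ (@(fun x0 x1 x2 => @List.rec.{1, 0} @x0 @(fun x3 => @Bool) @Bool.false @(fun x3 x4 x5 => @Bool.rec.{1} @(fun x6 => @Bool) @x5 @Bool.true (@x1 @x3)) @x2)) ?_); rfl') | exact @Cfsg.Agent.TH.Spor.anyL | exact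 ()
private theorem _root_.Cfsg.Agent.KO4b55564.e20 : (by first | exact @Cfsg.Agent.TH.Spor.anyL = @_root_.Cfsg.Agent.KO4b55564.k20 | exact True : Prop) := by first | (delta _root_.Cfsg.Agent.KO4b55564.k20; exact @Subtype.property _ (fun g => @Cfsg.Agent.TH.Spor.anyL = @g) _) | rfl | trivial
private noncomputable def _root_.Cfsg.Agent.KO4b55564.oEq.{ku} (α : Sort ku) (a b : Nat) (f t : α) : α := @Decidable.rec (a = b) (fun _ => α) (fun _ => f) (fun _ => t) (Nat.decEq a b)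
private noncomputable def _root_.Cfsg.Agent.KO4b55564.k21.{ku} (α : Sort ku) (a b : Nat) (f t : α) : α := @Bool.rec (fun _ => α) f t (Nat.beq a b)
private theorem _root_.Cfsg.Agent.KO4b55564.e21.{ku} : @_root_.Cfsg.Agent.KO4b55564.oEq.{ku} = @_root_.Cfsg.Agent.KO4b55564.k21.{ku} := funext fun α => funext fun a => funext fun b => funext fun f => funext fun t => by delta _root_.Cfsg.Agent.KO4b55564.oEq _root_.Cfsg.Agent.KO4b55564.k21; cases h : Nat.beq a b <;> cases Nat.decEq a b <;> rename_i g <;> first | rfl | exact absurd g (Nat.ne_of_beq_eq_false h) | exact absurd (Nat.eq_of_beq_eq_true h) g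
private noncomputable def _root_.Cfsg.Agent.KO4b55564.k22 : (by first | exact type_of% @Cfsg.Agent.TAB.Eng.look | exact Unit : Sort _) := by first | (refine @Subtype.val _ (fun g => @Cfsg.Agent.TAB.Eng.look = @g) (@Subtype.mk _ _ (@(fun x0 x1 => @List.rec.{1, 0} (ℕ × ℕ) @(fun x2 => ℕ → ℕ) @(fun x2 => nat_lit 0) @(fun x2 x3 x4 x5 => @Cfsg.Agent.KO4b55564.k21.{1} ℕ (@Prod.fst.{0, 0} _ _ @x2) @x5 (@x4 @x5) (@Prod.snd.{0, 0} _ _ @x2)) @x0 @x1)) ?_); rewrite [← Cfsg.Agent.KO4b55564.e21.{1}]; funext a0 a1; refine (congrFun (_root_.Cfsg.Agent.KO4b55564.e10 (fun a0 a1 => @Cfsg.Agent.TAB.Eng.look a0 a1) ?_ (fun c0 c1 => ?_) a0) a1 :) <;> (rfl')) | exact @Cfsg.Agent.TAB.Eng.look | exact ()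
private theorem _root_.Cfsg.Agent.KO4b55564.e22 : (by first | exact @Cfsg.Agent.TAB.Eng.look = @_root_.Cfsg.Agent.KO4b55564.k22 | exact True : Prop) := by first | (delta _root_.Cfsg.Agent.KO4b55564.k22; exact @Subtype.property _ (fun g => @Cfsg.Agent.TAB.Eng.look = @g) _) | rfl | trivial
private noncomputable def _root_.Cfsg.Agent.KO4b55564.k23 : (by first | exact type_of% @Cfsg.Agent.TAB.Eng.Dat.pwf | exact Unit : Sort _) := by first | (refine @Subtype.val _ (fun g => @Cfsg.Agent.TAB.Eng.Dat.pwf = @g) (@Subtype.mk _ _ (@(fun x0 x1 x2 => @Cfsg.Agent.KO4b55564.k22 (@Option.rec.{1, 0} (@List.{0} (ℕ × ℕ)) @(fun x3 => @List.{0} (ℕ × ℕ)) [] @(fun x3 => @x3) (@Cfsg.Agent.KO4b55564.k19.{0} _ (@Cfsg.Agent.TAB.Eng.Dat.pwL @x0) @x1)) (@Nat.gcd @x2 (@Option.rec.{1, 0} ℕ @(fun x3 => ℕ) (nat_lit 0) @(fun x3 => @x3) (@Cfsg.Agent.KO4b55564.k19.{0} _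 (@Cfsg.Agent.TAB.Eng.Dat.ordL @x0) @x1))))) ?_); rewrite [← Cfsg.Agent.KO4b55564.e19.{0}, ← Cfsg.Agent.KO4b55564.e22]; (try delta Cfsg.Agent.TAB.Eng.Dat.pwf Cfsg.Agent.TAB.Eng.Dat.pw Cfsg.Agent.TAB.Eng.Dat.ord); (try generalize @Cfsg.Agent.TAB.Eng.look = g0); rfl') | exact @Cfsg.Agent.TAB.Eng.Dat.pwf | exact ()
private theorem _root_.Cfsg.Agent.KO4b55564.e23 : (by first | exact @Cfsg.Agent.TAB.Eng.Dat.pwf = @_root_.Cfsg.Agent.KO4b55564.k23 | exact True : Prop) := by first | (delta _root_.Cfsg.Agent.KO4b55564.k23; exact @Subtype.property _ (fun g => @Cfsg.Agent.TAB.Eng.Dat.pwf = @g) _) | rfl | trivial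
private noncomputable def _root_.Cfsg.Agent.KO4b55564.k24 : (by first | exact type_of% @Cfsg.Agent.N2.Sp.mem | exact Unit : Sort _) := by first | (refine @Subtype.val _ (fun g => @Cfsg.Agent.N2.Sp.mem = @g) (@Subtype.mk _ _ (@(fun x0 x1 => @List.rec.{1, 0} ℕ @(fun x2 => @Bool) @Bool.false @(fun x2 x3 x4 => @Bool.rec.{1} @(fun x5 => @Bool) @x4 @Bool.true (@Nat.beq @x2 @x1)) @x0)) ?_); rfl') | exact @Cfsg.Agent.N2.Sp.mem | exact ()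
private theorem _root_.Cfsg.Agent.KO4b55564.e24 : (by first | exact @Cfsg.Agent.N2.Sp.mem = @_root_.Cfsg.Agent.KO4b55564.k24 | exact True : Prop) := by first | (delta _root_.Cfsg.Agent.KO4b55564.k24; exact @Subtype.property _ (fun g => @Cfsg.Agent.N2.Sp.mem = @g) _) | rfl | trivial
private noncomputable def _root_.Cfsg.Agent.KO4b55564.k25.{ku0} : type_of% @List.append.{ku0} := @(fun x0 x1 x2 => @List.rec.{(ku0+1), ku0} @x0 @(fun x3 => (@List.{ku0} @x0) → @List.{ku0} @x0) @(fun x3 => @x3) @(fun x3 x4 x5 x6 => @x3 :: (@x5 @x6)) @x1 @x2)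
private theorem _root_.Cfsg.Agent.KO4b55564.e25.{ku0} : @List.append.{ku0} = @_root_.Cfsg.Agent.KO4b55564.k25.{ku0} := by delta _root_.Cfsg.Agent.KO4b55564.k25; funext a0 a1 a2; refine (congrFun (_root_.Cfsg.Agent.KO4b55564.e10 (fun a1 a2 => @List.append.{ku0} a0 a1 a2) ?_ (fun c0 c1 => ?_) a1) a2 :) <;> (rfl')
private noncomputable def _root_.Cfsg.Agent.KO4b55564.k26 : type_of% @List.range.loop := @(fun x0 x1 => @Nat.rec.{1} @(fun x2 => (@List.{0} ℕ) → @List.{0} ℕ) @(fun x2 => @x2) @(fun x2 x3 x4 => @x3 (@x2 :: @x4)) @x0 @x1)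
private theorem _root_.Cfsg.Agent.KO4b55564.e26 : @List.range.loop = @_root_.Cfsg.Agent.KO4b55564.k26 := by delta _root_.Cfsg.Agent.KO4b55564.k26; funext a0 a1; refine (congrFun (_root_.Cfsg.Agent.KO4b55564.e6 (fun a0 a1 => @List.range.loop a0 a1) ?_ (fun c0 => ?_) a0) a1 :) <;> (rfl')
private noncomputable def _root_.Cfsg.Agent.KO4b55564.k27 : (by first | exact type_of% @Cfsg.Agent.N2.Sp1.fro | exact Unit : Sort _) := by first | (refine @Subtype.val _ (fun g => @Cfsg.Agent.N2.Sp1.fro = @g) (@Subtype.mk _ _ (@(fun x0 x1 x2 => @Cfsg.Agent.TH.Spor.mapL _ _ @(fun x3 => @Bool.rec.{1} @(fun x4 => ℤ) (@Int.ofNat (nat_lit 0)) (@Int.ofNat (@Nat.div @x1 @x2)) (@Nat.beq (@Nat.mod @x2 (@Option.rec.{1, 0} ℕ @(fun x4 => ℕ) (nat_lit 0) @(fun x4 => @x4) (@Cfsg.Agent.KO4b55564.k19.{0} _ (@Cfsg.Agent.TAB.Eng.Dat.ordL @x0) @x3))) (nat_lit 0))) (@Cfsg.Agent.KO4b55564.k26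 (@Cfsg.Agent.TAB.Eng.Dat.n @x0) []))) ?_); rewrite [← Cfsg.Agent.KO4b55564.e26, ← Cfsg.Agent.KO4b55564.e19.{0}]; (try delta Cfsg.Agent.N2.Sp1.fro Cfsg.Agent.TAB.Eng.Dat.ord); (try generalize @Cfsg.Agent.TH.Spor.mapL = g0); rfl') | exact @Cfsg.Agent.N2.Sp1.fro | exact ()
private theorem _root_.Cfsg.Agent.KO4b55564.e27 : (by first | exact @Cfsg.Agent.N2.Sp1.fro = @_root_.Cfsg.Agent.KO4b55564.k27 | exact True : Prop) := by first | (delta _root_.Cfsg.Agent.KO4b55564.k27; exact @Subtype.property _ (fun g => @Cfsg.Agent.N2.Sp1.fro = @g) _) | rfl | trivial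
private noncomputable def _root_.Cfsg.Agent.KO4b55564.k28 : (by first | exact type_of% @Cfsg.Agent.TAB.Eng.addL | exact Unit : Sort _) := by first | (refine @Subtype.val _ (fun g => @Cfsg.Agent.TAB.Eng.addL = @g) (@Subtype.mk _ _ (@(fun x0 => @List.rec.{1, 0} ℤ @(fun x1 => (@List.{0} ℤ) → @List.{0} ℤ) @(fun x1 => @x1) @(fun x1 x2 x3 x4 => @List.rec.{1, 0} ℤ @(fun x5 => @List.{0} ℤ) (@x1 :: @x2) @(fun x5 x6 x7 => (@Cfsg.Agent.KO4b55564.k13 @x1 @x5) :: (@x3 @x6)) @x4) @x0)) ?_); rewrite [← Cfsg.Agent.KO4b55564.e13]; rfl') | exact @Cfsg.Agent.TAB.Eng.addL | exact ()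
private theorem _root_.Cfsg.Agent.KO4b55564.e28 : (by first | exact @Cfsg.Agent.TAB.Eng.addL = @_root_.Cfsg.Agent.KO4b55564.k28 | exact True : Prop) := by first | (delta _root_.Cfsg.Agent.KO4b55564.k28; exact @Subtype.property _ (fun g => @Cfsg.Agent.TAB.Eng.addL = @g) _) | rfl | trivial
private noncomputable def _root_.Cfsg.Agent.KO4b55564.k29.{ku0, ku1} : type_of% @List.map.{ku0, ku1} := @(fun x0 x1 x2 x3 => @List.rec.{(ku1+1), ku0} @x0 @(fun x4 => @List.{ku1} @x1) [] @(fun x4 x5 x6 => (@x2 @x4) :: @x6) @x3)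
private theorem _root_.Cfsg.Agent.KO4b55564.e29.{ku0, ku1} : @List.map.{ku0, ku1} = @_root_.Cfsg.Agent.KO4b55564.k29.{ku0, ku1} := by delta _root_.Cfsg.Agent.KO4b55564.k29; funext a0 a1 a2 a3; refine (_root_.Cfsg.Agent.KO4b55564.e10 (fun a3 => @List.map.{ku0, ku1} a0 a1 a2 a3) ?_ (fun c0 c1 => ?_) a3 :) <;> (rfl')
private noncomputable def _root_.Cfsg.Agent.KO4b55564.k30 : type_of% @Int.mul := @(fun x0 x1 => @Int.rec.{1} @(fun x2 => ℤ) @(fun x2 => @Int.rec.{1} @(fun x3 => ℤ) @(fun x3 => @Int.ofNat (@Nat.mul @x2 @x3)) @(fun x3 => @Nat.rec.{1} @(fun x4 => ℤ) (@Int.ofNat (nat_lit 0)) @(fun x4 x5 => @Int.negSucc @x4) (@Nat.mul @x2 (@Nat.succ @x3))) @x1) @(fun x2 => @Int.rec.{1} @(fun x3 => ℤ) @(fun x3 => @Nat.rec.{1} @(fun x4 => ℤ) (@Int.ofNat (nat_lit 0)) @(fun x4 x5 => @Int.negSucc @x4) (@Nat.mul (@Nat.succ @x2) @x3)) @(fun x3 => @Int.ofNat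 (@Nat.mul (@Nat.succ @x2) (@Nat.succ @x3))) @x1) @x0)
private theorem _root_.Cfsg.Agent.KO4b55564.e30 : @Int.mul = @_root_.Cfsg.Agent.KO4b55564.k30 := by delta _root_.Cfsg.Agent.KO4b55564.k30; rfl'
private noncomputable def _root_.Cfsg.Agent.KO4b55564.k31 : (by first | exact type_of% @Cfsg.Agent.TAB.Eng.comb | exact Unit : Sort _) := by first | (refine @Subtype.val _ (fun g => @Cfsg.Agent.TAB.Eng.comb = @g) (@Subtype.mk _ _ (@(fun x0 x1 => @List.rec.{1, 0} (ℤ × ℕ) @(fun x2 => @List.{0} ℤ) [] @(fun x2 x3 x4 => @Cfsg.Agent.KO4b55564.k28 (@Cfsg.Agent.KO4b55564.k29.{0, 0} _ _ (@Cfsg.Agent.KO4b55564.k30 (@Prod.fst.{0, 0} _ _ @x2)) (@Cfsg.Agent.TAB.Eng.ntd _ @x0 [] (@Prod.snd.{0, 0} _ _ @x2))) @x4) @x1)) ?_); rewrite [← Cfsg.Agent.KO4b55564.e30, ← Cfsg.Agent.KO4b55564.e29.{0, 0}, ← Cfsg.Agent.KO4b55564.e28]; (try delta Cfsg.Agent.TAB.Eng.comb);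 (try generalize @Cfsg.Agent.TAB.Eng.addL = g0); (try generalize @Cfsg.Agent.TAB.Eng.ntd = g1); rfl') | exact @Cfsg.Agent.TAB.Eng.comb | exact ()
private theorem _root_.Cfsg.Agent.KO4b55564.e31 : (by first | exact @Cfsg.Agent.TAB.Eng.comb = @_root_.Cfsg.Agent.KO4b55564.k31 | exact True : Prop) := by first | (delta _root_.Cfsg.Agent.KO4b55564.k31; exact @Subtype.property _ (fun g => @Cfsg.Agent.TAB.Eng.comb = @g) _) | rfl | trivial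
private noncomputable def _root_.Cfsg.Agent.KO4b55564.k32 : (by first | exact type_of% @Cfsg.Agent.SB.SporL.cmb | exact Unit : Sort _) := by first | (refine @Subtype.val _ (fun g => @Cfsg.Agent.SB.SporL.cmb = @g) (@Subtype.mk _ _ (@(fun x0 x1 => @Cfsg.Agent.KO4b55564.k31 @x0 (@Cfsg.Agent.KO4b55564.k29.{0, 0} _ _ @(fun x2 => (@Int.ofNat (@Prod.fst.{0, 0} _ _ @x2), @Prod.snd.{0, 0} _ _ @x2)) @x1))) ?_); rewrite [← Cfsg.Agent.KO4b55564.e29.{0, 0}, ← Cfsg.Agent.KO4b55564.e31]; (try delta Cfsg.Agent.SB.SporL.cmb); (try generalize @Cfsg.Agent.TAB.Eng.comb = g0); rfl') | exact @Cfsg.Agent.SB.SporL.cmb | exact ()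
private theorem _root_.Cfsg.Agent.KO4b55564.e32 : (by first | exact @Cfsg.Agent.SB.SporL.cmb = @_root_.Cfsg.Agent.KO4b55564.k32 | exact True : Prop) := by first | (delta _root_.Cfsg.Agent.KO4b55564.k32; exact @Subtype.property _ (fun g => @Cfsg.Agent.SB.SporL.cmb = @g) _) | rfl | trivial
private noncomputable def _root_.Cfsg.Agent.KO4b55564.k33 : (by first | exact type_of% @Cfsg.Agent.N2.Sp1.leaf | exact Unit : Sort _) := by first | (refine @Subtype.val _ (fun g => @Cfsg.Agent.N2.Sp1.leaf = @g) (@Subtype.mk _ _ (@(fun x0 x1 x2 x3 x4 => @Bool.rec.{1} @(fun x5 => @Bool) @Bool.true (@Bool.rec.{1} @(fun x5 => @Bool) (@x0 @x4) @Bool.true (@Cfsg.Agent.KO4b55564.k20 _ @(fun x5 => @Int.rec.{1} @(fun x6 => @Bool) @(fun x6 => @Bool.false) @(fun x6 => @Bool.true) @x5) @x2)) (@Nat.beq @x1 (nat_lit 0)))) ?_); rewrite [← Cfsg.Agent.KO4b55564.e20];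 (try delta Cfsg.Agent.N2.Sp1.leaf Cfsg.Agent.N2.Sp1.neg); (try generalize @Cfsg.Agent.TH.Spor.anyL = g0); rfl') | exact @Cfsg.Agent.N2.Sp1.leaf | exact ()
private theorem _root_.Cfsg.Agent.KO4b55564.e33 : (by first | exact @Cfsg.Agent.N2.Sp1.leaf = @_root_.Cfsg.Agent.KO4b55564.k33 | exact True : Prop) := by first | (delta _root_.Cfsg.Agent.KO4b55564.k33; exact @Subtype.property _ (fun g => @Cfsg.Agent.N2.Sp1.leaf = @g) _) | rfl | trivial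
private noncomputable def _root_.Cfsg.Agent.KO4b55564.k34 : (by first | exact type_of% @Cfsg.Agent.TAB.Eng.nth | exact Unit : Sort _) := by first | (refine @Subtype.val _ (fun g => @Cfsg.Agent.TAB.Eng.nth = @g) (@Subtype.mk _ _ (@(fun x0 => @List.rec.{1, 0} ℤ @(fun x1 => ℕ → ℤ) @(fun x1 => @Int.ofNat (nat_lit 0)) @(fun x1 x2 x3 x4 => @Nat.rec.{1} @(fun x5 => ℤ) @x1 @(fun x5 x6 => @x3 @x5) @x4) @x0)) ?_); rfl') | exact @Cfsg.Agent.TAB.Eng.nth | exact ()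
private theorem _root_.Cfsg.Agent.KO4b55564.e34 : (by first | exact @Cfsg.Agent.TAB.Eng.nth = @_root_.Cfsg.Agent.KO4b55564.k34 | exact True : Prop) := by first | (delta _root_.Cfsg.Agent.KO4b55564.k34; exact @Subtype.property _ (fun g => @Cfsg.Agent.TAB.Eng.nth = @g) _) | rfl | trivial
private noncomputable def _root_.Cfsg.Agent.KO4b55564.k35 : (by first | exact type_of% @Cfsg.Agent.N2.Sp1.mxz | exact Unit : Sort _) := by first | (refine @Subtype.val _ (fun g => @Cfsg.Agent.N2.Sp1.mxz = @g) (@Subtype.mk _ _ (@(fun x0 x1 x2 => @List.rec.{1, 0} ℕ @(fun x3 => ℤ) (@Cfsg.Agent.KO4b55564.k34 @x0 @x1) @(fun x3 x4 x5 => @Decidable.rec.{1} _ @(fun x6 => ℤ) @(fun x6 => @Cfsg.Agent.KO4b55564.k34 @x0 @x3) @(fun x6 => @x5) (@Int.rec.{1} @(fun x6 => @Decidable (@Int.NonNeg @x6)) @(fun x6 => @Decidable.isTrue _ (@Int.NonNeg.mk @x6)) @(fun x6 => @Decidable.isFalse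 _ (@Int.decNonneg._proof_1 @x6)) (@Int.add @x5 (@Int.rec.{1} @(fun x6 => ℤ) @(fun x6 => @Nat.rec.{1} @(fun x7 => ℤ) (@Int.ofNat (nat_lit 0)) @(fun x7 x8 => @Int.negSucc @x7) @x6) @(fun x6 => @Int.ofNat (@Nat.succ @x6)) (@Cfsg.Agent.KO4b55564.k34 @x0 @x3))))) @x2)) ?_); rewrite [← Cfsg.Agent.KO4b55564.e34]; (try delta Cfsg.Agent.N2.Sp1.mxz); (try generalize @Cfsg.Agent.TAB.Eng.nth = g0); rfl') | exact @Cfsg.Agent.N2.Sp1.mxz | exact ()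
private theorem _root_.Cfsg.Agent.KO4b55564.e35 : (by first | exact @Cfsg.Agent.N2.Sp1.mxz = @_root_.Cfsg.Agent.KO4b55564.k35 | exact True : Prop) := by first | (delta _root_.Cfsg.Agent.KO4b55564.k35; exact @Subtype.property _ (fun g => @Cfsg.Agent.N2.Sp1.mxz = @g) _) | rfl | trivial
private noncomputable def _root_.Cfsg.Agent.KO4b55564.k36 : (by first | exact type_of% @Cfsg.Agent.N2.Sp1.upZ | exact Unit : Sort _) := by first | (refine @Subtype.val _ (fun g => @Cfsg.Agent.N2.Sp1.upZ = @g) (@Subtype.mk _ _ (@(fun x0 x1 => @List.rec.{1, 0} ℤ @(fun x2 => (@List.{0} ℤ) → ((@List.{0} ℤ) → @Bool) → @Bool) @(fun x2 x3 => @x3 []) @(fun x2 x3 x4 x5 x6 => @List.rec.{1, 0} ℤ @(fun x7 => @Bool) (@x6 []) @(fun x7 x8 x9 => @Cfsg.Agent.KO4b55564.k3 _ (@Cfsg.Agent.KO4b55564.k13 @x2 (@Cfsg.Agent.KO4b55564.k30 @x0 @x7)) @(fun x10 => @x4 @x8 @(fun x11 =>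 @x6 (@x10 :: @x11)))) @x5) @x1)) ?_); rewrite [← Cfsg.Agent.KO4b55564.e30, ← Cfsg.Agent.KO4b55564.e13, ← Cfsg.Agent.KO4b55564.e3]; (try delta Cfsg.Agent.N2.Sp1.upZ); (try generalize @Cfsg.Agent.TAB.Eng.frcZ = g0); rfl') | exact @Cfsg.Agent.N2.Sp1.upZ | exact ()
private theorem _root_.Cfsg.Agent.KO4b55564.e36 : (by first | exact @Cfsg.Agent.N2.Sp1.upZ = @_root_.Cfsg.Agent.KO4b55564.k36 | exact True : Prop) := by first | (delta _root_.Cfsg.Agent.KO4b55564.k36; exact @Subtype.property _ (fun g => @Cfsg.Agent.N2.Sp1.upZ = @g) _) | rfl | trivial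
private noncomputable def _root_.Cfsg.Agent.KO4b55564.k37 : (by first | exact type_of% @Cfsg.Agent.N2.Sp1.upN | exact Unit : Sort _) := by first | (refine @Subtype.val _ (fun g => @Cfsg.Agent.N2.Sp1.upN = @g) (@Subtype.mk _ _ (@(fun x0 x1 => @List.rec.{1, 0} ℕ @(fun x2 => (@List.{0} ℕ) → ((@List.{0} ℕ) → @Bool) → @Bool) @(fun x2 x3 => @x3 []) @(fun x2 x3 x4 x5 x6 => @List.rec.{1, 0} ℕ @(fun x7 => @Bool) (@x6 []) @(fun x7 x8 x9 => @Cfsg.Agent.KO4b55564.k0 _ (@Nat.add @x2 (@Nat.mul @x0 @x7)) @(fun x10 => @x4 @x8 @(fun x11 => @x6 (@x10 :: @x11)))) @x5) @x1)) ?_); rewrite [← Cfsg.Agent.KO4b55564.e0]; (try delta Cfsg.Agent.N2.Sp1.upN); (try generalize @Cfsg.Agent.TAB.Eng.frc = g0); rfl') | exact @Cfsg.Agent.N2.Sp1.upN | exact ()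
private theorem _root_.Cfsg.Agent.KO4b55564.e37 : (by first | exact @Cfsg.Agent.N2.Sp1.upN = @_root_.Cfsg.Agent.KO4b55564.k37 | exact True : Prop) := by first | (delta _root_.Cfsg.Agent.KO4b55564.k37; exact @Subtype.property _ (fun g => @Cfsg.Agent.N2.Sp1.upN = @g) _) | rfl | trivial
private noncomputable def _root_.Cfsg.Agent.KO4b55564.k38 : (by first | exact type_of% @Cfsg.Agent.N2.Sp1.go | exact Unit : Sort _) := by first | (refine @Subtype.val _ (fun g => @Cfsg.Agent.N2.Sp1.go = @g) (@Subtype.mk _ _ (@(fun x0 x1 x2 x3 x4 x5 x6 x7 x8 => @Cfsg.Agent.KO4b55564.k0 _ (@Nat.sub @x4 @x8) @(fun x9 => @Cfsg.Agent.KO4b55564.k36 (@Int.ofNat @x8) @x5 @x1 @(fun x10 => @Cfsg.Agent.KO4b55564.k37 @x8 @x6 @x2 @(fun x11 => @x3 @x9 @x10 @x11 (((@x0, @x8)) :: @x7)))))) ?_); rewrite [← Cfsg.Agent.KO4b55564.e37, ← Cfsg.Agent.KO4b55564.e36, ← Cfsg.Agent.KO4b55564.e0];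 (try delta Cfsg.Agent.N2.Sp1.go); (try generalize @Cfsg.Agent.TAB.Eng.frc = g0); (try generalize @Cfsg.Agent.N2.Sp1.upZ = g1); (try generalize @Cfsg.Agent.N2.Sp1.upN = g2); rfl') | exact @Cfsg.Agent.N2.Sp1.go | exact ()
private theorem _root_.Cfsg.Agent.KO4b55564.e38 : (by first | exact @Cfsg.Agent.N2.Sp1.go = @_root_.Cfsg.Agent.KO4b55564.k38 | exact True : Prop) := by first | (delta _root_.Cfsg.Agent.KO4b55564.k38; exact @Subtype.property _ (fun g => @Cfsg.Agent.N2.Sp1.go = @g) _) | rfl | trivial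
private noncomputable def _root_.Cfsg.Agent.KO4b55564.k39 : (by first | exact type_of% @Cfsg.Agent.N2.Sp1.cut | exact Unit : Sort _) := by first | (refine @Subtype.val _ (fun g => @Cfsg.Agent.N2.Sp1.cut = @g) (@Subtype.mk _ _ (@(fun x0 x1 => @List.rec.{1, 0} ℤ @(fun x2 => (@List.{0} ℤ) → @Bool) @(fun x2 => @Bool.false) @(fun x2 x3 x4 x5 => @List.rec.{1, 0} ℤ @(fun x6 => @Bool) @Bool.false @(fun x6 x7 x8 => @Int.rec.{1} @(fun x9 => @Bool) @(fun x9 => @x4 @x7) @(fun x9 => @Bool.true) (@Cfsg.Agent.KO4b55564.k13 @x2 (@Cfsg.Agent.KO4b55564.k30 @x0 @x6))) @x5) @x1)) ?_); rewrite [← Cfsg.Agent.KO4b55564.e30, ← Cfsg.Agent.KO4b55564.e13]; rfl') | exact @Cfsg.Agent.N2.Sp1.cut | exact ()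
private theorem _root_.Cfsg.Agent.KO4b55564.e39 : (by first | exact @Cfsg.Agent.N2.Sp1.cut = @_root_.Cfsg.Agent.KO4b55564.k39 | exact True : Prop) := by first | (delta _root_.Cfsg.Agent.KO4b55564.k39; exact @Subtype.property _ (fun g => @Cfsg.Agent.N2.Sp1.cut = @g) _) | rfl | trivial
private noncomputable def _root_.Cfsg.Agent.KO4b55564.k40 : (by first | exact type_of% @Cfsg.Agent.N2.Sp1.node | exact Unit : Sort _) := by first | (refine @Subtype.val _ (fun g => @Cfsg.Agent.N2.Sp1.node = @g) (@Subtype.mk _ _ (@(fun x0 x1 x2 x3 x4 x5 x6 x7 x8 x9 x10 x11 => @Bool.rec.{1} @(fun x12 => @Bool) (@List.rec.{1, 0} ℕ @(fun x12 => @Bool) @Bool.false @(fun x12 x13 x14 => @Bool.rec.{1} @(fun x15 => @Bool) @Bool.true (@Cfsg.Agent.KO4b55564.k0 _ (@Nat.mod (@Nat.sub @x3 (@Nat.mod (@Nat.div @x12 @x2) @x3)) @x3) @(fun x15 => @Bool.rec.{1} @(fun x16 =>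 @Bool) @Bool.false (@Cfsg.Agent.KO4b55564.k0 _ (@Nat.div @x1 @x3) @(fun x16 => @Nat.rec.{1} @(fun x17 => @Bool) @Bool.true @(fun x17 x18 => @Bool.rec.{1} @(fun x19 => @Bool) @Bool.false @x18 (@Cfsg.Agent.KO4b55564.k0 _ (@Nat.add (@Nat.mul @x3 (@Nat.add @x16 @x17)) @x15) @(fun x19 => @Bool.rec.{1} @(fun x20 => @Bool) @Bool.true (@Bool.rec.{1} @(fun x20 => @Bool) @Bool.true (@Cfsg.Agent.KO4b55564.k38 @x0 @x4 @x6 @x7 @x8 @x9 @x13 @x11 @x19) (@Nat.ble @x19 @x8)) (@Nat.ble @x1 @x19)))) (@Nat.sub (@Nat.succ (@Nat.div @x8 @x3)) @x16))) (@Bool.rec.{1} @(fun x16 => @Bool) @Bool.true (@x7 @x8 @x9 @x13 (((@x0, nat_lit 0)) :: @x11)) (@Nat.beq @x15 (nat_lit 0))))) (@Nat.beq (@Nat.mod @x12 @x2) (nat_lit 0))) @x10) @Bool.true (@Cfsg.Agent.KO4b55564.k39 (@Int.ofNat @x8) @x9 @x5))) ?_); rewrite [← Cfsg.Agent.KO4b55564.e39, ← Cfsg.Agent.KO4b55564.e38,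 ← Cfsg.Agent.KO4b55564.e0]; (try delta Cfsg.Agent.N2.Sp1.node Cfsg.Agent.N2.Sp1.lp); (try generalize @Cfsg.Agent.TAB.Eng.frc = g0); (try generalize @Cfsg.Agent.N2.Sp1.go = g1); (try generalize @Cfsg.Agent.N2.Sp1.cut = g2); rfl') | exact @Cfsg.Agent.N2.Sp1.node | exact ()
private theorem _root_.Cfsg.Agent.KO4b55564.e40 : (by first | exact @Cfsg.Agent.N2.Sp1.node = @_root_.Cfsg.Agent.KO4b55564.k40 | exact True : Prop) := by first | (delta _root_.Cfsg.Agent.KO4b55564.k40; exact @Subtype.property _ (fun g => @Cfsg.Agent.N2.Sp1.node = @g) _) | rfl | trivial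
private noncomputable def _root_.Cfsg.Agent.KO4b55564.k41 : (by first | exact type_of% @Cfsg.Agent.N2.Sp1.lev | exact Unit : Sort _) := by first | (refine @Subtype.val _ (fun g => @Cfsg.Agent.N2.Sp1.lev = @g) (@Subtype.mk _ _ (@(fun x0 x1 x2 x3 x4 => @List.rec.{1, 0} ℕ @(fun x5 => (@List.{0} (@List.{0} ℕ)) → (@Cfsg.Agent.N2.Sp1.Fn → @Bool) → @Bool) @(fun x5 x6 => @x6 (@Cfsg.Agent.KO4b55564.k33 @x3)) @(fun x5 x6 x7 x8 x9 => @List.rec.{1, 0} (@List.{0} ℕ) @(fun x10 => @Bool) @Bool.false @(fun x10 x11 x12 => @Bool.rec.{1} @(fun x13 => @Bool) @Bool.false (@Cfsg.Agent.KO4b55564.k0 _ (@Bool.rec.{1} @(fun x13 => ℕ) (@Cfsg.Agent.TAB.Eng.ntd _ @x10 (nat_lit 0) @x5) @x0 (@Nat.beq (@Cfsg.Agent.TAB.Eng.ntd _ @x10 (nat_lit 0) @x5) (nat_lit 0))) @(fun x13 => @Bool.rec.{1} @(fun x14 => @Bool) @Bool.false (@Cfsg.Agent.KO4b55564.k0 _ (@Nat.div @x0 @x13)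 @(fun x14 => @Cfsg.Agent.KO4b55564.k0 _ (@x1 @x5) @(fun x15 => @Cfsg.Agent.KO4b55564.k4 _ (@Cfsg.Agent.TH.Spor.mapL _ _ @(fun x16 => @Cfsg.Agent.KO4b55564.k34 @x16 @x5) @x2) @(fun x16 => @Cfsg.Agent.KO4b55564.k4 _ (@Cfsg.Agent.TH.Spor.mapL _ _ @(fun x17 => @Cfsg.Agent.KO4b55564.k35 @x17 @x5 @x6) @x2) @(fun x17 => @Cfsg.Agent.KO4b55564.k1 _ (@Cfsg.Agent.TH.Spor.mapL _ _ @(fun x18 => @Cfsg.Agent.TAB.Eng.ntd _ @x18 (nat_lit 0) @x5) @x11) @(fun x18 => @x7 @x11 @(fun x19 => @x9 (@Cfsg.Agent.KO4b55564.k40 @x5 @x15 @x13 @x14 @x16 @x17 @x18 @x19)))))))) (@Nat.beq (@Nat.mod @x0 @x13) (nat_lit 0)))) (@Cfsg.Agent.KO4b55564.k12 _ @(fun x13 => @Nat.beq (@Cfsg.Agent.TAB.Eng.ntd _ @x10 (nat_lit 0) @x13) (nat_lit 0)) @x6)) @x8) @x4)) ?_); rewrite [← Cfsg.Agent.KO4b55564.e12, ← Cfsg.Agent.KO4b55564.e40, ← Cfsg.Agent.KO4b55564.e1, ← Cfsg.Agent.KO4b55564.e35,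 ← Cfsg.Agent.KO4b55564.e34, ← Cfsg.Agent.KO4b55564.e4, ← Cfsg.Agent.KO4b55564.e0, ← Cfsg.Agent.KO4b55564.e33]; (try delta Cfsg.Agent.N2.Sp1.lev); (try generalize @Cfsg.Agent.N2.Sp1.leaf = g0); (try generalize @Cfsg.Agent.TAB.Eng.frc = g1); (try generalize @Cfsg.Agent.TAB.Eng.ntd = g2); (try generalize @Cfsg.Agent.TAB.Eng.frcLZ = g3); (try generalize @Cfsg.Agent.TH.Spor.mapL = g4); (try generalize @Cfsg.Agent.TAB.Eng.nth = g5); (try generalize @Cfsg.Agent.N2.Sp1.mxz = g6); (try generalize @Cfsg.Agent.TAB.Eng.frcL = g7); (try generalize @Cfsg.Agent.N2.Sp1.node = g8); (try generalize @Cfsg.Agent.TAB.Eng.allL = g9); rfl') | exact @Cfsg.Agent.N2.Sp1.lev | exact ()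
private theorem _root_.Cfsg.Agent.KO4b55564.e41 : (by first | exact @Cfsg.Agent.N2.Sp1.lev = @_root_.Cfsg.Agent.KO4b55564.k41 | exact True : Prop) := by first | (delta _root_.Cfsg.Agent.KO4b55564.k41; exact @Subtype.property _ (fun g => @Cfsg.Agent.N2.Sp1.lev = @g) _) | rfl | trivial
private noncomputable def _root_.Cfsg.Agent.KO4b55564.k42 : (by first | exact type_of% @Cfsg.Agent.N2.Sp1.sol | exact Unit : Sort _) := by first | (refine @Subtype.val _ (fun g => @Cfsg.Agent.N2.Sp1.sol = @g) (@Subtype.mk _ _ (@(fun x0 x1 x2 => @Cfsg.Agent.KO4b55564.k1 _ (@Cfsg.Agent.TH.Spor.mapL _ _ (@Cfsg.Agent.KO4b55564.k22 @x2) (@Cfsg.Agent.KO4b55564.k26 @x0 [])) @(fun x3 => @Cfsg.Agent.KO4b55564.k20 _ @(fun x4 => @Cfsg.Agent.KO4b55564.k12 _ @(fun x5 => @Nat.beq (@Cfsg.Agent.TAB.Eng.ntd _ @x4 (nat_lit 0) @x5) (@Cfsg.Agent.TAB.Eng.ntd _ @x3 (nat_lit 0)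 @x5)) (@Cfsg.Agent.KO4b55564.k26 @x0 [])) @x1))) ?_); rewrite [← Cfsg.Agent.KO4b55564.e12, ← Cfsg.Agent.KO4b55564.e20, ← Cfsg.Agent.KO4b55564.e26, ← Cfsg.Agent.KO4b55564.e22, ← Cfsg.Agent.KO4b55564.e1]; (try delta Cfsg.Agent.N2.Sp1.sol); (try generalize @Cfsg.Agent.TAB.Eng.frcL = g0); (try generalize @Cfsg.Agent.TH.Spor.mapL = g1); (try generalize @Cfsg.Agent.TAB.Eng.look = g2); (try generalize @Cfsg.Agent.TH.Spor.anyL = g3); (try generalize @Cfsg.Agent.TAB.Eng.allL = g4); (try generalize @Cfsg.Agent.TAB.Eng.ntd = g5); rfl') | exact @Cfsg.Agent.N2.Sp1.sol | exact ()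
private theorem _root_.Cfsg.Agent.KO4b55564.e42 : (by first | exact @Cfsg.Agent.N2.Sp1.sol = @_root_.Cfsg.Agent.KO4b55564.k42 | exact True : Prop) := by first | (delta _root_.Cfsg.Agent.KO4b55564.k42; exact @Subtype.property _ (fun g => @Cfsg.Agent.N2.Sp1.sol = @g) _) | rfl | trivial
private noncomputable def _root_.Cfsg.Agent.KO4b55564.k43.{ku0} : type_of% @List.decidableBAll.{ku0} := @(fun x0 x1 x2 x3 => @List.rec.{1, ku0} @x0 @(fun x4 => @Decidable ((x5 : @x0) → (@Membership.mem.{ku0, ku0} _ _ _ @x4 @x5) → @x1 @x5)) (@Decidable.isTrue _ (@List.decidableBAll._proof_1.{ku0} _ @x1)) @(fun x4 x5 x6 => @Decidable.rec.{1} _ @(fun x7 => @Decidable ((x8 : @x0) → (@Membership.mem.{ku0, ku0} _ _ _ (@x4 :: @x5) @x8) → @x1 @x8)) @(fun x7 => @Decidable.isFalse _ (@List.decidableBAll._proof_4.{ku0} _ @x1 @x4 @x5 @x7)) @(fun x7 => @Decidable.rec.{1}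 _ @(fun x8 => @Decidable ((x9 : @x0) → (@Membership.mem.{ku0, ku0} _ _ _ (@x4 :: @x5) @x9) → @x1 @x9)) @(fun x8 => @Decidable.isFalse _ (@List.decidableBAll._proof_3.{ku0} _ @x1 @x4 @x5 @x8)) @(fun x8 => @Decidable.isTrue _ (@List.decidableBAll._proof_2.{ku0} _ @x1 @x4 @x5 @x7 @x8)) @x6) (@x2 @x4)) @x3)
private theorem _root_.Cfsg.Agent.KO4b55564.e43.{ku0} : @List.decidableBAll.{ku0} = @_root_.Cfsg.Agent.KO4b55564.k43.{ku0} := by delta _root_.Cfsg.Agent.KO4b55564.k43; funext a0 a1 a2 a3; refine (_root_.Cfsg.Agent.KO4b55564.e10 (fun a3 => @List.decidableBAll.{ku0} a0 a1 a2 a3) ?_ (fun c0 c1 => ?_) a3 :) <;> (rfl')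
private noncomputable def _root_.Cfsg.Agent.KO4b55564.k44.{ku0} : type_of% @List.instDecidablePairwise.{ku0} := @(fun x0 x1 x2 x3 => @List.rec.{1, ku0} @x0 @(fun x4 => @Decidable (@List.Pairwise.{ku0} _ @x1 @x4)) (@Decidable.isTrue _ (@List.Pairwise.nil.{ku0} _ _)) @(fun x4 x5 x6 => @Decidable.rec.{1} _ @(fun x7 => @Decidable (@List.Pairwise.{ku0} _ @x1 (@x4 :: @x5))) @(fun x7 => @Decidable.isFalse _ (@List.instDecidablePairwise._proof_3.{ku0} _ _ @x4 @x5 @x7)) @(fun x7 => @Decidable.rec.{1} _ @(fun x8 => @Decidable (@List.Pairwise.{ku0} _ @x1 (@x4 :: @x5))) @(fun x8 => @Decidable.isFalse _ (@List.instDecidablePairwise._proof_1.{ku0} _ _ @x4 @x5 @x8)) @(fun x8 => @Decidable.isTrue _ (@List.instDecidablePairwise._proof_2.{ku0} _ _ @x4 @x5 @x7 @x8)) (@Cfsg.Agent.KO4b55564.k43.{ku0} _ (@x1 @x4) (@x2 @x4) @x5)) @x6) @x3)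
private theorem _root_.Cfsg.Agent.KO4b55564.e44.{ku0} : @List.instDecidablePairwise.{ku0} = @_root_.Cfsg.Agent.KO4b55564.k44.{ku0} := by delta _root_.Cfsg.Agent.KO4b55564.k44; rewrite [← Cfsg.Agent.KO4b55564.e43.{ku0}]; funext a0 a1 a2 a3; refine (_root_.Cfsg.Agent.KO4b55564.e10 (fun a3 => @List.instDecidablePairwise.{ku0} a0 a1 a2 a3) ?_ (fun c0 c1 => ?_) a3 :) <;> (rfl')
private noncomputable def _root_.Cfsg.Agent.KO4b55564.k45 : type_of% @Nat.decEq := @(fun x0 x1 => @Bool.rec.{1} @(fun x2 => (@Eq.{1} _ (@Nat.beq @x0 @x1) @x2) → @Decidable (@Eq.{1} _ @x0 @x1)) @(fun x2 => @Decidable.isFalse _ (@Nat.ne_of_beq_eq_false _ _ @x2)) @(fun x2 => @Decidable.isTrue _ (@Nat.eq_of_beq_eq_true _ _ @x2)) (@Nat.beq @x0 @x1) (@Eq.refl.{1} _ (@Nat.beq @x0 @x1)))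
private theorem _root_.Cfsg.Agent.KO4b55564.e45 : @Nat.decEq = @_root_.Cfsg.Agent.KO4b55564.k45 := by delta _root_.Cfsg.Agent.KO4b55564.k45; rfl'
private noncomputable def _root_.Cfsg.Agent.KO4b55564.k46 : (by first | exact type_of% @Cfsg.Agent.N2.Sp1.one | exact Unit : Sort _) := by first | (refine @Subtype.val _ (fun g => @Cfsg.Agent.N2.Sp1.one = @g) (@Subtype.mk _ _ (@(fun x0 x1 x2 x3 x4 x5 x6 x7 x8 => @Bool.rec.{1} @(fun x9 => @Bool) @Bool.false (@Cfsg.Agent.KO4b55564.k5 (@Cfsg.Agent.KO4b55564.k25.{0} _ @x2 (@Cfsg.Agent.TH.Spor.mapL _ _ (@Cfsg.Agent.KO4b55564.k27 @x0 @x5) @x7)) @(fun x9 => @Cfsg.Agent.KO4b55564.k2 (@Cfsg.Agent.TH.Spor.mapL _ _ @(fun x10 => @Cfsg.Agent.TH.Spor.mapL _ _ @(fun x11 => @Int.rec.{1} @(fun x12 => ℕ) @(fun x12 => @x12) @(fun x12 => nat_lit 0) (@Int.rec.{1} @(fun x12 => ℤ) @(fun x12 => @Int.ofNat (@Nat.mod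 @x12 @x5)) @(fun x12 => @Nat.rec.{1} @(fun x13 => ℤ) (@Int.ofNat (@Nat.sub @x5 (@Nat.succ (@Nat.mod @x12 @x5)))) @(fun x13 x14 => @Int.negSucc @x13) (@Nat.sub (@Nat.succ (@Nat.mod @x12 @x5)) @x5)) @x11)) (@Cfsg.Agent.KO4b55564.k32 @x9 @x10)) @x8) @(fun x10 => @List.rec.{1, 0} (@List.{0} ℕ) @(fun x11 => @Bool) @Bool.false @(fun x11 x12 x13 => @Bool.rec.{1} @(fun x14 => @Bool) @Bool.false (@Bool.rec.{1} @(fun x14 => @Bool) @Bool.true (@Cfsg.Agent.KO4b55564.k41 @x5 @x4 @x1 (@Cfsg.Agent.KO4b55564.k42 (@Cfsg.Agent.TAB.Eng.Dat.n @x0) @x3) @x6 @x12 @(fun x14 => @Cfsg.Agent.KO4b55564.k4 _ (@Cfsg.Agent.TH.Spor.mapL _ _ @(fun x15 => @Cfsg.Agent.KO4b55564.k34 @x15 (nat_lit 0)) @x1) @(fun x15 => @Cfsg.Agent.KO4b55564.k1 _ (@Cfsg.Agent.TH.Spor.mapL _ _ @(fun x16 => @Cfsg.Agent.TAB.Eng.ntd _ @x16 (nat_lit 0) (nat_lit 0)) @x12) @(fun x16 => @x14 (@Nat.sub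 @x5 (nat_lit 1)) @x15 @x16 (((nat_lit 0, nat_lit 1)) :: []))))) (@Nat.beq (@Nat.mod (@Cfsg.Agent.TAB.Eng.ntd _ @x11 (nat_lit 0) (nat_lit 0)) @x5) (nat_lit 0))) (@Cfsg.Agent.KO4b55564.k12 _ @(fun x14 => @Nat.beq (@Cfsg.Agent.TAB.Eng.ntd _ @x11 (nat_lit 0) @x14) (nat_lit 0)) @x6)) @x10))) (@Bool.rec.{1} @(fun x9 => @Bool) @Bool.false (@Cfsg.Agent.KO4b55564.k12 _ @(fun x9 => @Nat.ble (@Nat.succ @x9) (@Cfsg.Agent.TAB.Eng.Dat.n @x0)) @x6) (@Bool.rec.{1} @(fun x9 => @Bool) @Bool.false (@Decidable.rec.{1} _ @(fun x9 => @Bool) @(fun x9 => @Bool.false) @(fun x9 => @Bool.true) (@Cfsg.Agent.KO4b55564.k44.{0} _ @(fun x9 x10 => @Ne.{1} _ @x9 @x10) @(fun x9 x10 => @Decidable.rec.{1} _ @(fun x11 => @Decidable (¬ (@Eq.{1} _ @x9 @x10))) @(fun x11 => @Decidable.isTrue _ @x11) @(fun x11 => @Decidable.isFalse _ (@absurd.{0} _ _ @x11)) (@Cfsg.Agent.KO4b55564.k45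 @x9 @x10)) ((nat_lit 0) :: @x6))) (@Cfsg.Agent.KO4b55564.k12 _ @(fun x9 => @Nat.beq (@Nat.mod @x5 @x9) (nat_lit 0)) @x7))))) ?_); rewrite [← Cfsg.Agent.KO4b55564.e45, ← Cfsg.Agent.KO4b55564.e44.{0}, ← Cfsg.Agent.KO4b55564.e12, ← Cfsg.Agent.KO4b55564.e1, ← Cfsg.Agent.KO4b55564.e34, ← Cfsg.Agent.KO4b55564.e4, ← Cfsg.Agent.KO4b55564.e42, ← Cfsg.Agent.KO4b55564.e41, ← Cfsg.Agent.KO4b55564.e32, ← Cfsg.Agent.KO4b55564.e2, ← Cfsg.Agent.KO4b55564.e27, ← Cfsg.Agent.KO4b55564.e25.{0}, ← Cfsg.Agent.KO4b55564.e5]; (try delta Cfsg.Agent.N2.Sp1.one Cfsg.Agent.N2.Sp1.red); (try generalize @Cfsg.Agent.N2.Sp.frcW = g0); (try generalize @Cfsg.Agent.TH.Spor.mapL = g1); (try generalize @Cfsg.Agent.N2.Sp1.fro = g2); (try generalize @Cfsg.Agent.N2.Sp1.frcV = g3); (try generalize @Cfsg.Agent.SB.SporL.cmb = g4); (try generalize @Cfsg.Agent.N2.Sp1.lev = g5);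 (try generalize @Cfsg.Agent.N2.Sp1.sol = g6); (try generalize @Cfsg.Agent.TAB.Eng.frcLZ = g7); (try generalize @Cfsg.Agent.TAB.Eng.nth = g8); (try generalize @Cfsg.Agent.TAB.Eng.frcL = g9); (try generalize @Cfsg.Agent.TAB.Eng.ntd = g10); (try generalize @Cfsg.Agent.TAB.Eng.allL = g11); rfl') | exact @Cfsg.Agent.N2.Sp1.one | exact ()
private theorem _root_.Cfsg.Agent.KO4b55564.e46 : (by first | exact @Cfsg.Agent.N2.Sp1.one = @_root_.Cfsg.Agent.KO4b55564.k46 | exact True : Prop) := by first | (delta _root_.Cfsg.Agent.KO4b55564.k46; exact @Subtype.property _ (fun g => @Cfsg.Agent.N2.Sp1.one = @g) _) | rfl | trivial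
private noncomputable def _root_.Cfsg.Agent.KO4b55564.k47 : (by first | exact type_of% @Cfsg.Agent.N2.Sp1.oneB | exact Unit : Sort _) := by first | (refine @Subtype.val _ (fun g => @Cfsg.Agent.N2.Sp1.oneB = @g) (@Subtype.mk _ _ (@(fun x0 x1 x2 x3 x4 x5 x6 => @Bool.rec.{1} @(fun x7 => @Bool) @Bool.false (@Cfsg.Agent.KO4b55564.k16 @(fun x7 => @Bool.rec.{1} @(fun x8 => @Bool) @Bool.false (@Nat.ble (@Cfsg.Agent.KO4b55564.k17 @x0 @x1 (@Prod.fst.{0, 0} _ _ (@Prod.snd.{0, 0} _ _ @x6)) (@Prod.fst.{0, 0} _ _ @x6) @x7) (@Prod.fst.{0, 0} _ _ @x6)) (@Bool.rec.{1} @(fun x8 => @Bool) @Bool.false (@Nat.beq (@Nat.mod (@Prod.fst.{0, 0} _ _ @x6) (@Option.rec.{1, 0} ℕ @(fun x8 => ℕ) (nat_lit 0) @(fun x8 => @x8) (@Cfsg.Agent.KO4b55564.k19.{0} _ (@Cfsg.Agent.TAB.Eng.Dat.ordL @x0) @x7))) (nat_lit 0)) (@Cfsg.Agent.KO4b55564.k20 _ @(fun x8 => @Bool.rec.{1} @(fun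 x9 => @Bool) @Bool.false (@Nat.ble (@Prod.fst.{0, 0} _ _ @x6) (@Prod.snd.{0, 0} _ _ (@Prod.snd.{0, 0} _ _ @x8))) (@Bool.rec.{1} @(fun x9 => @Bool) @Bool.false (@Nat.ble (@Prod.fst.{0, 0} _ _ (@Prod.snd.{0, 0} _ _ @x8)) (@Prod.fst.{0, 0} _ _ @x6)) (@Nat.beq (@Prod.fst.{0, 0} _ _ @x8) @x7))) @x2))) (@Cfsg.Agent.TH.Spor.mapL _ _ (@Prod.fst.{0, 0} _ _) @x2) @(fun x7 => @Cfsg.Agent.KO4b55564.k16 @(fun x8 => @Cfsg.Agent.KO4b55564.k12 _ @(fun x9 => @Cfsg.Agent.KO4b55564.k0 _ (@Cfsg.Agent.KO4b55564.k23 @x0 @x8 @x9) @(fun x10 => @Bool.rec.{1} @(fun x11 => @Bool) (@Cfsg.Agent.KO4b55564.k24 @x7 @x10) @Bool.true (@Nat.beq @x10 (nat_lit 0)))) ((nat_lit 2) :: ((nat_lit 3) :: ((nat_lit 5) :: [])))) @x7 @(fun x8 => @Cfsg.Agent.KO4b55564.k46 @x0 @x3 @x4 @x5 (@Cfsg.Agent.KO4b55564.k17 @x0 @x1 (@Prod.fst.{0, 0} _ _ (@Prod.snd.{0, 0} _ _ @x6)) (@Prod.fst.{0,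 0} _ _ @x6)) (@Prod.fst.{0, 0} _ _ @x6) @x8 (@Prod.fst.{0, 0} _ _ (@Prod.snd.{0, 0} _ _ (@Prod.snd.{0, 0} _ _ @x6))) (@Prod.snd.{0, 0} _ _ (@Prod.snd.{0, 0} _ _ (@Prod.snd.{0, 0} _ _ @x6)))))) (@Nat.ble (@Nat.mul (@Nat.pow (@Nat.sub (@Prod.fst.{0, 0} _ _ (@Prod.snd.{0, 0} _ _ @x6)) (nat_lit 1)) (nat_lit 3)) (@Prod.fst.{0, 0} _ _ @x6)) (@Cfsg.Agent.TAB.Eng.Dat.N @x0)))) ?_); rewrite [← Cfsg.Agent.KO4b55564.e46, ← Cfsg.Agent.KO4b55564.e24, ← Cfsg.Agent.KO4b55564.e23, ← Cfsg.Agent.KO4b55564.e0, ← Cfsg.Agent.KO4b55564.e12, ← Cfsg.Agent.KO4b55564.e20, ← Cfsg.Agent.KO4b55564.e19.{0}, ← Cfsg.Agent.KO4b55564.e17, ← Cfsg.Agent.KO4b55564.e16]; (try delta Cfsg.Agent.N2.Sp1.oneB Cfsg.Agent.TAB.Eng.Dat.ord); (try generalize @Cfsg.Agent.N2.Sp.flt = g0); (try generalize @Cfsg.Agent.N2.Sp1.thr = g1); (try generalize @Cfsg.Agent.TH.Spor.anyL = g2); (try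 generalize @Cfsg.Agent.TH.Spor.mapL = g3); (try generalize @Cfsg.Agent.TAB.Eng.allL = g4); (try generalize @Cfsg.Agent.TAB.Eng.frc = g5); (try generalize @Cfsg.Agent.TAB.Eng.Dat.pwf = g6); (try generalize @Cfsg.Agent.N2.Sp.mem = g7); (try generalize @Cfsg.Agent.N2.Sp1.one = g8); rfl') | exact @Cfsg.Agent.N2.Sp1.oneB | exact ()
private theorem _root_.Cfsg.Agent.KO4b55564.e47 : (by first | exact @Cfsg.Agent.N2.Sp1.oneB = @_root_.Cfsg.Agent.KO4b55564.k47 | exact True : Prop) := by first | (delta _root_.Cfsg.Agent.KO4b55564.k47; exact @Subtype.property _ (fun g => @Cfsg.Agent.N2.Sp1.oneB = @g) _) | rfl | trivial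
private noncomputable def _root_.Cfsg.Agent.KO4b55564.k48 : (by first | exact type_of% @Cfsg.Agent.TH.Spor.okIdx | exact Unit : Sort _) := by first | (refine @Subtype.val _ (fun g => @Cfsg.Agent.TH.Spor.okIdx = @g) (@Subtype.mk _ _ (@(fun x0 => @Cfsg.Agent.KO4b55564.k0 _ (@Cfsg.Agent.KO4b55564.k11.{0} _ (@Cfsg.Agent.TAB.Use.Rows.deg @x0)) @(fun x1 => @Cfsg.Agent.KO4b55564.k12 _ @(fun x2 => @Cfsg.Agent.KO4b55564.k12 _ @(fun x3 => @Nat.ble (@Nat.succ (@Prod.fst.{0, 0} _ _ @x3)) @x1) (@Prod.fst.{0, 0} _ _ @x2)) (@Cfsg.Agent.TAB.Use.Rows.rel @x0)))) ?_); rewrite [← Cfsg.Agent.KO4b55564.e12, ← Cfsg.Agent.KO4b55564.e11.{0}, ← Cfsg.Agent.KO4b55564.e0]; (try delta Cfsg.Agent.TH.Spor.okIdx Cfsg.Agent.TAB.Use.Rows.n); (try generalize @Cfsg.Agent.TAB.Eng.frc = g0); (try generalize @Cfsg.Agent.TAB.Eng.allL = g1); rfl') | exact @Cfsg.Agent.TH.Spor.okIdx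 | exact ()
private theorem _root_.Cfsg.Agent.KO4b55564.e48 : (by first | exact @Cfsg.Agent.TH.Spor.okIdx = @_root_.Cfsg.Agent.KO4b55564.k48 | exact True : Prop) := by first | (delta _root_.Cfsg.Agent.KO4b55564.k48; exact @Subtype.property _ (fun g => @Cfsg.Agent.TH.Spor.okIdx = @g) _) | rfl | trivial
private noncomputable def _root_.Cfsg.Agent.KO4b55564.k49 : (by first | exact type_of% @Cfsg.Agent.N2.Sp3.Ly.chkShort | exact Unit : Sort _) := by first | (refine @Subtype.val _ (fun g => @Cfsg.Agent.N2.Sp3.Ly.chkShort = @g) (@Subtype.mk _ _ (@(fun x0 => @Bool.rec.{1} @(fun x1 => @Bool) @Bool.false (@Cfsg.Agent.KO4b55564.k1 _ @Cfsg.Agent.N2.Sp.Ly.nu @(fun x1 => @Cfsg.Agent.KO4b55564.k2 @Cfsg.Agent.N2.Sp3.Ly.SOL @(fun x2 => @Cfsg.Agent.KO4b55564.k15 (nat_lit 8) @(fun x3 x4 => @Cfsg.Agent.KO4b55564.k15 (nat_lit 15) @(fun x5 x6 => @Cfsg.Agent.KO4b55564.k12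 _ @(fun x7 => @Bool.rec.{1} @(fun x8 => @Bool) (@Cfsg.Agent.KO4b55564.k47 @Cfsg.Agent.N2.Sp.Ly.D @x1 @Cfsg.Agent.N2.Sp3.Ly.O2 @x5 @x6 @x2 @x7) (@Cfsg.Agent.KO4b55564.k47 @Cfsg.Agent.N2.Sp.Ly.D @x1 @Cfsg.Agent.N2.Sp3.Ly.O2 @x3 @x4 @x2 @x7) (@Nat.ble (@Nat.succ (@Prod.fst.{0, 0} _ _ @x7)) (nat_lit 1109508))) @x0))))) (@Cfsg.Agent.KO4b55564.k48 @Cfsg.Agent.N2.Sp.Ly.R))) ?_); rewrite [← Cfsg.Agent.KO4b55564.e48, ← Cfsg.Agent.KO4b55564.e47, ← Cfsg.Agent.KO4b55564.e12, ← Cfsg.Agent.KO4b55564.e15, ← Cfsg.Agent.KO4b55564.e2, ← Cfsg.Agent.KO4b55564.e1]; (try delta Cfsg.Agent.N2.Sp3.Ly.chkShort); (try generalize @Cfsg.Agent.TAB.Eng.frcL = g0); (try generalize @Cfsg.Agent.N2.Sp.Ly.nu = g1); (try generalize @Cfsg.Agent.N2.Sp1.frcV = g2); (try generalize @Cfsg.Agent.N2.Sp3.Ly.SOL = g3); (try generalize @Cfsg.Agent.N2.Sp3.Ly.shrt = g4); (try generalize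 @Cfsg.Agent.TAB.Eng.allL = g5); (try generalize @Cfsg.Agent.N2.Sp1.oneB = g6); (try generalize @Cfsg.Agent.N2.Sp.Ly.D = g7); (try generalize @Cfsg.Agent.N2.Sp3.Ly.O2 = g8); (try generalize @Cfsg.Agent.TH.Spor.okIdx = g9); (try generalize @Cfsg.Agent.N2.Sp.Ly.R = g10); rfl') | exact @Cfsg.Agent.N2.Sp3.Ly.chkShort | exact ()
private theorem _root_.Cfsg.Agent.KO4b55564.e49 : (by first | exact @Cfsg.Agent.N2.Sp3.Ly.chkShort = @_root_.Cfsg.Agent.KO4b55564.k49 | exact True : Prop) := by first | (delta _root_.Cfsg.Agent.KO4b55564.k49; exact @Subtype.property _ (fun g => @Cfsg.Agent.N2.Sp3.Ly.chkShort = @g) _) | rfl | trivial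

theorem ok2 : chkShort CL2 = true := by (first | (rewrite [Cfsg.Agent.KO4b55564.e49]; decide +kernel) | decide +kernel)

end Cfsg.Agent.N2.Sp3.Ly
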