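import Cfsg.Agent.N2.Sp3.Lyv_m3
import Cfsg.Agent.Prune
set_option linter.all false
prune_inst 0x7f00000000000000000000000000000000000000000000000000000000000000000000000000000000000000000000000000000000000000000000000000000000000000000000000000000000000000003fffffffffffffffffffffffffffbeffbdffffffff
private noncomputable def lq265a142dba {T : Sort _} (f :
    type_of% (@_root_.List.cons.{0}) →
    type_of% (@_root_.Prod.mk.{0, 0}) →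
    type_of% (@_root_.List.nil.{0}) →
    type_of% (@_root_.List.cons.{0} (Prod Nat (Prod Nat (Prod (List Nat) (List (List (Prod Nat Nat))))))) → T) : T :=
  f (@_root_.List.cons.{0}) (@_root_.Prod.mk.{0, 0}) (@_root_.List.nil.{0}) (@_root_.List.cons.{0} (Prod Nat (Prod Nat (Prod (List Nat) (List (List (Prod Nat Nat)))))))

/-!
# N2 (S3519), the row of Ly: the exact sieve, part 3 (helper23; generated with notes/N2/sp45)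
-/

set_option autoImplicit false
set_option maxRecDepth 100000

namespace Cfsg.Agent.N2.Sp3.Ly

open Cfsg Cfsg.Agent.N2.Sp Cfsg.Agent.N2.Sp.Ly Cfsg.Agent.N2.Sp1

/-- the certificates -/
noncomputable def CL3 : List Ct := (beta% delta% lq265a142dba fun a b c d =>
 (let e:=(let e:=(let e:=(let e:=(d (b 3037500<|b 2574<|b (a 2<|a 759375<|a 3037500<|c) (a c<|a (a (b 2502140 0)<|a (b 2902964 1)<|a (b 2235552 2)<|a (b 3004332 3)<|a (b 2383316 4)<|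
 a (b 2979872 5)<|a (b 2064436 6)<|a (b 2028096 7)<|a (b 2944720 8)<|a (b 3012188 10)<|a (b 1 39)<|c)<|a (a (b 2621812 0)<|a (b 1231327 1)<|
 a (b 105635 2)<|a (b 587918 3)<|a (b 2518576 4)<|a (b 1034962 5)<|a (b 446174 6)<|a (b 1806681 7)<|a (b 3037497 8)<|c)<|a (a (b 2498626 0)<|
 a (b 933196 1)<|a (b 136724 2)<|a (b 2146634 3)<|a (b 849864 4)<|a (b 1148012 5)<|a (b 1309652 6)<|a (b 1 8)<|c)<|a (a (b 1521309 0)<|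
 a (b 2797733 1)<|a (b 1698079 2)<|a (b 863842 3)<|a (b 320078 4)<|a (b 40430 5)<|c)<|a (a (b 1330743 0)<|a (b 2158241 1)<|a (b 1157104 2)<|
 a (b 988264 3)<|a (b 579995 4)<|c)<|a (a (b 4 0)<|a (b 3037499 40)<|c)<|a (a (b 2787731 0)<|a (b 24993 1)<|a (b 3037498 2)<|c)<|a (a (b 1 41)<|c)<|c))<|
 d (b 3240000<|b 2519<|b (a 3240000<|c) (a c<|a (a (b 2894773 0)<|a (b 1825029 1)<|a (b 1974003 2)<|a (b 1556127 3)<|a (b 3134011 4)<|a (b 1146741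
 5)<|a (b 843272 6)<|a (b 1363536 7)<|a (b 1233 8)<|c)<|a (a (b 874310 0)<|a (b 783316 1)<|a (b 2433533 2)<|a (b 1482320 3)<|a (b 490652 4)<|
 a (b 2561863 5)<|a (b 382966 6)<|a (b 303057 7)<|c)<|a (a (b 544310 0)<|a (b 2401060 1)<|a (b 647576 2)<|a (b 525710 3)<|a (b 1435536 4)<|
 a (b 1229448 5)<|a (b 2750392 6)<|a (b 68388 7)<|a (b 3239999 8)<|c)<|a (a (b 404608 0)<|a (b 1192965 1)<|a (b 2336742 2)<|a (b 402723 3)<|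
 a (b 14745 4)<|a (b 2902290 5)<|a (b 3239999 6)<|c)<|a (a (b 1491123 0)<|a (b 1345676 1)<|a (b 1753984 2)<|a (b 1264879 3)<|a (b 2941080 4)<|c)<|
 a (a (b 2936249 0)<|a (b 2544329 1)<|a (b 1764431 2)<|a (b 3224384 3)<|c)<|a (a (b 133260 0)<|a (b 3226670 1)<|a (b 1 2)<|c)<|a (a (b 1 39)<|c)<|c))<|
 d (b 3645000<|b 2422<|b (a 455625<|a 3645000<|c) (a c<|a (a (b 3637557 0)<|a (b 1248427 1)<|a (b 827379 2)<|a (b 649263 3)<|a (b 3150063 4)<|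
 a (b 1020475 5)<|a (b 1249720 6)<|a (b 3316648 7)<|a (b 3634659 8)<|c)<|a (a (b 3596967 0)<|a (b 2181127 1)<|a (b 2633810 2)<|a (b 3264563
 3)<|a (b 2238051 4)<|a (b 1067782 5)<|a (b 1256889 6)<|a (b 3633981 7)<|a (b 3644997 8)<|c)<|a (a (b 2755638 0)<|a (b 802716 1)<|a (b 874884
 2)<|a (b 3281382 3)<|a (b 3550408 4)<|a (b 1968068 5)<|a (b 1124172 6)<|a (b 3644999 8)<|c)<|a (a (b 2911125 0)<|a (b 780035 1)<|a (b 419167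
 2)<|a (b 3061486 3)<|a (b 1823150 4)<|a (b 27608 5)<|c)<|a (a (b 2522397 0)<|a (b 3271139 1)<|a (b 1700458 2)<|a (b 1418356 3)<|a (b 3621063
 4)<|c)<|a (a (b 8 0)<|a (b 3644999 39)<|c)<|a (a (b 3345231 0)<|a (b 29993 1)<|a (b 3644998 2)<|c)<|a (a (b 1 40)<|c)<|c))<|
 d (b 3796875<|b 2389<|b c (a (a (b 2231343 0)<|a (b 1465684 1)<|a (b 1577225 2)<|a (b 2835152 3)<|a (b 1870470 4)<|a (b 1 5)<|c)<|a c<|a c<|a c<|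
 a c<|c))<|
 d (b 4374000<|b 2279<|b c (a (a (b 555110 0)<|a (b 4095509 1)<|a (b 3342268 2)<|a (b 507810 3)<|a (b 3032690 4)<|a (b 2017469 5)<|a (b 1950609
 6)<|a (b 1439432 7)<|a (b 2191108 8)<|a (b 62 9)<|c)<|a c<|a c<|a c<|a c<|a c<|a c<|a c<|a c<|c))<|
 d (b 4860000<|b 2201<|b (a 4860000<|c) (a c<|a (a (b 3638145 0)<|a (b 3580963 1)<|a (b 1127061 2)<|a (b 2969715 3)<|a (b 2472627 4)<|a (b 2995063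
 5)<|a (b 3583081 6)<|a (b 2599732 7)<|a (b 31491 8)<|c)<|a (a (b 880491 0)<|a (b 2650007 1)<|a (b 1705640 2)<|a (b 2381999 3)<|a (b 2205231
 4)<|a (b 245738 5)<|a (b 4761976 6)<|a (b 1224241 7)<|a (b 4859997 8)<|c)<|a (a (b 2043282 0)<|a (b 1520016 1)<|a (b 2932824 2)<|a (b 4346298
 3)<|a (b 4152628 4)<|a (b 3190664 5)<|a (b 3615864 6)<|a (b 4859999 8)<|c)<|a (a (b 4405002 0)<|a (b 3928279 1)<|a (b 1696778 2)<|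
 a (b 3627929 3)<|a (b 2390459 4)<|a (b 188524 5)<|c)<|a (a (b 3999723 0)<|a (b 195166 1)<|a (b 1779932 2)<|a (b 4235063 3)<|a (b 4186880 4)<|
 a (b 2 5)<|c)<|a (a (b 593564 0)<|a (b 3364359 1)<|a (b 2309101 2)<|a (b 11629 3)<|c)<|a (a (b 4460231 0)<|a (b 39993 1)<|a (b 4859998 2)<|c)<|a (a (b 1
 39)<|c)<|c))<|
 d (b 5467500<|b 2116<|b c (a (a (b 4682347 0)<|a (b 3192991 1)<|a (b 921032 2)<|a (b 291993 3)<|a (b 361801 4)<|a (b 3802699 5)<|a (b 2090586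
 6)<|a (b 1462792 7)<|a (b 2739812 8)<|a (b 1 9)<|c)<|a c<|a c<|a c<|a c<|a c<|a c<|a c<|a c<|c))<|c);
 (d (b 1399680<|b 3332<|b c (a (a (b 997862 0)<|a (b 1134678 1)<|a (b 767201 2)<|a (b 445278 3)<|a (b 1123784 4)<|a (b 1334946 5)<|a (b 467935
 6)<|a (b 1104180 7)<|a (b 224366 8)<|a (b 1 9)<|c)<|a c<|a c<|a c<|a c<|a c<|a c<|a c<|a c<|c))<|
 d (b 1687500<|b 3131<|b c (a (a (b 1629583 0)<|a (b 503926 1)<|a (b 1001987 2)<|a (b 636057 3)<|a (b 897049 4)<|a (b 174958 5)<|a (b 201626 6)<|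
 a (b 156744 7)<|a (b 1387 8)<|c)<|a c<|a c<|a c<|a c<|a c<|a c<|a c<|a c<|c))<|
 d (b 2187000<|b 2872<|b c (a (a (b 1402378 0)<|a (b 940228 1)<|a (b 1493081 2)<|a (b 1630302 3)<|a (b 1434934 4)<|a (b 1146340 5)<|a (b 750108
 6)<|a (b 686200 7)<|a (b 59441 8)<|a (b 1 9)<|c)<|a c<|a c<|a c<|a c<|a c<|a c<|a c<|a c<|c))<|
 d (b 2278125<|b 2833<|b (a 2278125<|c) (a c<|a (a (b 1075303 0)<|a (b 2001042 1)<|a (b 103956 2)<|a (b 214608 3)<|a (b 718146 4)<|a (b 37998 5)<|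
 a (b 2278124 7)<|c)<|a (a (b 884198 0)<|a (b 1914716 1)<|a (b 850874 2)<|a (b 231509 3)<|c)<|a (a (b 2090856 0)<|a (b 18743 1)<|a (b 2278123 2)<|c)<|
 a (a (b 1 39)<|c)<|c))<|
 d (b 2531250<|b 2735<|b c (a (a (b 1214719 0)<|a (b 1981251 1)<|a (b 2208653 2)<|a (b 1787021 3)<|a (b 1092817 4)<|a (b 611349 5)<|a (b 1224013
 6)<|a (b 2374502 7)<|c)<|a c<|a c<|a c<|a c<|a c<|a c<|a c<|c))<|
 d (b 3000000<|b 2585<|b c (a (a (b 890228 0)<|a (b 338366 1)<|a (b 1012142 2)<|a (b 222012 3)<|a (b 2495984 4)<|a (b 119978 5)<|a (b 2262191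
 6)<|a (b 474604 7)<|a (b 490042 8)<|c)<|a c<|a c<|a c<|a c<|a c<|a c<|a c<|a c<|c))<|
 e));
 (let e:=(d (b 675000<|b 4249<|b c (a (a (b 424370 0)<|a (b 285973 1)<|a (b 623808 2)<|a (b 596534 3)<|a (b 441070 4)<|a (b 100465 5)<|a (b 249188 6)<|
 a (b 4 7)<|c)<|a c<|a c<|a c<|a c<|a c<|a c<|c))<|
 d (b 759375<|b 4086<|b c (a (a (b 190803 0)<|a (b 128729 1)<|a (b 755131 2)<|a (b 140380 3)<|c)<|a c<|a c<|a c<|c))<|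
 d (b 864000<|b 3913<|b c (a (a (b 162180 0)<|a (b 81748 1)<|a (b 709243 2)<|a (b 523524 3)<|a (b 388992 4)<|a (b 188100 5)<|a (b 515136 6)<|
 a (b 325512 7)<|a (b 1 9)<|c)<|a c<|a c<|a c<|a c<|a c<|a c<|c))<|
 d (b 1000000<|b 3727<|b c (a (a (b 721519 0)<|a (b 227296 1)<|a (b 240572 2)<|a (b 999223 3)<|c)<|a c<|a c<|a c<|c))<|
 d (b 1166400<|b 3541<|b (a 1166400<|c) (a c<|a (a (b 146381 0)<|a (b 154721 1)<|a (b 384123 2)<|a (b 417831 3)<|a (b 401603 4)<|a (b 1067441 5)<|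
 a (b 27636 6)<|a (b 799280 7)<|a (b 133209 8)<|c)<|a (a (b 485451 0)<|a (b 602539 1)<|a (b 668534 2)<|a (b 960959 3)<|a (b 992019 4)<|
 a (b 584530 5)<|a (b 320415 6)<|a (b 737829 7)<|a (b 51 8)<|c)<|a (a (b 104170 0)<|a (b 914724 1)<|a (b 1137660 2)<|a (b 601602 3)<|a (b 669116
 4)<|a (b 578828 5)<|a (b 151226 6)<|a (b 1166399 8)<|c)<|a (a (b 137390 0)<|a (b 426791 1)<|a (b 1005676 2)<|a (b 1070581 3)<|a (b 614551 4)<|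
 a (b 339620 5)<|a (b 31 6)<|c)<|a (a (b 779439 0)<|a (b 1121993 1)<|a (b 586600 2)<|a (b 773272 3)<|a (b 12027 4)<|c)<|a (a (b 545582 0)<|
 a (b 1121425 1)<|a (b 601875 2)<|a (b 7893 3)<|c)<|a (a (b 1070631 0)<|a (b 9593 1)<|a (b 1166398 2)<|c)<|a (a (b 1 39)<|c)<|c))<|
 d (b 1200000<|b 3508<|b c (a (a (b 532186 0)<|a (b 566724 1)<|a (b 143803 2)<|a (b 324474 3)<|a (b 1108768 4)<|a (b 377988 5)<|a (b 33244 6)<|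
 a (b 239144 7)<|a (b 209508 8)<|a (b 1 9)<|c)<|a c<|a c<|a c<|a c<|a c<|a c<|a c<|a c<|c))<|
 e);
 (d (b 432000<|b 4931<|b c (a (a (b 382455 0)<|a (b 379168 1)<|a (b 307063 2)<|a (b 91159 3)<|a (b 301792 4)<|a (b 333600 5)<|a (b 411456 6)<|
 a (b 186672 7)<|a (b 1 9)<|c)<|a c<|a c<|a c<|a c<|a c<|a c<|c))<|
 d (b 480000<|b 4760<|b c (a (a (b 10003 0)<|a (b 157512 1)<|a (b 331927 2)<|a (b 417683 3)<|a (b 80112 4)<|a (b 121352 5)<|a (b 185704 6)<|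
 a (b 457424 7)<|a (b 1 9)<|c)<|a c<|a c<|a c<|a c<|a c<|a c<|c))<|
 d (b 486000<|b 4741<|b (a 30375<|a 486000<|c) (a c<|a (a (b 329381 0)<|a (b 232695 1)<|a (b 327099 2)<|a (b 440271 3)<|a (b 258155 4)<|a (b 63615 5)<|
 a (b 4408 6)<|c)<|a (a (b 151042 0)<|a (b 77909 1)<|a (b 187454 2)<|a (b 259466 3)<|a (b 261757 4)<|a (b 3048 5)<|a (b 1 7)<|c)<|a (a (b 214629 0)<|
 a (b 65323 1)<|a (b 437240 2)<|a (b 394592 3)<|a (b 122657 4)<|c)<|a (a (b 16 0)<|a (b 485999 39)<|c)<|a (a (b 446231 0)<|a (b 3993 1)<|a (b 485998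
 2)<|c)<|a (a (b 1 40)<|c)<|c))<|
 d (b 540000<|b 4577<|b (a 540000<|c) (a c<|a (a (b 58922 0)<|a (b 389385 1)<|a (b 386319 2)<|a (b 227820 3)<|a (b 451775 4)<|a (b 421689 5)<|
 a (b 504736 6)<|c)<|a (a (b 351077 0)<|a (b 386924 1)<|a (b 466361 2)<|a (b 85127 3)<|a (b 136712 4)<|a (b 342711 5)<|a (b 467660 6)<|a (b 1
 7)<|c)<|a (a (b 390780 0)<|a (b 198400 1)<|a (b 449219 2)<|a (b 191689 3)<|a (b 95824 4)<|a (b 539997 5)<|c)<|a (a (b 12386 0)<|a (b 135523 1)<|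
 a (b 384297 2)<|a (b 537735 3)<|c)<|a (a (b 451545 0)<|a (b 8875 1)<|a (b 539996 2)<|c)<|a (a (b 1 39)<|c)<|c))<|
 d (b 546750<|b 4558<|b c (a (a (b 421377 0)<|a (b 474679 1)<|a (b 65783 2)<|a (b 75419 3)<|a (b 184359 4)<|a (b 519119 5)<|c)<|a c<|a c<|a c<|a c<|
 a c<|c))<|
 d (b 648000<|b 4307<|b (a 648000<|c) (a c<|a (a (b 591830 0)<|a (b 97605 1)<|a (b 620679 2)<|a (b 437832 3)<|a (b 87335 4)<|a (b 122901 5)<|a (b 11500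
 6)<|c)<|a (a (b 319847 0)<|a (b 30269 1)<|a (b 372692 2)<|a (b 19475 3)<|a (b 107027 4)<|a (b 76600 5)<|a (b 560360 6)<|a (b 1 7)<|c)<|a (a (b 9126
 0)<|a (b 23187 1)<|a (b 466512 2)<|a (b 563673 3)<|a (b 448781 4)<|c)<|a (a (b 473144 0)<|a (b 285069 1)<|a (b 137791 2)<|a (b 643219 3)<|c)<|
 a (a (b 106289 0)<|a (b 637347 1)<|a (b 4 2)<|c)<|a (a (b 1 39)<|c)<|c))<|
 e)));
 (let e:=(let e:=(d (b 194400<|b 6434<|b (a 194400<|c) (a c<|a (a (b 26135 0)<|a (b 21105 1)<|a (b 100479 2)<|a (b 28377 3)<|a (b 94535 4)<|a (b 75321 5)<|a (b 190690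
 6)<|c)<|a (a (b 65978 0)<|a (b 145139 1)<|a (b 74366 2)<|a (b 69746 3)<|a (b 159557 4)<|a (b 114390 5)<|a (b 160118 6)<|a (b 1 7)<|c)<|a (a (b 21321
 0)<|a (b 67227 1)<|a (b 34032 2)<|a (b 189108 3)<|a (b 10121 4)<|c)<|a (a (b 39623 0)<|a (b 154917 1)<|a (b 129163 2)<|a (b 1186 3)<|c)<|
 a (a (b 178631 0)<|a (b 1593 1)<|a (b 194398 2)<|c)<|a (a (b 1 39)<|c)<|c))<|
 d (b 216000<|b 6212<|b (a 216000<|c) (a c<|a (a (b 41448 0)<|a (b 93503 1)<|a (b 66477 2)<|a (b 28178 3)<|a (b 33215 4)<|a (b 5563 5)<|a (b 155327 6)<|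
 a (b 44 7)<|c)<|a (a (b 183696 0)<|a (b 26249 1)<|a (b 62348 2)<|a (b 210764 3)<|a (b 38547 4)<|a (b 169500 5)<|a (b 171742 6)<|a (b 1 7)<|c)<|
 a (a (b 129231 0)<|a (b 163947 1)<|a (b 27492 2)<|a (b 40338 3)<|a (b 6941 4)<|c)<|a (a (b 174575 0)<|a (b 166641 1)<|a (b 157999 2)<|a (b 1982
 3)<|c)<|a (a (b 17603 0)<|a (b 214229 1)<|a (b 2 2)<|c)<|a (a (b 1 39)<|c)<|c))<|
 d (b 225000<|b 6128<|b c (a (a (b 123381 0)<|a (b 62499 1)<|a (b 40734 2)<|a (b 67741 3)<|a (b 184780 4)<|a (b 105239 5)<|a (b 113322 6)<|a (b 132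
 7)<|c)<|a c<|a c<|a c<|a c<|a c<|a c<|c))<|
 d (b 259200<|b 5846<|b c (a (a (b 149450 0)<|a (b 188708 1)<|a (b 139603 2)<|a (b 243434 3)<|a (b 204592 4)<|a (b 45780 5)<|a (b 227456 6)<|
 a (b 38392 7)<|a (b 1 9)<|c)<|a c<|a c<|a c<|a c<|a c<|a c<|c))<|
 d (b 288000<|b 5644<|b c (a (a (b 211126 0)<|a (b 194700 1)<|a (b 9715 2)<|a (b 122294 3)<|a (b 48192 4)<|a (b 85884 5)<|a (b 52936 6)<|
 a (b 203288 7)<|a (b 1 9)<|c)<|a c<|a c<|a c<|a c<|a c<|a c<|c))<|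
 d (b 349920<|b 5289<|b c (a (a (b 348328 0)<|a (b 239676 1)<|a (b 276571 2)<|a (b 102440 3)<|a (b 91152 4)<|a (b 220172 5)<|a (b 207208 6)<|
 a (b 57416 7)<|a (b 1 9)<|c)<|a c<|a c<|a c<|a c<|a c<|a c<|c))<|
 e);
 (d (b 101250<|b 7997<|b (a 50625<|a 101250<|c) (a c<|a (a (b 42908 0)<|a (b 23727 1)<|a (b 50438 2)<|a (b 66906 3)<|a (b 1942 4)<|a (b 37446 5)<|
 a (b 1129 6)<|a (b 50889 7)<|a (b 1 9)<|c)<|a (a (b 39951 0)<|a (b 69837 1)<|a (b 35337 2)<|a (b 92898 3)<|a (b 36806 4)<|c)<|a (a (b 2 0)<|a (b 101249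
 39)<|c)<|a (a (b 16289 0)<|a (b 99597 1)<|a (b 4 2)<|c)<|a (a (b 1 40)<|c)<|c))<|
 d (b 109350<|b 7794<|b c (a (a (b 50802 0)<|a (b 43354 1)<|a (b 90083 2)<|a (b 28844 3)<|a (b 10209 4)<|a (b 108044 5)<|c)<|a c<|a c<|a c<|a c<|
 a c<|c))<|
 d (b 140625<|b 7167<|b c (a (a (b 138034 0)<|a (b 42437 1)<|a (b 127893 2)<|a (b 77390 3)<|c)<|a c<|a c<|a c<|c))<|
 d (b 145800<|b 7081<|b (a 18225<|a 145800<|c) (a c<|a (a (b 77936 0)<|a (b 124770 1)<|a (b 90099 2)<|a (b 42666 3)<|a (b 98855 4)<|a (b 116810 5)<|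
 a (b 3673 6)<|c)<|a (a (b 51412 0)<|a (b 40379 1)<|a (b 112880 2)<|a (b 107024 3)<|a (b 85447 4)<|a (b 47742 5)<|a (b 1 7)<|c)<|a (a (b 85173 0)<|
 a (b 37051 1)<|a (b 46409 2)<|a (b 120554 3)<|a (b 143780 4)<|c)<|a (a (b 8 0)<|a (b 145799 39)<|c)<|a (a (b 134031 0)<|a (b 1193 1)<|a (b 145798
 2)<|c)<|a (a (b 1 40)<|c)<|c))<|
 d (b 160000<|b 6865<|b c (a (a (b 145546 0)<|a (b 21937 1)<|a (b 95626 2)<|a (b 134656 3)<|a (b 159999 4)<|c)<|a c<|a c<|a c<|c))<|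
 d (b 186624<|b 6522<|b c (a (a (b 49863 0)<|a (b 166448 1)<|a (b 6017 2)<|a (b 103495 3)<|a (b 83536 4)<|a (b 108400 5)<|a (b 186623 9)<|c)<|a c<|
 a c<|a c<|a c<|a c<|c))<|
 e));
 (let e:=(d (b 62500<|b 9392<|b c (a (a (b 32173 0)<|a (b 39307 1)<|a (b 22899 2)<|a (b 62241 3)<|c)<|a c<|a c<|a c<|c))<|
 d (b 67500<|b 9154<|b (a 2<|a 16875<|a 67500<|c) (a c<|a (a (b 4864 0)<|a (b 14400 1)<|a (b 48732 2)<|a (b 20352 3)<|a (b 18160 4)<|a (b 6924 5)<|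
 a (b 64592 6)<|a (b 1 39)<|c)<|a (a (b 35167 0)<|a (b 48659 1)<|a (b 65054 2)<|a (b 56891 3)<|a (b 29257 4)<|a (b 24198 5)<|a (b 1 7)<|c)<|a (a (b 20049
 0)<|a (b 26363 1)<|a (b 44035 2)<|a (b 16002 3)<|a (b 51922 4)<|c)<|a (a (b 4 0)<|a (b 67499 40)<|c)<|a (a (b 20787 0)<|a (b 58458 1)<|a (b 33 2)<|
 a (b 67499 3)<|c)<|a (a (b 1 41)<|c)<|c))<|
 d (b 72000<|b 8959<|b (a 72000<|c) (a c<|a (a (b 16688 0)<|a (b 5325 1)<|a (b 36039 2)<|a (b 63394 3)<|a (b 35895 4)<|a (b 6413 5)<|a (b 1864 6)<|c)<|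
 a (a (b 56348 0)<|a (b 21269 1)<|a (b 59900 2)<|a (b 61528 3)<|a (b 37267 4)<|a (b 23496 5)<|a (b 67538 6)<|a (b 1 7)<|c)<|a (a (b 22653 0)<|
 a (b 12411 1)<|a (b 21564 2)<|a (b 22944 3)<|a (b 71165 4)<|c)<|a (a (b 11204 0)<|a (b 13789 1)<|a (b 23871 2)<|a (b 71599 3)<|c)<|a (a (b 20040 0)<|
 a (b 69950 1)<|a (b 7 2)<|c)<|a (a (b 1 39)<|c)<|c))<|
 d (b 84375<|b 8498<|b c (a (a (b 53303 0)<|a (b 3729 1)<|a (b 80131 2)<|a (b 15380 3)<|c)<|a c<|a c<|a c<|c))<|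
 d (b 93750<|b 8204<|b c (a (a (b 75768 0)<|a (b 74361 1)<|a (b 31797 2)<|a (b 10396 3)<|a (b 79231 4)<|a (b 93571 5)<|c)<|a c<|a c<|a c<|a c<|a c<|c))<|
 d (b 97200<|b 8106<|b (a 6075<|a 97200<|c) (a c<|a (a (b 67027 0)<|a (b 91108 1)<|a (b 22227 2)<|a (b 84369 3)<|a (b 56245 4)<|a (b 32944 5)<|a (b 64554
 6)<|a (b 4 7)<|c)<|a (a (b 94342 0)<|a (b 2984 1)<|a (b 55019 2)<|a (b 57236 3)<|a (b 7282 4)<|a (b 27483 5)<|a (b 1 7)<|c)<|a (a (b 7983 0)<|a (b 82806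
 1)<|a (b 82416 2)<|a (b 73710 3)<|a (b 17375 4)<|a (b 3 5)<|c)<|a (a (b 16 0)<|a (b 97199 39)<|c)<|a (a (b 89431 0)<|a (b 793 1)<|a (b 97198 2)<|c)<|
 a (a (b 1 40)<|c)<|c))<|
 e);
 (d (b 40000<|b 10898<|b (a 40000<|c) (a c<|a (a (b 19465 0)<|a (b 5859 1)<|a (b 36279 2)<|a (b 39705 3)<|c)<|a (a (b 32783 0)<|a (b 32581 1)<|a (b 8 2)<|c)<|
 a (a (b 1 39)<|c)<|c))<|
 d (b 40500<|b 10853<|b (a 2<|a 10125<|a 40500<|c) (a c<|a (a (b 11314 0)<|a (b 19650 1)<|a (b 28857 2)<|a (b 11652 3)<|a (b 32035 4)<|a (b 6974 5)<|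
 a (b 23942 6)<|a (b 1 39)<|c)<|a (a (b 10822 0)<|a (b 40214 1)<|a (b 39668 2)<|a (b 29078 3)<|a (b 16117 4)<|a (b 10489 5)<|a (b 1 7)<|c)<|a (a (b 40452
 0)<|a (b 6799 1)<|a (b 7163 2)<|a (b 13121 3)<|a (b 3098 4)<|c)<|a (a (b 4 0)<|a (b 40499 40)<|c)<|a (a (b 6289 0)<|a (b 39847 1)<|a (b 4 2)<|c)<|a (a (b 1
 41)<|c)<|c))<|
 d (b 46875<|b 10337<|b c (a (a (b 3926 0)<|a (b 8968 1)<|a (b 27777 2)<|a (b 37960 3)<|c)<|a c<|a c<|a c<|c))<|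
 d (b 50625<|b 10075<|b (a 50625<|c) (a c<|a (a (b 21013 0)<|a (b 32111 1)<|a (b 35904 2)<|a (b 49359 3)<|c)<|a (a (b 2010 0)<|a (b 50420 1)<|a (b 1 2)<|c)<|
 a (a (b 1 39)<|c)<|c))<|
 d (b 54675<|b 9820<|b c (a (a (b 4209 0)<|a (b 3112 1)<|a (b 47993 2)<|a (b 52040 3)<|c)<|a c<|a c<|a c<|c))<|
 d (b 60000<|b 9520<|b (a 60000<|c) (a c<|a (a (b 25462 0)<|a (b 29235 1)<|a (b 35619 2)<|a (b 10880 3)<|a (b 12075 4)<|a (b 54499 5)<|a (b 806 6)<|c)<|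
 a (a (b 38145 0)<|a (b 31349 1)<|a (b 22670 2)<|a (b 50601 3)<|a (b 12757 4)<|a (b 49824 5)<|a (b 59614 6)<|a (b 1 7)<|c)<|a (a (b 57174 0)<|
 a (b 9363 1)<|a (b 3660 2)<|a (b 37377 3)<|a (b 59297 4)<|c)<|a (a (b 49631 0)<|a (b 56713 1)<|a (b 21207 2)<|a (b 58870 3)<|c)<|a (a (b 44237 0)<|
 a (b 7791 1)<|a (b 59968 2)<|c)<|a (a (b 1 39)<|c)<|c))<|
 e))));
 (let e:=(let e:=(let e:=(d (b 17280<|b 14416<|b c (a (a (b 775 0)<|a (b 10896 1)<|a (b 4471 2)<|a (b 8423 3)<|a (b 192 4)<|a (b 1360 5)<|a (b 12544 6)<|a (b 6896 7)<|a (b 1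
 9)<|c)<|a c<|a c<|a c<|a c<|a c<|a c<|c))<|
 d (b 20736<|b 13566<|b c (a (a (b 7356 0)<|a (b 8660 1)<|a (b 13757 2)<|a (b 19492 3)<|a (b 1432 4)<|a (b 8068 5)<|a (b 20735 9)<|c)<|a c<|a c<|a c<|
 a c<|a c<|c))<|
 d (b 21600<|b 13383<|b (a 21600<|c) (a c<|a (a (b 2351 0)<|a (b 195 1)<|a (b 4299 2)<|a (b 9801 3)<|a (b 1355 4)<|a (b 1195 5)<|a (b 21568 6)<|c)<|
 a (a (b 6071 0)<|a (b 8549 1)<|a (b 20858 2)<|a (b 13319 3)<|a (b 11297 4)<|a (b 9440 5)<|a (b 20342 6)<|a (b 1 7)<|c)<|a (a (b 4266 0)<|a (b 20867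
 1)<|a (b 5002 2)<|a (b 11393 3)<|a (b 20811 4)<|c)<|a (a (b 11090 0)<|a (b 12421 1)<|a (b 20319 2)<|a (b 21477 3)<|c)<|a (a (b 1603 0)<|a (b 21429
 1)<|a (b 2 2)<|c)<|a (a (b 1 39)<|c)<|c))<|
 d (b 27000<|b 12423<|b (a 3375<|a 27000<|c) (a c<|a (a (b 3816 0)<|a (b 20672 1)<|a (b 6891 2)<|a (b 382 3)<|a (b 2185 4)<|a (b 21420 5)<|a (b 7910 6)<|
 a (b 26996 7)<|c)<|a (a (b 23692 0)<|a (b 809 1)<|a (b 7424 2)<|a (b 25976 3)<|a (b 3307 4)<|a (b 2228 5)<|a (b 1 7)<|c)<|a (a (b 15135 0)<|a (b 16595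
 1)<|a (b 11071 2)<|a (b 1680 3)<|a (b 1534 4)<|c)<|a (a (b 8 0)<|a (b 26999 39)<|c)<|a (a (b 20649 0)<|a (b 3564 1)<|a (b 26967 2)<|a (b 26999 3)<|c)<|
 a (a (b 1 40)<|c)<|c))<|
 d (b 28800<|b 12159<|b c (a (a (b 13996 0)<|a (b 21612 1)<|a (b 23467 2)<|a (b 5900 3)<|a (b 25872 4)<|a (b 8604 5)<|a (b 27928 6)<|a (b 13064 7)<|
 a (b 1 9)<|c)<|a c<|a c<|a c<|a c<|a c<|a c<|c))<|
 d (b 32400<|b 11691<|b (a 2025<|a 32400<|c) (a c<|a (a (b 26465 0)<|a (b 22530 1)<|a (b 13329 2)<|a (b 20247 3)<|a (b 9485 4)<|a (b 266 5)<|a (b 5005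
 6)<|c)<|a (a (b 3046 0)<|a (b 28334 1)<|a (b 18041 2)<|a (b 27368 3)<|a (b 2392 4)<|a (b 12577 5)<|a (b 23112 6)<|a (b 1 7)<|c)<|a (a (b 11595 0)<|
 a (b 25370 1)<|a (b 15307 2)<|a (b 12568 3)<|a (b 14504 4)<|a (b 32399 5)<|c)<|a (a (b 16 0)<|a (b 32399 39)<|c)<|a (a (b 1260 0)<|a (b 32270 1)<|a (b 1
 2)<|c)<|a (a (b 1 40)<|c)<|c))<|
 d (b 34560<|b 11442<|b c (a (a (b 28599 0)<|a (b 19336 1)<|a (b 31831 2)<|a (b 27639 3)<|a (b 30192 4)<|a (b 15336 5)<|a (b 32256 6)<|a (b 32016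
 7)<|a (b 1 9)<|c)<|a c<|a c<|a c<|a c<|a c<|a c<|c))<|
 e);
 (d (b 9375<|b 17675<|b c (a (a (b 7051 0)<|a (b 5843 1)<|a (b 9027 2)<|a (b 6710 3)<|c)<|a c<|a c<|a c<|c))<|
 d (b 9720<|b 17464<|b (a 1215<|a 9720<|c) (a c<|a (a (b 5028 0)<|a (b 860 1)<|a (b 4299 2)<|a (b 1794 3)<|a (b 5805 4)<|a (b 1768 5)<|a (b 9584 6)<|
 a (b 9620 7)<|c)<|a (a (b 922 0)<|a (b 869 1)<|a (b 7994 2)<|a (b 8186 3)<|a (b 1657 4)<|a (b 288 5)<|a (b 1 7)<|c)<|a (a (b 6129 0)<|a (b 4683 1)<|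
 a (b 4065 2)<|a (b 1902 3)<|a (b 212 4)<|c)<|a (a (b 8 0)<|a (b 9719 39)<|c)<|a (a (b 9151 0)<|a (b 73 1)<|a (b 9718 2)<|c)<|a (a (b 1 40)<|c)<|c))<|
 d (b 10000<|b 17299<|b (a 10000<|c) (a c<|a (a (b 7274 0)<|a (b 8515 1)<|a (b 9371 2)<|a (b 9858 3)<|c)<|a (a (b 9583 0)<|a (b 7703 1)<|a (b 10 2)<|c)<|a (a (b 1
 39)<|c)<|c))<|
 d (b 11520<|b 16502<|b c (a (a (b 10336 0)<|a (b 5316 1)<|a (b 8971 2)<|a (b 9312 3)<|a (b 8512 4)<|a (b 6324 5)<|a (b 5872 6)<|a (b 1256 7)<|a (b 1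
 9)<|c)<|a c<|a c<|a c<|a c<|a c<|a c<|c))<|
 d (b 13500<|b 15652<|b (a 2<|a 3375<|a 13500<|c) (a c<|a (a (b 7308 0)<|a (b 2086 1)<|a (b 10758 2)<|a (b 11416 3)<|a (b 8530 4)<|a (b 9310 5)<|a (b 8530
 6)<|a (b 2248 7)<|a (b 1 39)<|c)<|a (a (b 4747 0)<|a (b 2264 1)<|a (b 8183 2)<|a (b 7073 3)<|a (b 13342 4)<|a (b 3399 5)<|a (b 1 7)<|c)<|a (a (b 11277
 0)<|a (b 1199 1)<|a (b 3988 2)<|a (b 11096 3)<|a (b 873 4)<|c)<|a (a (b 4 0)<|a (b 13499 40)<|c)<|a (a (b 13074 0)<|a (b 52 1)<|a (b 13499 2)<|c)<|a (a (b 1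
 41)<|c)<|c))<|
 d (b 15552<|b 14931<|b (a 15552<|c) (a c<|a (a (b 15258 0)<|a (b 2465 1)<|a (b 13471 2)<|a (b 2812 3)<|a (b 9727 4)<|a (b 15409 5)<|c)<|a (a (b 159 0)<|
 a (b 4954 1)<|a (b 10079 2)<|a (b 3866 3)<|a (b 4746 4)<|a (b 1 5)<|c)<|a (a (b 12011 0)<|a (b 6729 1)<|a (b 13255 2)<|a (b 15490 3)<|c)<|a (a (b 14503
 0)<|a (b 121 1)<|a (b 15550 2)<|c)<|a (a (b 1 39)<|c)<|c))<|
 e));
 (let e:=(d (b 5000<|b 21795<|b (a 5000<|c) (a c<|a (a (b 3085 0)<|a (b 4855 1)<|a (b 950 2)<|a (b 2 3)<|c)<|a (a (b 1 39)<|c)<|c))<|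
 d (b 5400<|b 21243<|b (a 675<|a 5400<|c) (a c<|a (a (b 3018 0)<|a (b 4484 1)<|a (b 1551 2)<|a (b 2108 3)<|a (b 2306 4)<|a (b 705 5)<|a (b 23 6)<|a (b 5399
 7)<|c)<|a (a (b 1737 0)<|a (b 219 1)<|a (b 3948 2)<|a (b 3276 3)<|a (b 4493 4)<|c)<|a (a (b 8 0)<|a (b 5399 39)<|c)<|a (a (b 4945 0)<|a (b 75 1)<|a (b 5396
 2)<|c)<|a (a (b 1 40)<|c)<|c))<|
 d (b 6075<|b 20426<|b (a 6075<|c) (a c<|a (a (b 4369 0)<|a (b 5619 1)<|a (b 866 2)<|a (b 5894 3)<|c)<|a (a (b 5806 0)<|a (b 43 1)<|a (b 6073 2)<|c)<|a (a (b 1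
 39)<|c)<|c))<|
 d (b 6250<|b 20233<|b c (a (a (b 4886 0)<|a (b 6205 1)<|a (b 6209 2)<|c)<|a c<|a c<|c))<|
 d (b 6480<|b 19991<|b (a 405<|a 6480<|c) (a c<|a (a (b 3398 0)<|a (b 3585 1)<|a (b 5139 2)<|a (b 1824 3)<|a (b 35 4)<|a (b 4673 5)<|a (b 6364 6)<|c)<|
 a (a (b 1327 0)<|a (b 1229 1)<|a (b 4988 2)<|a (b 923 3)<|a (b 2107 4)<|a (b 24 5)<|a (b 1 7)<|c)<|a (a (b 5343 0)<|a (b 4651 1)<|a (b 4784 2)<|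
 a (b 4874 3)<|a (b 5825 4)<|c)<|a (a (b 16 0)<|a (b 6479 39)<|c)<|a (a (b 689 0)<|a (b 6387 1)<|a (b 4 2)<|c)<|a (a (b 1 40)<|c)<|c))<|
 d (b 7776<|b 18812<|b (a 7776<|c) (a c<|a (a (b 246 0)<|a (b 6137 1)<|a (b 2671 2)<|a (b 184 3)<|a (b 3247 4)<|a (b 7753 5)<|c)<|a (a (b 1425 0)<|a (b 7385
 1)<|a (b 1972 2)<|a (b 2818 3)<|a (b 455 4)<|c)<|a (a (b 7430 0)<|a (b 1515 1)<|a (b 1585 2)<|a (b 67 3)<|c)<|a (a (b 7367 0)<|a (b 57 1)<|a (b 7774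
 2)<|c)<|a (a (b 1 39)<|c)<|c))<|
 e);
 (d (b 3456<|b 24651<|b c (a (a (b 2295 0)<|a (b 2624 1)<|a (b 1096 2)<|a (b 1079 3)<|a (b 460 4)<|c)<|a c<|a c<|a c<|a c<|c))<|
 d (b 3600<|b 24318<|b (a 225<|a 3600<|c) (a c<|a (a (b 1554 0)<|a (b 2343 1)<|a (b 2879 2)<|a (b 3108 3)<|a (b 1990 4)<|a (b 2780 5)<|a (b 290 6)<|
 a (b 3599 7)<|c)<|a (a (b 1539 0)<|a (b 2043 1)<|a (b 900 2)<|a (b 2022 3)<|a (b 77 4)<|c)<|a (a (b 16 0)<|a (b 3599 39)<|c)<|a (a (b 383 0)<|a (b 3509 1)<|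
 a (b 8 2)<|c)<|a (a (b 1 40)<|c)<|c))<|
 d (b 3645<|b 24217<|b (a 3645<|c) (a c<|a (a (b 3064 0)<|a (b 2394 1)<|a (b 1751 2)<|a (b 1244 3)<|c)<|a (a (b 3576 0)<|a (b 23 1)<|a (b 3643 2)<|c)<|a (a (b 1
 39)<|c)<|c))<|
 d (b 3888<|b 23702<|b (a 243<|a 3888<|c) (a c<|a (a (b 3252 0)<|a (b 587 1)<|a (b 2866 2)<|a (b 2467 3)<|a (b 163 4)<|c)<|a (a (b 16 0)<|a (b 3887 39)<|c)<|
 a (a (b 3799 0)<|a (b 25 1)<|a (b 3886 2)<|c)<|a (a (b 1 40)<|c)<|c))<|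
 d (b 4374<|b 22789<|b c (a (a (b 1104 0)<|a (b 2008 1)<|a (b 1307 2)<|a (b 1718 3)<|a (b 789 4)<|c)<|a c<|a c<|a c<|a c<|c))<|
 d (b 4860<|b 22003<|b (a 1215<|a 4860<|c) (a c<|a (a (b 3690 0)<|a (b 3183 1)<|a (b 4724 2)<|a (b 2522 3)<|a (b 2445 4)<|a (b 1744 5)<|a (b 128 6)<|
 a (b 4859 7)<|c)<|a (a (b 3465 0)<|a (b 1575 1)<|a (b 1116 2)<|a (b 2040 3)<|a (b 4289 4)<|c)<|a (a (b 4 0)<|a (b 4859 39)<|c)<|a (a (b 4691 0)<|a (b 33 1)<|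
 a (b 4858 2)<|c)<|a (a (b 1 40)<|c)<|c))<|
 e)));
 (let e:=(let e:=(d (b 1280<|b 34325<|b c (a (a (b 1252 0)<|a (b 1265 1)<|a (b 413 2)<|c)<|a c<|a c<|c))<|
 d (b 1350<|b 33722<|b (a 675<|a 1350<|c) (a c<|a (a (b 859 0)<|a (b 861 1)<|a (b 241 2)<|a (b 201 3)<|a (b 864 4)<|a (b 576 5)<|a (b 198 6)<|a (b 1 7)<|c)<|
 a (a (b 831 0)<|a (b 1097 1)<|a (b 367 2)<|a (b 1138 3)<|a (b 1316 4)<|c)<|a (a (b 2 0)<|a (b 1349 39)<|c)<|a (a (b 74 0)<|a (b 2 1)<|a (b 1349 2)<|c)<|a (a (b 1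
 40)<|c)<|c))<|
 d (b 1500<|b 32558<|b (a 375<|a 1500<|c) (a c<|a (a (b 748 0)<|a (b 1296 1)<|a (b 1279 2)<|a (b 130 3)<|a (b 292 4)<|a (b 1489 5)<|a (b 7 7)<|c)<|a (a (b 399
 0)<|a (b 1418 1)<|a (b 511 2)<|a (b 360 3)<|a (b 772 4)<|a (b 1499 5)<|c)<|a (a (b 4 0)<|a (b 1499 39)<|c)<|a (a (b 440 0)<|a (b 30 1)<|a (b 1489 2)<|c)<|
 a (a (b 1 40)<|c)<|c))<|
 d (b 1920<|b 29986<|b c (a (a (b 1899 0)<|a (b 178 1)<|a (b 206 2)<|a (b 1383 3)<|a (b 298 4)<|a (b 1738 5)<|c)<|a c<|a c<|a c<|a c<|a c<|c))<|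
 d (b 2025<|b 29459<|b (a 2025<|c) (a c<|a (a (b 736 0)<|a (b 500 1)<|a (b 1500 2)<|a (b 339 3)<|c)<|a (a (b 1986 0)<|a (b 2024 28)<|c)<|a (a (b 1 39)<|c)<|c))<|
 d (b 2592<|b 27132<|b c (a (a (b 954 0)<|a (b 441 1)<|a (b 2367 2)<|a (b 2352 3)<|a (b 2115 4)<|a (b 5 5)<|c)<|a c<|a c<|a c<|a c<|c))<|
 e);
 (d (b 480<|b 47600<|b c (a (a (b 340 0)<|a (b 359 1)<|a (b 13 2)<|a (b 126 3)<|a (b 339 4)<|a (b 31 5)<|a (b 479 6)<|c)<|a c<|a c<|a c<|a c<|a c<|c))<|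
 d (b 648<|b 43068<|b (a 81<|a 648<|c) (a c<|a (a (b 45 0)<|a (b 555 1)<|a (b 273 2)<|a (b 522 3)<|a (b 28 4)<|c)<|a (a (b 8 0)<|a (b 647 39)<|c)<|a (a (b 628 0)<|
 a (b 646 1)<|a (b 1 2)<|c)<|a (a (b 1 40)<|c)<|c))<|
 d (b 800<|b 40147<|b c (a (a (b 612 0)<|a (b 785 1)<|a (b 253 2)<|c)<|a c<|a c<|c))<|
 d (b 972<|b 37624<|b (a 243<|a 972<|c) (a c<|a (a (b 195 0)<|a (b 895 1)<|a (b 305 2)<|a (b 8 3)<|a (b 940 4)<|c)<|a (a (b 4 0)<|a (b 971 39)<|c)<|a (a (b 67 0)<|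
 a (b 971 20)<|c)<|a (a (b 1 40)<|c)<|c))<|
 d (b 1000<|b 37269<|b (a 1000<|c) (a c<|a (a (b 727 0)<|a (b 16 1)<|a (b 659 2)<|c)<|a (a (b 1 39)<|c)<|c))<|
 d (b 1080<|b 36325<|b (a 135<|a 1080<|c) (a c<|a (a (b 132 0)<|a (b 303 1)<|a (b 959 2)<|a (b 390 3)<|a (b 1030 4)<|a (b 932 5)<|a (b 74 6)<|a (b 1079 7)<|c)<|
 a (a (b 831 0)<|a (b 427 1)<|a (b 707 2)<|a (b 408 3)<|a (b 186 4)<|c)<|a (a (b 8 0)<|a (b 1079 39)<|c)<|a (a (b 426 0)<|a (b 1071 2)<|a (b 4 3)<|c)<|a (a (b 1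
 40)<|c)<|c))<|
 e));
 (let e:=(d (b 200<|b 63729<|b (a 200<|c) (a c<|a (a (b 118 0)<|a (b 34 1)<|a (b 81 2)<|a (b 199 3)<|c)<|a (a (b 1 39)<|c)<|c))<|
 d (b 240<|b 59972<|b (a 15<|a 240<|c) (a c<|a (a (b 149 0)<|a (b 83 1)<|a (b 189 2)<|a (b 83 3)<|a (b 160 4)<|a (b 80 5)<|a (b 239 7)<|c)<|a (a (b 63 0)<|a (b 99
 1)<|a (b 96 2)<|a (b 114 3)<|a (b 165 4)<|a (b 239 8)<|c)<|a (a (b 16 0)<|a (b 239 39)<|c)<|a (a (b 13 0)<|a (b 239 1)<|c)<|a (a (b 1 40)<|c)<|c))<|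
 d (b 243<|b 59724<|b (a 243<|c) (a c<|a (a (b 67 0)<|a (b 242 20)<|c)<|a (a (b 1 39)<|c)<|c))<|
 d (b 250<|b 59161<|b (a 250<|c) (a c<|a (a (b 51 0)<|a (b 236 1)<|a (b 65 2)<|c)<|a (a (b 1 39)<|c)<|c))<|
 d (b 256<|b 58695<|b c (a (a (b 110 0)<|a (b 255 1)<|c)<|a c<|c))<|
 d (b 360<|b 52390<|b (a 45<|a 360<|c) (a c<|a (a (b 165 0)<|a (b 323 1)<|a (b 324 2)<|a (b 217 3)<|a (b 205 4)<|a (b 344 5)<|a (b 8 6)<|a (b 359 7)<|c)<|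
 a (a (b 105 0)<|a (b 235 1)<|a (b 101 2)<|a (b 110 3)<|a (b 344 4)<|c)<|a (a (b 8 0)<|a (b 359 39)<|c)<|a (a (b 6 0)<|a (b 357 2)<|a (b 4 3)<|c)<|a (a (b 1 40)<|c)<|c))<|
 e);
 (a (b 40<|b 108975<|b (a 40<|c) (a c<|a (a (b 15 0)<|a (b 39 9)<|c)<|a (a (b 1 39)<|c)<|c))<|
 a (b 48<|b 102550<|b (a 16<|a 48<|c) (a c<|a (a (b 1 39)<|c)<|a (a (b 17 0)<|a (b 43 1)<|a (b 47 16)<|a (b 1 40)<|c)<|a (a (b 13 0)<|a (b 47 1)<|c)<|a (a (b 1 40)<|c)<|c))<|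
 a (b 72<|b 89585<|b (a 9<|a 72<|c) (a c<|a (a (b 15 0)<|a (b 67 1)<|a (b 53 2)<|a (b 44 3)<|a (b 16 4)<|c)<|a (a (b 8 0)<|a (b 71 39)<|c)<|a (a (b 9 0)<|a (b 71 26)<|c)<|
 a (a (b 1 40)<|c)<|c))<|
 a (b 75<|b 88375<|b (a 75<|c) (a c<|a (a (b 74 0)<|a (b 59 1)<|a (b 26 2)<|a (b 19 3)<|c)<|a (a (b 65 0)<|a (b 74 36)<|c)<|a (a (b 1 39)<|c)<|c))<|
 a (b 81<|b 86136<|b (a 81<|c) (a c<|a (a (b 42 21)<|a (b 80 28)<|c)<|a (a (b 1 39)<|c)<|c))<|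
 a (b 100<|b 80294<|b (a 100<|c) (a c<|a (a (b 7 0)<|a (b 16 1)<|a (b 79 2)<|c)<|a (a (b 1 39)<|c)<|c))<|
 e))))))

theorem ok3 : chkShort CL3 = true := by decide +kernel

end Cfsg.Agent.N2.Sp3.Ly
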